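import Mathlib
import Cfsg.Agent.H63.SLDefs

/-!
# STD-LIE2, piece COM: commutators of the doubled root subgroups
-/

set_option autoImplicit false
set_option linter.unusedSectionVars false

namespace Cfsg.Agent.H54.SLCom

open Cfsg Cfsg.Agent.H63 Cfsg.Agent.H63.SL Cfsg.Agent.H34 Cfsg.Agent.H40 Subgroup
open scoped commutatorElement

universe u v

section Grp

variable {G : Type u} [Group G]

theorem inv_eq {p : G} (h : p * p = 1) : p⁻¹ = p := inv_eq_of_mul_eq_one_right h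

/-- An element whose 2-part is `1` or `t`. -/
theorem odd_or [Finite G] {K : Subgroup G} {t k : G} (ht : t * t = 1) (hk : k ∈ K)
    (hkt : Commute k t)
    (h2 : ∀ k ∈ K, Commute k t → (∃ n : ℕ, k ^ 2 ^ n = 1) → k = 1 ∨ k = t) :
    Odd (orderOf k) ∨ Odd (orderOf (k * t)) := by
  have hpos : orderOf k ≠ 0 := (orderOf_pos k).ne'
  obtain ⟨n, m, hm, hnm⟩ := Nat.exists_eq_two_pow_mul_odd hpos
  have h1 : (k ^ m) ^ 2 ^ n = 1 := by
    rw [← pow_mul, mul_comm, ← hnm, pow_orderOf_eq_one]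
  rcases h2 (k ^ m) (K.pow_mem hk m) (hkt.pow_left m) ⟨n, h1⟩ with h | h
  · left
    exact Odd.of_dvd_nat hm (orderOf_dvd_of_pow_eq_one h)
  · right
    refine Odd.of_dvd_nat hm (orderOf_dvd_of_pow_eq_one ?_)
    obtain ⟨j, rfl⟩ := hm
    rw [hkt.mul_pow, h, pow_succ t, pow_mul, pow_two, ht, one_pow, one_mul, ht]

/-- If `p` inverts `m * k`, `m ^ 4 = 1`, `k` has odd order and commutes with `m` and `p`,
then `k = 1`. -/
theorem odd_triv {p m k : G} (hinv : p * (m * k) * p⁻¹ = (m * k)⁻¹) (hm : m ^ 4 = 1)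
    (hk : Odd (orderOf k)) (hmk : Commute m k) (hpk : Commute k p) : k = 1 := by
  have h1 : (m * k) ^ 4 = k ^ 4 := by rw [hmk.mul_pow, hm, one_mul]
  have h2 : p * (m * k) ^ 4 * p⁻¹ = ((m * k) ^ 4)⁻¹ := by
    rw [← conj_pow, hinv, inv_pow]
  rw [h1, ← (hpk.pow_left 4).eq, mul_inv_cancel_right] at h2
  have h3 : k ^ 8 = 1 := by
    rw [show 8 = 4 + 4 by rfl, pow_add]
    exact mul_eq_one_iff_eq_inv.mpr h2
  have h4 : orderOf k ∣ 2 ^ 3 := orderOf_dvd_of_pow_eq_one h3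
  have h5 : Nat.Coprime (orderOf k) (2 ^ 3) :=
    Nat.Coprime.pow_right 3 (Nat.coprime_two_right.mpr hk)
  exact orderOf_eq_one_iff.mp (h5.eq_one_of_dvd h4)

theorem inv_comm {p p' : G} (hp : p * p = 1) : p * ⁅p, p'⁆ * p⁻¹ = ⁅p, p'⁆⁻¹ := by
  rw [commutatorElement_inv, commutatorElement_def, commutatorElement_def, inv_eq hp]
  simp only [← mul_assoc, hp, one_mul]

/-- Changing `p'` by an element commuting with `p`. -/
theorem comm_right {p p' e : G} (h : Commute p e) : ⁅p, p' * e⁆ = ⁅p, p'⁆ := by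
  simp only [commutatorElement_def, mul_inv_rev]
  calc p * (p' * e) * p⁻¹ * (e⁻¹ * p'⁻¹) = p * p' * (e * p⁻¹ * e⁻¹) * p'⁻¹ := by group
    _ = p * p' * p⁻¹ * p'⁻¹ := by rw [← h.inv_left.eq, mul_inv_cancel_right]

theorem comm_left {p p' e : G} (h : Commute p' e) : ⁅p * e, p'⁆ = ⁅p, p'⁆ := by
  rw [← commutatorElement_inv, comm_right h, commutatorElement_inv]

theorem conj_comm (l p p' : G) : l * ⁅p, p'⁆ * l⁻¹ = ⁅l * p * l⁻¹, l * p' * l⁻¹⁆ := by
  simp only [commutatorElement_def]; group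

theorem conj_eq {l p : G} (hp : p * p = 1) : l * p * l⁻¹ = p * ⁅p, l⁆ := by
  rw [commutatorElement_def, inv_eq hp]
  simp only [← mul_assoc, hp, one_mul]

/-- `l` fixes `p` and moves `p'` by an element commuting with `p`. -/
theorem fix_right {l p p' : G} (hp' : p' * p' = 1) (h1 : Commute p l) (h2 : Commute p ⁅p', l⁆) :
    Commute ⁅p, p'⁆ l := by
  have : l * ⁅p, p'⁆ * l⁻¹ = ⁅p, p'⁆ := by
    rw [conj_comm, conj_eq hp', ← h1.eq, mul_inv_cancel_right, comm_right h2]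
  exact (mul_inv_eq_iff_eq_mul.mp this).symm

theorem fix_left {l p p' : G} (hp : p * p = 1) (h1 : Commute p' l) (h2 : Commute p' ⁅p, l⁆) :
    Commute ⁅p, p'⁆ l := by
  have := (fix_right hp h1 h2).inv_left
  rwa [commutatorElement_inv] at this

theorem commute_comm {p p' y : G} (h : Commute p y) (h' : Commute p' y) : Commute ⁅p, p'⁆ y := by
  rw [commutatorElement_def]
  exact ((h.mul_left h').mul_left h.inv_left).mul_left h'.inv_left

/-- The elements centralizing `Z` and centralizing `y` modulo `Z`. -/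
def cm (Z : Subgroup G) (y : G) : Subgroup G where
  carrier := {g | (∀ z ∈ Z, Commute g z) ∧ ⁅g, y⁆ ∈ Z}
  one_mem' := ⟨fun z _ => Commute.one_left z, by simp⟩
  mul_mem' := by
    rintro g h ⟨hg, hg'⟩ ⟨hh, hh'⟩
    refine ⟨fun z hz => (hg z hz).mul_left (hh z hz), ?_⟩
    have : ⁅g * h, y⁆ = g * ⁅h, y⁆ * g⁻¹ * ⁅g, y⁆ := by
      simp only [commutatorElement_def]; group
    rw [this, (hg _ hh').eq, mul_inv_cancel_right]
    exact Z.mul_mem hh' hg'
  inv_mem' := by
    rintro g ⟨hg, hg'⟩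
    refine ⟨fun z hz => (hg z hz).inv_left, ?_⟩
    have : ⁅g⁻¹, y⁆ = g⁻¹ * ⁅g, y⁆⁻¹ * g := by
      simp only [commutatorElement_def]; group
    rw [this, mul_assoc, ← (hg _ (Z.inv_mem hg')).eq, inv_mul_cancel_left]
    exact Z.inv_mem hg'

end Grp

section Main

variable {ι Φ : Type} [Fintype ι] [DecidableEq ι] {R : RS ι Φ}
variable {F : Type v} [Field F] {G : Type u} [Group G] {L : Subgroup G} {x : Φ → F → G} {t : G}
variable {Xh : Φ → Subgroup G}

theorem x_zero (hp : Pin R x) (r : Φ) : x r 0 = 1 := by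
  have := hp.add r 0 0
  rw [add_zero] at this
  exact left_eq_mul.mp this

theorem x_sq (hp : Pin R x) (r : Φ) (a : F) : x r a * x r a = 1 := by
  rw [← hp.add, ← two_mul, hp.two, zero_mul, x_zero hp]

theorem x_mem_UU {S : Set Φ} {r : Φ} (hr : r ∈ S) (a : F) : x r a ∈ UU x S :=
  subset_closure ⟨r, hr, subset_closure ⟨a, rfl⟩⟩

theorem UU_le {S : Set Φ} {H : Subgroup G} (h : ∀ r ∈ S, ∀ a, x r a ∈ H) : UU x S ≤ H := by
  refine (closure_le _).mpr ?_
  rintro g ⟨r, hr, hg⟩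
  refine (closure_le H).mpr ?_ hg
  rintro _ ⟨a, rfl⟩
  exact h r hr a

theorem commute_UU {S : Set Φ} {g u : G} (h : ∀ r ∈ S, ∀ a, Commute g (x r a))
    (hu : u ∈ UU x S) : Commute g u := by
  have : UU x S ≤ C1[g] := UU_le fun r hr a =>
    mem_centralizer_singleton_iff.mpr (h r hr a).symm.eq
  exact (mem_centralizer_singleton_iff.mp (this hu)).symm

theorem x_mem_L (hc : Ctx R L x t) (r : Φ) (a : F) : x r a ∈ L :=
  hc.mod.gen ▸ x_mem_UU (Set.mem_univ r) a

theorem UU_le_L (hc : Ctx R L x t) (S : Set Φ) : UU x S ≤ L :=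
  UU_le fun r _ a => x_mem_L hc r a

theorem cL {k g : G} (hk : k ∈ C[L]) (hg : g ∈ L) : Commute k g :=
  (mem_centralizer_iff.mp hk g hg).symm

theorem t_sq (hc : Ctx R L x t) : t * t = 1 := by
  rw [← pow_two, ← hc.t2, pow_orderOf_eq_one]

theorem t_x (hc : Ctx R L x t) (r : Φ) (a : F) : Commute t (x r a) := cL hc.tc (x_mem_L hc r a)

theorem h_sq (hh : Hats R L x t Xh) {r : Φ} {p : G} (hp : p ∈ Xh r) : p * p = 1 :=
  ((hh.mem r p).mp hp).2.1

theorem h_x (hh : Hats R L x t Xh) {r s : Φ} {p : G} (hp : p ∈ Xh r) (h : 0 ≤ R.pair r s)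
    (a : F) : Commute p (x s a) :=
  (mem_centralizer_iff.mp ((hh.mem r p).mp hp).1 _ (x_mem_UU (S := {s | 0 ≤ R.pair r s}) h a)).symm

theorem h_t (hh : Hats R L x t Xh) {r : Φ} {p : G} (hp : p ∈ Xh r) :
    ∃ a, p * t * p⁻¹ = t * x r a :=
  ((hh.mem r p).mp hp).2.2.1

theorem h_comm (hh : Hats R L x t Xh) {r : Φ} {p q : G} (hp : p ∈ Xh r) (hq : q ∈ Xh r) :
    Commute p q := by
  have h := h_sq hh ((Xh r).mul_mem hp hq)
  have := inv_eq h
  rw [mul_inv_rev, inv_eq (h_sq hh hp), inv_eq (h_sq hh hq)] at this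
  exact this.symm

theorem mem_N (hc : Ctx R L x t) {g : G} (h : Commute g t) : g ∈ N[L] :=
  hc.cN (mem_centralizer_singleton_iff.mpr h.eq)

/-- `k ∈ C(L) ∩ C(t)` is `k₀` or `k₀ t` with `k₀` of odd order. -/
theorem k_dec [Finite G] (hc : Ctx R L x t) (h2 : R2 L t) {k : G} (hk : k ∈ C[L])
    (hkt : Commute k t) :
    ∃ k₀ ∈ C[L], Commute k₀ t ∧ Odd (orderOf k₀) ∧ (k = k₀ ∨ k = t * k₀) := by
  rcases odd_or (t_sq hc) hk hkt h2 with h | h
  · exact ⟨k, hk, hkt, h, Or.inl rfl⟩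
  · refine ⟨k * t, mul_mem hk hc.tc, hkt.mul_left (Commute.refl t), h, Or.inr ?_⟩
    rw [hkt.eq, ← mul_assoc, t_sq hc, one_mul]

theorem top_nonneg (hR : RootFacts R) {r s β : Φ} (hrs : R.pair r s = 0)
    (h : R.pair r β + R.pair s β = 2) : 0 ≤ R.pair r β ∧ 0 ≤ R.pair s β := by
  have hsr : R.pair s r = 0 := by rw [hR.symm, hrs]
  rcases hR.vals r β with h1 | h1 | h1 | h1 | h1
  · subst h1; rw [R.pair_self, hsr]; omega
  · subst h1; rw [R.pair_neg_right, R.pair_neg_right, R.pair_self, hsr] at h; omega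
  all_goals
    rcases hR.vals s β with h2 | h2 | h2 | h2 | h2
    · subst h2; rw [R.pair_self] at h ⊢; omega
    · subst h2; rw [R.pair_neg_right, R.pair_neg_right, R.pair_self, hrs] at h; omega
    all_goals omega

theorem pair_le_two (hR : RootFacts R) (r β : Φ) : R.pair r β ≤ 2 := by
  rcases hR.vals r β with h1 | h1 | h1 | h1 | h1
  · subst h1; rw [R.pair_self]
  · subst h1; rw [R.pair_neg_right, R.pair_self]; omega
  all_goals omega

theorem top_pair (hR : RootFacts R) {r s β η : Φ} (hrs : R.pair r s = 0)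
    (h : R.pair r β + R.pair s β = 2) (h' : R.pair r η + R.pair s η = 2) : 0 ≤ R.pair β η := by
  rcases hR.vals β η with h1 | h1 | h1 | h1 | h1
  · subst h1; rw [R.pair_self]; omega
  · subst h1; rw [R.pair_neg_right, R.pair_neg_right] at h'; omega
  · omega
  · omega
  · exfalso
    obtain ⟨k, hk⟩ := (hR.sum β η).mp h1
    have e1 := hR.pair_add r β η k hk
    have e2 := hR.pair_add s β η k hk
    have l1 := pair_le_two hR r k
    have l2 := pair_le_two hR s k
    have hsr : R.pair s r = 0 := by rw [hR.symm, hrs]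
    rcases hR.vals r k with h2 | h2 | h2 | h2 | h2
    · subst h2; omega
    · subst h2; rw [R.pair_neg_right, R.pair_self] at e1; omega
    all_goals omega

theorem top_sq (hR : RootFacts R) (hp : Pin R x) {r s : Φ} (hrs : R.pair r s = 0) {u : G}
    (hu : u ∈ UU x {β | R.pair r β + R.pair s β = 2}) : u * u = 1 := by
  set S : Set Φ := {β | R.pair r β + R.pair s β = 2}
  have hcomm : ∀ a ∈ UU x S, ∀ b ∈ UU x S, Commute a b := fun a ha b hb =>
    (commute_UU (fun β hβ c => (commute_UU (fun η hη d =>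
      hp.com β η (top_pair hR hrs hβ hη) c d) hb).symm) ha).symm
  let H : Subgroup G :=
    { carrier := {g | g ∈ UU x S ∧ g * g = 1}
      one_mem' := ⟨one_mem _, one_mul _⟩
      mul_mem' := by
        rintro a b ⟨ha, ha'⟩ ⟨hb, hb'⟩
        refine ⟨mul_mem ha hb, ?_⟩
        rw [← (hcomm a ha b hb).mul_mul_mul_comm, ha', hb', one_mul]
      inv_mem' := by
        rintro a ⟨ha, ha'⟩
        exact ⟨inv_mem ha, by rw [← mul_inv_rev, ha', inv_one]⟩ }
  have : UU x S ≤ H := UU_le fun β hβ a => ⟨x_mem_UU hβ a, x_sq hp β a⟩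
  exact (this hu).2

theorem orth [Finite G] (hR : RootFacts R) (hc : Ctx R L x t) (h2 : R2 L t)
    (hh : Hats R L x t Xh) {r s : Φ} (hrs : R.pair r s = 0) {p p' : G} (hp : p ∈ Xh r)
    (hp' : p' ∈ Xh s) : Commute p p' := by
  have hpin := hc.mod.pin
  have hsr : R.pair s r = 0 := by rw [hR.symm, hrs]
  have hrr : 0 ≤ R.pair r r := by rw [R.pair_self]; omega
  have hss : 0 ≤ R.pair s s := by rw [R.pair_self]; omega
  obtain ⟨a, ha⟩ := h_t hh hp
  obtain ⟨b, hb⟩ := h_t hh hp'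
  by_cases ha0 : a = 0
  · rw [ha0, x_zero hpin, mul_one] at ha
    obtain ⟨a', rfl⟩ := hh.fix r p hp (mul_inv_eq_iff_eq_mul.mp ha)
    exact (h_x hh hp' hsr.ge a').symm
  have pp := h_sq hh hp
  have pp' := h_sq hh hp'
  have hpA := h_x hh hp hrr a
  have hpB := h_x hh hp hrs.ge b
  have hp'A := h_x hh hp' hsr.ge a
  have hp'B := h_x hh hp' hss b
  have hAB := hpin.com r s hrs.ge a b
  -- `c` centralizes `t`
  have hct : Commute ⁅p, p'⁆ t := by
    have e1 : p * (p' * t * p'⁻¹) * p⁻¹ = t * (x r a * x s b) := by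
      rw [hb, ← conj_mul, ha, hpB.eq, mul_inv_cancel_right, mul_assoc]
    have e2 : p' * (p * t * p⁻¹) * p'⁻¹ = t * (x r a * x s b) := by
      rw [ha, ← conj_mul, hb, hp'A.eq, mul_inv_cancel_right, mul_assoc, hAB.eq]
    have e3 : ((p' * p)⁻¹ * (p * p')) * t * ((p' * p)⁻¹ * (p * p'))⁻¹ = t := by
      calc ((p' * p)⁻¹ * (p * p')) * t * ((p' * p)⁻¹ * (p * p'))⁻¹
          = (p' * p)⁻¹ * (p * (p' * t * p'⁻¹) * p⁻¹) * (p' * p) := by group
        _ = t := by rw [e1, ← e2]; group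
    have e4 : (p' * p)⁻¹ * (p * p') = ⁅p, p'⁆ := by
      rw [commutatorElement_def, mul_inv_rev, inv_eq pp, inv_eq pp', mul_assoc, mul_assoc,
        mul_assoc]
    rw [e4] at e3
    exact mul_inv_eq_iff_eq_mul.mp e3
  have hcx : ∀ β e, 0 ≤ R.pair r β → 0 ≤ R.pair s β → Commute ⁅p, p'⁆ (x β e) :=
    fun β e h1 h1' => commute_comm (h_x hh hp h1 e) (h_x hh hp' h1' e)
  obtain ⟨u, hu, k, hk, hck⟩ := hc.lf.f3 r s hrs _ (mem_N hc hct) hcx
  have huL := UU_le_L hc _ hu
  have htu : Commute t u := cL hc.tc huL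
  have hkt : Commute k t := by
    have : k = u⁻¹ * ⁅p, p'⁆ := by rw [hck, inv_mul_cancel_left]
    rw [this]
    exact htu.symm.inv_left.mul_left hct
  have uu := top_sq hR hpin hrs hu
  have hpu : Commute p u :=
    commute_UU (fun β hβ e => h_x hh hp (top_nonneg hR hrs hβ).1 e) hu
  obtain ⟨k₀, hk₀, hk₀t, hodd, hkk⟩ := k_dec hc h2 hk hkt
  have hk₀p := hh.odd k₀ hk₀ hk₀t hodd r p hp
  have hinv := inv_comm (p' := p') pp
  have hcu : ⁅p, p'⁆ = u := by
    rcases hkk with rfl | rfl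
    · rw [hck] at hinv
      have := odd_triv hinv (by rw [show 4 = 2 * 2 by rfl, pow_mul, pow_two u, uu, one_pow]) hodd
        (cL hk huL).symm hk₀p
      rw [hck, this, mul_one]
    · exfalso
      have ut : (u * t) * (u * t) = 1 := by
        rw [← htu.symm.mul_mul_mul_comm, uu, t_sq hc, one_mul]
      rw [hck, ← mul_assoc u] at hinv
      have := odd_triv hinv (by rw [show 4 = 2 * 2 by rfl, pow_mul, pow_two (u * t), ut, one_pow])
        hodd ((cL hk₀ huL).symm.mul_left hk₀t.symm) hk₀p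
      rw [this, mul_one, inv_eq ut, ← conj_mul, ha, hpu.eq, mul_inv_cancel_right,
        mul_left_cancel_iff, mul_eq_left] at hinv
      exact ha0 (hpin.inj r a hinv)
  rw [← commutatorElement_eq_one_iff_commute, hcu]
  refine hc.lf.f3' r s hrs u hu fun β e hβ => ?_
  rw [← hcu]
  by_cases h1 : 0 ≤ R.pair r β
  · by_cases h1' : 0 ≤ R.pair s β
    · exact hcx β e h1 h1'
    · have hs1 : R.pair s β = -1 := by
        rcases hR.vals s β with h | h | h | h | h
        · subst h; omega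
        · subst h; rw [R.pair_neg_right, R.pair_neg_right, R.pair_self, hrs] at hβ; omega
        all_goals omega
      have hr1 : R.pair r β = 1 := by
        rcases hR.vals r β with h | h | h | h | h
        · subst h; omega
        · subst h; rw [R.pair_neg_right, R.pair_self] at h1; omega
        all_goals omega
      obtain ⟨η, hη⟩ := (hR.sum s β).mp hs1
      have := hR.pair_add r s β η hη
      exact fix_right pp' (h_x hh hp h1 e)
        (hh.line r η (by omega) p hp _ (hh.br s β η hη p' hp' e))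
  · have hr1 : R.pair r β = -1 := by
      rcases hR.vals r β with h | h | h | h | h
      · subst h; omega
      · subst h; rw [R.pair_neg_right, R.pair_neg_right, R.pair_self, hsr] at hβ; omega
      all_goals omega
    have hs1 : R.pair s β = 1 := by
      rcases hR.vals s β with h | h | h | h | h
      · subst h; omega
      · subst h; rw [R.pair_neg_right, hrs] at hr1; omega
      all_goals omega
    obtain ⟨η, hη⟩ := (hR.sum r β).mp hr1
    have := hR.pair_add s r β η hη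
    exact fix_left pp (h_x hh hp' (by omega) e)
      (hh.line s η (by omega) p' hp' _ (hh.br r β η hη p hp e))

theorem conj_br (g y : G) : g * y * g⁻¹ = ⁅g, y⁆ * y := by
  rw [commutatorElement_def, inv_mul_cancel_right]

theorem sp [Finite G] (hR : RootFacts R) (hc : Ctx R L x t) (h2 : R2 L t)
    (hh : Hats R L x t Xh) {r s α : Φ} (hα : R.rc α = R.rc r + R.rc s) {p p' : G}
    (hp : p ∈ Xh r) (hp' : p' ∈ Xh s) : ⁅p, p'⁆ ∈ Xh α := by
  have hpin := hc.mod.pin
  have hα' : R.rc α = R.rc s + R.rc r := by rw [hα, add_comm]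
  have hrs : R.pair r s = -1 := (hR.sum r s).mpr ⟨α, hα⟩
  have hsr : R.pair s r = -1 := by rw [hR.symm, hrs]
  have hrr : 0 ≤ R.pair r r := by rw [R.pair_self]; omega
  have hss : 0 ≤ R.pair s s := by rw [R.pair_self]; omega
  have hαα : 0 ≤ R.pair α α := by rw [R.pair_self]; omega
  have hrα : R.pair r α = 1 := by
    have := hR.pair_add r r s α hα
    rw [R.pair_self] at this; omega
  have hsα : R.pair s α = 1 := by
    have := hR.pair_add s r s α hα
    rw [R.pair_self] at this; omega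
  have hadd : ∀ β, R.pair α β = R.pair r β + R.pair s β := fun β => by
    rw [hR.symm α, hR.symm r, hR.symm s]; exact hR.pair_add β r s α hα
  obtain ⟨a, ha⟩ := h_t hh hp
  obtain ⟨b, hb⟩ := h_t hh hp'
  by_cases ha0 : a = 0
  · rw [ha0, x_zero hpin, mul_one] at ha
    obtain ⟨a', rfl⟩ := hh.fix r p hp (mul_inv_eq_iff_eq_mul.mp ha)
    rw [← commutatorElement_inv]
    exact inv_mem (hh.br s r α hα' p' hp' a')
  have pp := h_sq hh hp
  have pp' := h_sq hh hp'
  have tt := t_sq hc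
  have hpZ : ∀ z ∈ Xh α, Commute p z := hh.line r α hrα p hp
  have hp'Z : ∀ z ∈ Xh α, Commute p' z := hh.line s α hsα p' hp'
  have hAZ : ∀ e, ∀ z ∈ Xh α, Commute (x r e) z := fun e => hh.line r α hrα _ (hh.le r e)
  have hBZ : ∀ e, ∀ z ∈ Xh α, Commute (x s e) z := fun e => hh.line s α hsα _ (hh.le s e)
  -- `c t c⁻¹ = t z`
  obtain ⟨z, hz, hct⟩ : ∃ z ∈ Xh α, ⁅p, p'⁆ * t * ⁅p, p'⁆⁻¹ = t * z := by
    have z1 := hh.br r s α hα p hp b
    have z2 := hh.br s r α hα' p' hp' a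
    have e1 : p * (p' * t * p'⁻¹) * p⁻¹ = t * (x r a * x s b * ⁅p, x s b⁆) := by
      rw [hb, ← conj_mul, ha, conj_br p (x s b), ← (hBZ b _ z1).eq]
      simp only [mul_assoc]
    have e2 : p' * (p * t * p⁻¹) * p'⁻¹ = t * (x s b * x r a * ⁅p', x r a⁆) := by
      rw [ha, ← conj_mul, hb, conj_br p' (x r a), ← (hAZ a _ z2).eq]
      simp only [mul_assoc]
    have z4 : ⁅p', x r a⁆⁻¹ * ⁅x r a, x s b⁆ * ⁅p, x s b⁆ ∈ Xh α := by
      refine mul_mem (mul_mem (inv_mem z2) ?_) z1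
      rw [hpin.rel r s α hα]
      exact hh.le _ _
    refine ⟨_, z4, ?_⟩
    have e4 : (p' * p)⁻¹ * (p * p') = ⁅p, p'⁆ := by
      rw [commutatorElement_def, mul_inv_rev, inv_eq pp, inv_eq pp', mul_assoc, mul_assoc,
        mul_assoc]
    have e5 : t * (x r a * x s b * ⁅p, x s b⁆) = t * (x s b * x r a * ⁅p', x r a⁆) *
        (⁅p', x r a⁆⁻¹ * ⁅x r a, x s b⁆ * ⁅p, x s b⁆) := by
      have : ⁅x r a, x s b⁆ = (x r a)⁻¹ * (x s b)⁻¹ * x r a * x s b := by
        rw [commutatorElement_def, inv_eq (x_sq hpin r a), inv_eq (x_sq hpin s b)]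
      rw [this]; group
    have e6 := ((hp'Z _ z4).mul_left (hpZ _ z4)).eq
    generalize ⁅p', x r a⁆⁻¹ * ⁅x r a, x s b⁆ * ⁅p, x s b⁆ = w at e5 e6 ⊢
    rw [← e4]
    calc ((p' * p)⁻¹ * (p * p')) * t * ((p' * p)⁻¹ * (p * p'))⁻¹
        = (p' * p)⁻¹ * (p * (p' * t * p'⁻¹) * p⁻¹) * (p' * p) := by group
      _ = t * ((p' * p)⁻¹ * (w * (p' * p))) := by rw [e1, e5, ← e2]; group
      _ = t * w := by rw [← e6, inv_mul_cancel_left]
  have hzt : Commute z t := by
    have h1 : (t * z) * (t * z) = 1 := by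
      rw [← hct, conj_mul, tt, mul_one, mul_inv_cancel]
    have := inv_eq h1
    rw [mul_inv_rev, inv_eq tt, inv_eq (h_sq hh hz)] at this
    exact this
  obtain ⟨e, rfl⟩ := hh.fix α z hz hzt
  obtain ⟨z', hz', hz't⟩ := hh.surj α e
  have zz' := h_sq hh hz'
  have hc0 : Commute (z' * ⁅p, p'⁆) t := by
    have : z' * ⁅p, p'⁆ * t * (z' * ⁅p, p'⁆)⁻¹ = t := by
      calc z' * ⁅p, p'⁆ * t * (z' * ⁅p, p'⁆)⁻¹ = z' * (⁅p, p'⁆ * t * ⁅p, p'⁆⁻¹) * z'⁻¹ := by group
        _ = t := by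
          rw [hct, ← conj_mul, hz't, (h_x hh hz' hαα e).eq, mul_inv_cancel_right, mul_assoc,
            x_sq hpin, mul_one]
    exact mul_inv_eq_iff_eq_mul.mp this
  have hc0x : ∀ β e, 0 ≤ R.pair r β → 0 ≤ R.pair s β → Commute (z' * ⁅p, p'⁆) (x β e) :=
    fun β e h1 h1' => (h_x hh hz' (by rw [hadd]; omega) e).mul_left
      (commute_comm (h_x hh hp h1 e) (h_x hh hp' h1' e))
  have hbr : ∀ β d, (∀ z ∈ Xh α, Commute (x β d) z) → ⁅p, x β d⁆ ∈ Xh α → ⁅p', x β d⁆ ∈ Xh α →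
      ∃ e, ⁅z' * ⁅p, p'⁆, x β d⁆ = x α e := by
    intro β d h0 h1 h1'
    have m1 : p ∈ cm (Xh α) (x β d) := ⟨hpZ, h1⟩
    have m2 : p' ∈ cm (Xh α) (x β d) := ⟨hp'Z, h1'⟩
    have m3 : z' ∈ cm (Xh α) (x β d) := ⟨fun z hz => h_comm hh hz' hz, by
      rw [commutatorElement_eq_one_iff_commute.mpr (h0 z' hz').symm]; exact one_mem _⟩
    have m4 : z' * ⁅p, p'⁆ ∈ cm (Xh α) (x β d) := by
      rw [commutatorElement_def]
      exact mul_mem m3 (mul_mem (mul_mem (mul_mem m1 m2) (inv_mem m1)) (inv_mem m2))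
    exact hh.fix α _ m4.2 (commute_comm hc0 (t_x hc β d).symm)
  have one_mem' : ∀ {g y : G}, Commute g y → ⁅g, y⁆ ∈ Xh α := fun h => by
    rw [commutatorElement_eq_one_iff_commute.mpr h]; exact one_mem _
  obtain ⟨a₁, b₁, e₁, k, hk, hck⟩ := hc.lf.f4 r s α hα _ (mem_N hc hc0) hc0x
    (fun d => hbr r d (hAZ d) (one_mem' (h_x hh hp hrr d)) (hh.br s r α hα' p' hp' d))
    (fun d => hbr s d (hBZ d) (hh.br r s α hα p hp d) (one_mem' (h_x hh hp' hss d)))
  have hwL : x r a₁ * x s b₁ ∈ L := mul_mem (x_mem_L hc _ _) (x_mem_L hc _ _)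
  have hkt : Commute k t := by
    have : k = (x r a₁ * x s b₁ * x α e₁)⁻¹ * (z' * ⁅p, p'⁆) := by rw [hck, inv_mul_cancel_left]
    rw [this]
    exact (cL hc.tc (mul_mem hwL (x_mem_L hc _ _))).symm.inv_left.mul_left hc0
  -- `c = y w k` with `y ∈ Z`
  obtain ⟨y, hy, hcy⟩ : ∃ y ∈ Xh α, ⁅p, p'⁆ = y * (x r a₁ * x s b₁) * k := by
    refine ⟨z'⁻¹ * x α e₁, mul_mem (inv_mem hz') (hh.le _ _), ?_⟩
    have := ((hAZ a₁ _ (hh.le α e₁)).mul_left (hBZ b₁ _ (hh.le α e₁))).eq
    rw [eq_inv_mul_of_mul_eq hck, this]; group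
  have yy := h_sq hh hy
  have hwy : Commute (x r a₁ * x s b₁) y := (hAZ a₁ y hy).mul_left (hBZ b₁ y hy)
  have ww : (x r a₁ * x s b₁) * (x r a₁ * x s b₁) = x α (a₁ * b₁) := by
    rw [← hpin.rel r s α hα, commutatorElement_def, inv_eq (x_sq hpin r a₁),
      inv_eq (x_sq hpin s b₁)]
    simp only [mul_assoc]
  have hwt : Commute t (x r a₁ * x s b₁) := cL hc.tc hwL
  obtain ⟨k₀, hk₀, hk₀t, hodd, hkk⟩ := k_dec hc h2 hk hkt
  have hk₀p := hh.odd k₀ hk₀ hk₀t hodd r p hp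
  have hk₀y := hh.odd k₀ hk₀ hk₀t hodd α y hy
  have hinv := inv_comm (p' := p') pp
  have hcw : ⁅p, p'⁆ = y * (x r a₁ * x s b₁) := by
    rcases hkk with rfl | rfl
    · rw [hcy] at hinv
      have := odd_triv hinv (by
          rw [show 4 = 2 * 2 by rfl, pow_mul, pow_two (y * _), ← hwy.symm.mul_mul_mul_comm, yy,
            ww, one_mul, pow_two, x_sq hpin]) hodd
        (hk₀y.symm.mul_left (cL hk hwL).symm) hk₀p
      rw [hcy, this, mul_one]
    · exfalso
      obtain ⟨d, hd⟩ := h_t hh hy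
      have hsq : (y * (x r a₁ * x s b₁) * t) * (y * (x r a₁ * x s b₁) * t) =
          x α (d + a₁ * b₁) := by
        have h1 : y * t * y * t = x α d := by
          rw [← inv_eq yy] at hd ⊢
          rw [inv_inv] at hd
          rw [inv_eq yy] at hd ⊢
          rw [hd, (t_x hc α d).eq, mul_assoc, tt, mul_one]
        generalize x r a₁ * x s b₁ = w at hwy hwt ww ⊢
        calc y * w * t * (y * w * t) = y * (w * (t * y)) * (w * t) := by group
          _ = y * t * y * t * (w * w) := by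
            rw [(hwt.symm.mul_right hwy).eq, ← hwt.eq]
            have := hwt.eq
            calc y * (t * y * w) * (t * w) = y * t * y * (w * t) * w := by group
              _ = _ := by rw [← this]; group
          _ = _ := by rw [h1, ww, hpin.add]
      rw [hcy, ← mul_assoc _ t] at hinv
      have := odd_triv hinv (by
          rw [show 4 = 2 * 2 by rfl, pow_mul, pow_two (y * _ * t), hsq, pow_two, x_sq hpin]) hodd
        ((hk₀y.symm.mul_left (cL hk₀ hwL).symm).mul_left hk₀t.symm) hk₀p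
      rw [this, mul_one] at hinv
      have z1 := hh.br r s α hα p hp b₁
      have e1 : p * (y * (x r a₁ * x s b₁) * t) * p⁻¹ =
          ⁅p, x s b₁⁆ * (y * (x r a₁ * x s b₁) * t) * x r a := by
        rw [← conj_mul, ← conj_mul, ← conj_mul, ha, conj_br p (x s b₁), (hpZ y hy).eq,
          (h_x hh hp hrr a₁).eq, mul_inv_cancel_right, mul_inv_cancel_right, ← mul_assoc (x r a₁),
          (hAZ a₁ _ z1).eq, mul_assoc _ (x r a₁), ← mul_assoc y, (h_comm hh hy z1).eq]
        simp only [mul_assoc]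
      obtain ⟨d', hd'⟩ := h_t hh z1
      have hB1 : Commute (x s 1) (x r a) := by
        have hxa : x r a = (y * (x r a₁ * x s b₁) * t)⁻¹ * ⁅p, x s b₁⁆⁻¹ *
            (y * (x r a₁ * x s b₁) * t) * (x α (d + a₁ * b₁))⁻¹ := by
          rw [← hsq]
          rw [e1] at hinv
          generalize y * (x r a₁ * x s b₁) * t = m at hinv ⊢
          generalize ⁅p, x s b₁⁆ = z₁ at hinv ⊢
          rw [eq_inv_mul_of_mul_eq hinv]; group
        have hm : (y * (x r a₁ * x s b₁) * t)⁻¹ * ⁅p, x s b₁⁆⁻¹ *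
            (y * (x r a₁ * x s b₁) * t) = ⁅p, x s b₁⁆⁻¹ * x α d' := by
          have c1 : Commute (y * (x r a₁ * x s b₁)) ⁅p, x s b₁⁆⁻¹ :=
            ((h_comm hh hy z1).mul_left ((hAZ a₁ _ z1).mul_left (hBZ b₁ _ z1))).inv_right
          have zz := h_sq hh z1
          generalize y * (x r a₁ * x s b₁) = m at c1 ⊢
          generalize ⁅p, x s b₁⁆ = z₁ at c1 hd' zz ⊢
          calc (m * t)⁻¹ * z₁⁻¹ * (m * t) = t⁻¹ * (m⁻¹ * (z₁⁻¹ * m)) * t := by group
            _ = t⁻¹ * z₁⁻¹ * t := by rw [← c1.eq, inv_mul_cancel_left]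
            _ = z₁⁻¹ * (z₁ * t * z₁⁻¹) * t := by rw [inv_eq tt]; group
            _ = z₁⁻¹ * x α d' := by
              rw [hd', (t_x hc α d').eq, mul_assoc, mul_assoc, tt, mul_one]
        rw [hxa, hm]
        exact hBZ 1 _ (mul_mem (mul_mem (inv_mem z1) (hh.le _ _)) (inv_mem (hh.le _ _)))
      have := hpin.rel r s α hα a 1
      rw [commutatorElement_eq_one_iff_commute.mpr hB1.symm, mul_one] at this
      exact ha0 (hpin.inj α a this.symm)
  -- kill the two remaining components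
  have hb₁ : b₁ = 0 := by
    obtain ⟨β, h1, h1'⟩ := hR.rc1 α (R.neg r) (by rw [R.pair_neg_right, hR.symm, hrα])
    rw [R.pair_neg_left] at h1'
    have h3 := hadd β
    obtain ⟨η, hη⟩ := (hR.sum s β).mp (by omega)
    have h4 := hR.pair_add r s β η hη
    have h5 : Commute ⁅p, p'⁆ (x β 1) := fix_right pp' (h_x hh hp (by omega) 1)
      (orth hR hc h2 hh (by omega) hp (hh.br s β η hη p' hp' 1))
    have h6 : Commute (x s b₁) (x β 1) := by
      have : x s b₁ = (y * x r a₁)⁻¹ * ⁅p, p'⁆ := by rw [hcw]; group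
      rw [this]
      exact ((h_x hh hy h1.ge 1).mul_left (hpin.com r β (by omega) a₁ 1)).inv_left.mul_left h5
    have := hpin.rel s β η hη b₁ 1
    rw [commutatorElement_eq_one_iff_commute.mpr h6, mul_one] at this
    exact hpin.inj η b₁ this.symm
  rw [hb₁, x_zero hpin, mul_one] at hcw
  have ha₁ : a₁ = 0 := by
    obtain ⟨β, h1, h1'⟩ := hR.rc1 α (R.neg s) (by rw [R.pair_neg_right, hR.symm, hsα])
    rw [R.pair_neg_left] at h1'
    have h3 := hadd β
    obtain ⟨η, hη⟩ := (hR.sum r β).mp (by omega)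
    have h4 := hR.pair_add s r β η hη
    have h5 : Commute ⁅p, p'⁆ (x β 1) := fix_left pp (h_x hh hp' (by omega) 1)
      (orth hR hc h2 hh (by omega) hp' (hh.br r β η hη p hp 1))
    have h6 : Commute (x r a₁) (x β 1) := by
      have : x r a₁ = y⁻¹ * ⁅p, p'⁆ := by rw [hcw]; group
      rw [this]
      exact (h_x hh hy h1.ge 1).inv_left.mul_left h5
    have := hpin.rel r β η hη a₁ 1
    rw [commutatorElement_eq_one_iff_commute.mpr h6, mul_one] at this
    exact hpin.inj η a₁ this.symm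
  rw [ha₁, x_zero hpin, mul_one] at hcw
  rw [hcw]
  exact hy

end Main

/-- **COM** -/
theorem com' (hR : RootStmt) : ComStmt.{u, v} := by
  intro ι Φ _ _ R hL F _ _ G _ _ L x t Xh hc h2 hh
  exact ⟨fun r s hrs p hp p' hp' => orth (hR R hL) hc h2 hh hrs hp hp',
    fun r s k hk p hp p' hp' => sp (hR R hL) hc h2 hh hk hp hp'⟩

theorem com (hR : RootStmt) (_hP : PinStmt.{u, v}) : ComStmt.{u, v} := com' hR

end Cfsg.Agent.H54.SLCom
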