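import Mathlib
import Cfsg.Prelude.Def_Local
import Cfsg.Prelude.Def_Classical
import Cfsg.Agent.H29.ASE8a
import Cfsg.Agent.H34.FrB
import Cfsg.Agent.H37.InvE8

/-! Definitions for S3384 (`Ω₈⁺(4)` in `E₈(2)`): roots, the element `w` with `w² = -1`, labels `m`. -/

set_option autoImplicit false
set_option maxRecDepth 100000

namespace Cfsg.Agent.H54.O84

open Equiv Cfsg.Lie H37 H40 H34 H29
open scoped Matrix Pointwise

abbrev K : Type := AlgebraicClosure (ZMod 2)
noncomputable def C8 : Cert chevE8 := cert (by simp)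
abbrev G0 : Type := chevE8.group (ZMod 2)
abbrev GK : Type := chevE8.group K
abbrev Rt : Type := Fin chevE8.nroots
abbrev Ix : Type := Fin chevE8.rank
noncomputable abbrev P8 : Split C8.S GK := C8.split K
abbrev V : Type := Fin 4 → ZMod 5
abbrev MV : Type := Multiplicative V

/-- The element of the Weyl group given by a word in the simple reflections `0, …, 7`. -/
noncomputable def wd (l : List ℕ) : Perm Rt :=
  C8.S.word (l.map fun i => (⟨i % 8, Nat.mod_lt _ (by norm_num)⟩ : Ix))

theorem wd_mem (l : List ℕ) : wd l ∈ C8.S.W := C8.S.word_mem_W _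

/-- The simple reflections, kernel-fast. -/
noncomputable def rf (i s : ℕ) : ℕ := H37.piT (nthN reflE8 i) s

theorem wd_val (l : List ℕ) (r : Rt) : (wd l r : ℕ) = l.foldr (fun i s => rf (i % 8) s) r := by
  induction l with
  | nil => rfl
  | cons i l ih =>
    rw [List.foldr_cons, ← ih]
    exact (C8.refl_val ⟨i % 8, Nat.mod_lt _ (by norm_num)⟩ (wd l r)).trans
      (H37.tabE8.refl _ (Nat.mod_lt i (by norm_num : 0 < 8)) _ (wd l r).2)

def wL : List ℕ := [4, 5, 6, 7, 2, 1, 3, 4, 5, 6, 0, 2, 3, 4, 5, 1, 3, 4, 2, 3, 0, 2, 1, 3, 4, 5, 6, 7, 4, 5, 1, 3, 4, 2, 3, 0, 2, 1, 3, 4, 5, 6, 2, 3, 0, 2, 1, 3, 4, 5, 2, 1, 3, 4, 2, 3, 0, 2, 1, 3]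
def piN0 : ℕ := 0x82718e9a099b70996eeb6f8898933331d932454c4ab0101c2f26b1c7d8d11d3027443d49afc5d6cf1b2e25423b47c6d7d0e0dee1433c484da4aea9c3bacd1a152439c4bbcedd3ac2b9ccdb38dcb85b6866857c910503070c867d92a10d5a536579027a847b909f0ba05851637700e7e5e9ee5952646260836c8f8d8b9d9601060a08ef788c9e974fe4505f746b75ed768a9c95e24e5d7269e3e8ecea5e736a8987943713b71423362db51221342bb6cbdad522352c46414ba2a7b3ac0e110f1f1829a8b4adcac1d420192a40a6b2abc8bfd21e17283ec9c0d3df3fa5a3aabd16bebc5c5767800481567f54e655617e6d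
def piN1 : ℕ := 0x82718eb010b133af31d9325b6866706eeb6fa4aea99a091c2f269bc7d8d11d30275a536599c5d6cf1b2e25585163c6d7d0e7e5e9595264a2454c4a857c9105030713867d92b714847b90b512b637889893c3bacd1a15244fc4bbcee450443d4979027ac2b9cce24ee3423b477700e0dee1ee433c486260836c8f8da7b3ac010e110fef78a8b4ad0ca10d23362d75ed76a6b2ab9f0b21342ba0cbdad522352c5c5767b839dd3a5f746bdb385d7269dce8ecea5e736aa5a3aa4d8b9d96060a081f18298c9e97cac1d420192a568a9c95c8bfd21e172854c9c0d3e65546414b8004817f898794bd16be40bc3edf3f617e6d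
def mBig : ℕ := 0x984800839126d270a8ca7118d19096c941801b4030810880c08807143127222800408d44d28e20a090c50a91a6cc2ca6da0194010040849135119216d32d16e102040800b70b3097190584400438182008036928cb4c98d921860020311850010385201042002388a64a01c4040028916516898490826800905149245222d46e42e200930c71c31a0418014cc8dc4da2011010213137233210488088404d38e34e120810850b91b5192402cb6db2d901a4026184106030138944928a290065425266206082068c28a69a30022012084c44a85a00c0448046932916a120410485345186102488b48989964b2496590d84c00c33244e451c2dc0036010115232e300a60801831b0426400508024008102946a42a24db20280021010270011045486446202262000848c89c49a24c65c25a0c10016040144938a34a12536632610c828b69b2991008c044b85b4592c00800e00c46020126104a426429c45c2a346349b25b0c26c00d0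
def mInv : ℕ := 0x9dffffc8ffffffffff80d2ffffffffffffcaecffffffffffd4ffffe6ffffffffffffffff71ffffffffffffffffffffffffffffffffffffffffffffffffffffffff85d6ffffffffff91ffffb5ffffffffd8ffffe7ffffffffffb7e9ffffffffffffffffff15ffffffffffffffffffffffffffffffffffffffffffffffffffffffff1f72ffffffffff29ffff54ffffffff74ffffa5ffffffffff56aaffffffffffffffffffdeffffffffffffffffffffffffffffffffffffffffffffffffffffff2fffff58ffffffffff1363ffffffffffff5aaeffffffffff65ffffa2ffffffffffffffff87ffffffffffffffffffffffffffffffffffffffffffffffffffffffffffffff6cffffffffffffffbbffffffffffffff3bffffffffffffff88ffffff60b93d9335fffffffffffffffffffffffffffffffffffffffffffffffffffffffffffffffffffffffffffffffffffffffffffffffffffffffffffffffffffffffffffffffffffffffffffffffffffffffffffffffffffffffffffffffffffffffffffffffffffffffffffffffffffffffffffffffffffffffffffffffffffffffffffffffffffffffffffffffffffffffffffffffffffffffffffffffffffffffffffffffffffffffffffffffffffffffffffffffffffffffffffffffffffffffffffffffffffffff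fffffffffffffffffffffffffffffffffffffffffffffffff8bdbffffffffff96ffffbfffffffffddffffe8ffffffffffc1eaffffffffffffffffff32ffffffffffffffffffffffffffffffffffffffffffffffffffffff9affffc5ffffffffff7ccfffffffffffffc7ebffffffffffd1ffffe5ffffffffffffffff01ffffffffffffffffffffffffffffffffffffffffffffffffffffff39ffff5dffffffffff1869ffffffffffff5fb8ffffffffff6bffffa3ffffffffffffffffa0ffffffffffffffffffffffffffffffffffffffffffffffffffffffff1c6effffffffff26ffff51ffffffff70ffffa4ffffffffff53a9ffffffffffffffffff3fffffffffffffffffffffffffffffffffffffffffffffffffffffffffffffff2cffffffffffffff78ffffffffffffff0bffffffffffffff43ffffff22760d48b3fffffffffffffffffffffffffffffffffffffffffffffffffffffffffffffffffffffffffffffffffffffffffffffffffffffffffffffffffffffffffffffffffffffffffffffffffffffffffffffffffffffffffffffffffffffffffffffffffffffffffffffffffffffffffffffffffffffffffffffffffffffffffffffffffffffffffffffffffffffffffffffffffffffffffffffffffffffffffffffffffffffffffffffffffffffffffffffffffffffffffff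fffffffffffffffffffffffffffffffffffffffffffffffffffffffffffffffffffffffffffff469cffffffffff4bffff7fffffffff9effffc9ffffffffff81d3ffffffffffffffffffb0ffffffffffffffffffffffffffffffffffffffffffffffffffffff4cffff84ffffffffff3790ffffffffffff86d7ffffffffff92ffffb6ffffffffffffffff4fffffffffffffffffffffffffffffffffffffffffffffffffffffff0affff1effffffffff0428ffffffffffff2073ffffffffff2affff55ffffffffffffffffeeffffffffffffffffffffffffffffffffffffffffffffffffffffffff052effffffffff07ffff12ffffffff30ffff59ffffffffff1464ffffffffffffffffffbdffffffffffffffffffffffffffffffffffffffffffffffffffffffffffffffacffffffffffffffe4ffffffffffffff77ffffffffffffffc3ffffffa7e279cd3cfffffffffffffffffffffffffffffffffffffffffffffffffffffffffffffffffffffffffffffffffffffffffffffffffffffffffffffffffffffffffffffffffffffffffffffffffffffffffffffffffffffffffffffffffffffffffffffffffffffffffffffffffffffffffffffffffffffffffffffffffffffffffffffffffffffffffffffffffffffffffffffffffffffffffffffffffffffffffffffffffffffffffffffff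fffffffffffffffffffffffffffffffffffffffffffffffffffffffffffffffffffffffffffffffffffffffffffffffffffffff4dffff8affffffffff4195ffffffffffff8cdcffffffffff97ffffc0ffffffffffffffff68ffffffffffffffffffffffffffffffffffffffffffffffffffffffff4599ffffffffff4affff7bffffffff9bffffc6ffffffffff7dd0ffffffffffffffffff11ffffffffffffffffffffffffffffffffffffffffffffffffffffffff0638ffffffffff08ffff17ffffffff3affff5effffffffff196affffffffffffffffffdaffffffffffffffffffffffffffffffffffffffffffffffffffffff09ffff1bffffffffff0325ffffffffffff1d6fffffffffff27ffff52ffffffffffffffff7effffffffffffffffffffffffffffffffffffffffffffffffffffffffffffff67ffffffffffffffb4ffffffffffffff34ffffffffffffff83ffffff5cb2368fbafffffffffffffffffffffffffffffffffffffffffffffffffffffffffffffffffffffffffffffffffffffffffffffffffffffffffffffffffffffffffffffffffffffffffffffffffffffffffffffffffffffffffffffffffffffffffffffffffffffffffffffffffffffffffffffffffffffffffffffffffffffffffffffffffffffffffffffffffffffffffffffffffffffffffffffffffff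fffffffffffffffffffffffffffffffffffffffffffffffffffffffffffffffffffffffffffffffffffffffffffffffffffffffffffffffffffffffffffffffffffffffffff66ffffffffffffffb1ffffffffffffff31ffffffffffffff82ffffff5baf338e16ffffffffffffffffffffffffffffffffffffffffffffffffffffffffffffff0fffffffffffffff50ffffffffffffff00ffffffffffffff1affffff0e4e0224dfffffffffffffffffffffffffffffffffffffffffffffffffffffffffffffffd5ffffffffffffffefffffffffffffff9fffffffffffffffe0ffffffcbeda1e110ffffffffffffffffffffffffffffffffffffffffffffffffffffffffffffff6dffffffffffffffbeffffffffffffff3effffffffffffff89ffffff61bc4094d9ffffffffffffffffffffffffffffffffffffffffffffffffffffff57ab2d8dc4ffffffa8e37ace42ffffff21750c47adffffff62c244982bffffffcc49a623ff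

/-- The element `w` of the Weyl group, `w² = -1`. -/
noncomputable def w : Perm Rt := wd wL
/-- `v 0 = 1`, `v 1 = s₀`. -/
noncomputable def v (i : Fin 2) : Perm Rt := if i = 0 then 1 else wd [0]
/-- `π i = (v i)⁻¹ w (v i)`. -/
noncomputable def π (i : Fin 2) : Perm Rt := (v i)⁻¹ * w * v i
/-- The table of `π i`, kernel-fast. -/
noncomputable def piF (i r : ℕ) : ℕ := tabG (Nat.rec piN0 (fun _ _ => piN1) i) 8 256 r
/-- The pairing of roots, kernel-fast. -/
noncomputable def pr (r s : ℕ) : ℤ := pairF chevE8 corE8 carE8 r s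
/-- The coordinates of a root, kernel-fast. -/
noncomputable def rcN (r j : ℕ) : ℤ := nib (corE8 r) j
/-- The labels of the simple roots. -/
def mS : List (List ℤ) := [[1, 1, 1, 4], [1, 4, 0, 0], [0, 0, 1, 4], [0, 1, 4, 0], [0, 0, 1, 1],
  [1, 3, 3, 1], [2, 0, 0, 2], [0, 3, 0, 3]]
/-- The label of a root. -/
noncomputable def m (r : Rt) : V := fun k => ((∑ j : Ix, C8.R.rc r j * gt mS j k : ℤ) : ZMod 5)
/-- The code of the label of a root (four octal digits). -/
noncomputable def mC (r : ℕ) : ℕ := tabG mBig 12 4096 r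
/-- The coordinates of the label of a root, kernel-fast. -/
noncomputable def mF (r k : ℕ) : ℕ := tabG (mC r) 3 8 k
/-- The root with a given code (`255` or junk if there is none). -/
noncomputable def mI (c : ℕ) : ℕ := tabG mInv 8 256 c
noncomputable def τ (r : Rt) : Perm Rt := C8.R.τ r
noncomputable def ρ (r : Rt) : Perm Rt := τ r * τ (w r)
/-- The centraliser of `p` in the Weyl group. -/
noncomputable def CW (p : Perm Rt) : Subgroup (Perm Rt) := C8.S.W ⊓ Subgroup.centralizer {p}
def J : Set Ix := {j | (j : ℕ) ∈ [1, 2, 3, 4]}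
/-- The standard `D₄`. -/
noncomputable def Δ0 : Set Rt := C8.S.Phi J
/-- The orthogonal `D₄`. -/
noncomputable def Δ1 : Set Rt := {s | ∀ r ∈ Δ0, C8.R.pair r s = 0}
noncomputable def Ψ0 : Set Rt := Δ0 ∪ Δ1
noncomputable def Ψ (i : Fin 2) : Set Rt := v i '' Ψ0
def d0L : List ℕ := [87, 91, 92, 96, 97, 98, 102, 103, 104, 108, 109, 113, 126, 130, 131, 135, 136,
  137, 141, 142, 143, 147, 148, 152]
def d1L : List ℕ := [0, 1, 2, 11, 12, 13, 78, 79, 80, 117, 118, 119, 120, 121, 122, 159, 160, 161,
  226, 227, 228, 237, 238, 239]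
/-- The reflection group of a set of roots. -/
noncomputable def WS (S : Set Rt) : Subgroup (Perm Rt) := Subgroup.closure (τ '' S)
/-- The stabiliser of a set of roots. -/
def St (S : Set Rt) : Subgroup (Perm Rt) := MulAction.stabilizer (Perm Rt) S
def nI (i : Fin 2) : ℕ := if i = 0 then 12 else 4

theorem mem_St {S : Set Rt} {u : Perm Rt} : u ∈ St S ↔ u '' S = S := Iff.rfl

theorem mem_CW {p u : Perm Rt} : u ∈ CW p ↔ u ∈ C8.S.W ∧ u * p = p * u :=
  and_congr_right fun _ => Subgroup.mem_centralizer_singleton_iff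

theorem co_val (r : Rt) (j : Ix) : C8.R.co r j = rcN r j :=
  (C8.co_eq r j).trans (H37.tabE8.link.fast.cor r r.2 j j.2).symm

theorem pair_eq (r s : Rt) : C8.R.pair r s = pr r s := by
  rw [RS.pair_def, pr, pairF, sumLt_fin]
  exact Finset.sum_congr rfl fun i _ => by
    rw [co_val, C8.wt_eq, ← H37.tabE8.link.car s s.2 i i.2]; rfl

theorem rc_val (r : Rt) (j : Ix) : C8.R.rc r j = rcN r j := by
  have : ∀ r < chevE8.nroots, ∀ j < chevE8.rank, gt rcE8 r j = rcN r j := by decide +kernel
  exact (rc_eq C8 tabOKE8 r j).trans (this r r.2 j j.2)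

theorem w_mem : w ∈ C8.S.W := wd_mem _

theorem v_mem (i : Fin 2) : v i ∈ C8.S.W := by
  unfold v; split_ifs
  · exact one_mem _
  · exact wd_mem _

theorem π_mem (i : Fin 2) : π i ∈ C8.S.W := mul_mem (mul_mem (inv_mem (v_mem i)) w_mem) (v_mem i)

theorem π_zero : π 0 = w := by simp [π, v]

theorem τ_mem (r : Rt) : τ r ∈ C8.S.W := C8.R.τ_mem_W r

theorem w_val (r : Rt) : (w r : ℕ) = piF 0 r := by
  have : ∀ r < 240, wL.foldr (fun i s => rf (i % 8) s) r = piF 0 r := by decide +kernel
  exact (wd_val _ r).trans (this r r.2)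

theorem π_val (i : Fin 2) (r : Rt) : (π i r : ℕ) = piF i r := by
  fin_cases i
  · exact (congrArg (fun p : Perm Rt => (p r : ℕ)) π_zero).trans (w_val r)
  · have h : ∀ r < 240, piF 0 (rf 0 r) = rf 0 (piF 1 r) ∧ piF 1 r < 240 := by decide +kernel
    have e : π 1 r = ⟨_, (h r r.2).2⟩ := by
      show (wd [0])⁻¹ (w (wd [0] r)) = _
      rw [Perm.inv_eq_iff_eq]
      exact Fin.ext ((w_val _).trans (by rw [wd_val, wd_val]; exact (h r r.2).1))
    exact congrArg Fin.val e

theorem neg_val (r : Rt) : (C8.S.neg r : ℕ) = 239 - r := by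
  have := H37.tabE8.link.neg r r.2
  have h2 : chevE8.nroots = 240 := rfl
  exact (C8.neg_val r).trans (by omega)

theorem π_π (i : Fin 2) (r : Rt) : π i (π i r) = C8.S.neg r := by
  have : ∀ i < 2, ∀ r < 240, piF i (piF i r) = 239 - r := by decide +kernel
  exact Fin.ext (by rw [π_val, π_val, neg_val, this i i.2 r r.2])

theorem w_w (r : Rt) : w (w r) = C8.S.neg r := π_zero ▸ π_π 0 r

theorem m_val (r : Rt) (k : Fin 4) : m r k = (mF r k : ZMod 5) := by
  have : ∀ r < 240, ∀ k < 4,
      (sumLt (fun j => Int.mul (rcN r j) (gt mS j k)) 8) % 5 = (mF r k : ℤ) := by decide +kernel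
  have h := this r r.2 k k.2
  rw [sumLt_fin] at h
  simp only [m, rc_val]
  rw [← Int.cast_natCast, ← h, show (5 : ℤ) = (5 : ℕ) from rfl, ZMod.intCast_mod]
  rfl

theorem mF_lt (r : Rt) (k : Fin 4) : mF r k < 5 := by
  have : ∀ r < 240, ∀ k < 4, mF r k < 5 := by decide +kernel
  exact this r r.2 k k.2

theorem m_val' (r : Rt) (k : Fin 4) : (m r k).val = mF r k := by
  rw [m_val, ZMod.val_natCast, Nat.mod_eq_of_lt (mF_lt r k)]

theorem mI_mF (r : Rt) : mI (mF r 0 + 8 * mF r 1 + 64 * mF r 2 + 512 * mF r 3) = r := by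
  have : ∀ r < 240, mI (mF r 0 + 8 * mF r 1 + 64 * mF r 2 + 512 * mF r 3) = r := by decide +kernel
  exact this r r.2

theorem m_inj : Function.Injective m := fun r s h => by
  have e : ∀ k : Fin 4, mF r k = mF s k := fun k => by rw [← m_val', ← m_val', h]
  exact Fin.ext (by
    rw [← mI_mF r, ← mI_mF s]
    exact congrArg mI (by
      have := e 0; have := e 1; have := e 2; have := e 3
      simp only [Fin.isValue, Fin.val_zero, Fin.val_one, Fin.val_two] at *
      change mF r 3 = mF s 3 at this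
      omega))

theorem m_ne_zero (r : Rt) : m r ≠ 0 := fun h => by
  have : ∀ r < 240, ∃ k < 4, mF r k ≠ 0 := by decide +kernel
  obtain ⟨k, hk, h1⟩ := this r r.2
  exact h1 ((m_val' r ⟨k, hk⟩).symm.trans (by rw [h]; rfl))

theorem m_w (r : Rt) : m (w r) = (2 : ZMod 5) • m r := by
  have : ∀ r < 240, ∀ k < 4, mF (piF 0 r) k = 2 * mF r k % 5 := by decide +kernel
  funext k
  rw [Pi.smul_apply, m_val, m_val, w_val, this r r.2 k k.2, ZMod.natCast_mod]
  push_cast; rfl

theorem m_τ (r s : Rt) : m (τ r s) = m s - (C8.R.pair r s : ZMod 5) • m r := by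
  funext k
  simp only [m, τ, C8.R.rc_τ, Pi.sub_apply, Pi.smul_apply, smul_eq_mul, sub_mul, mul_assoc,
    Finset.sum_sub_distrib, ← Finset.mul_sum]
  push_cast; rfl

theorem mem_Δ0 {r : Rt} : r ∈ Δ0 ↔ (r : ℕ) ∈ d0L := by
  have : ∀ r < 240, (∀ i < 8, i ∈ [1, 2, 3, 4] ∨ rcN r i = 0) ↔ r ∈ d0L := by decide +kernel
  refine mem_Phi_list.trans (Iff.trans ?_ (this r r.2))
  exact forall₂_congr fun i hi => by rw [← C8.co_eq r ⟨i, hi⟩, co_val]

theorem mem_Δ1 {s : Rt} : s ∈ Δ1 ↔ (s : ℕ) ∈ d1L := by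
  have : ∀ s < 240, (∀ r ∈ d0L, pr r s = 0) ↔ s ∈ d1L := by decide +kernel
  have h2 : ∀ r ∈ d0L, r < chevE8.nroots := by decide +kernel
  rw [← this s s.2]
  exact ⟨fun h r hr => (pair_eq ⟨r, h2 r hr⟩ s).symm.trans (h _ (mem_Δ0.2 hr)),
    fun h r hr => (pair_eq r s).trans (h _ (mem_Δ0.1 hr))⟩

theorem π_mem_Δ1 (i : Fin 2) {r : Rt} : π i r ∈ Δ1 ↔ r ∈ Δ0 := by
  have : ∀ i < 2, ∀ r < 240, piF i r ∈ d1L ↔ r ∈ d0L := by decide +kernel
  rw [mem_Δ1, mem_Δ0, π_val]; exact this i i.2 r r.2

theorem π_mem_Δ0 (i : Fin 2) {r : Rt} : π i r ∈ Δ0 ↔ r ∈ Δ1 := by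
  have : ∀ i < 2, ∀ r < 240, piF i r ∈ d0L ↔ r ∈ d1L := by decide +kernel
  rw [mem_Δ1, mem_Δ0, π_val]; exact this i i.2 r r.2

theorem pair_symm (r s : Rt) : C8.R.pair r s = C8.R.pair s r := by
  have h : ∀ r, C8.R.co r = C8.R.rc r := fun r => funext fun j => by rw [co_val, rc_val]
  have hA : ∀ i j, C8.R.A i j = C8.R.A j i := fun i j => by
    have : ∀ i < chevE8.rank, ∀ j < chevE8.rank, chevE8.cartan i (chevE8.simple j) =
        chevE8.cartan j (chevE8.simple i) := by decide +kernel
    rw [C8.A_eq, C8.A_eq]; exact this i i.2 j j.2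
  simp only [RS.pair_def, h, C8.R.wt_def, Finset.mul_sum]
  rw [Finset.sum_comm]
  exact Finset.sum_congr rfl fun i _ => Finset.sum_congr rfl fun j _ => by rw [hA]; ring

/-- A frame: `G0` as the fixed points of a twisted Frobenius map. -/
structure Frm (p : Perm Rt) where
  σ : GK →* GK
  map : ∀ (r : Rt) (t : K), σ (C8.xg K r t) = C8.xg K (p r) (t ^ 2)
  mapH : ∀ h ∈ P8.H, σ h ∈ P8.H
  j : G0 →* GK
  inj : Function.Injective j
  fix : ∀ g, σ g = g ↔ g ∈ j.range

namespace Frm

variable {p : Perm Rt} (F : Frm p)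

theorem map_tg_iff {c d : Ix → Kˣ} : F.σ (C8.tg K c) = C8.tg K d ↔
    ∀ r : Rt, torChar chevE8 d (p r) = torChar chevE8 c r ^ 2 :=
  (Cert.FrobTw.map_tg_iff (C := C8) (φ := frobenius K 2) (π := p)
    ⟨F.σ, ⟨1, fun r t => by simpa [frobenius_def] using F.map r t⟩, F.mapH⟩).trans
    (forall_congr' fun r => by rw [frobenius_def, ← Units.val_pow_eq_pow_val, Units.val_inj])

theorem can_map {n : GK} {u : Perm Rt} (h : C8.Can n u) : C8.Can (F.σ n) (p * u * p⁻¹) :=
  fun r t => by
    obtain ⟨r, rfl⟩ := p.surjective r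
    obtain ⟨t, rfl⟩ := IsAlgClosed.exists_pow_nat_eq t two_pos
    rw [← F.map, ← map_inv, ← map_mul, ← map_mul, h, F.map]
    simp

theorem fix_can {n : GK} {u : Perm Rt} (h : C8.Can n u) (e : p * u = u * p) : F.σ n = n :=
  (F.can_map h).unique (by rwa [e, mul_inv_cancel_right])

theorem σ_j (g : G0) : F.σ (F.j g) = F.j g := (F.fix _).2 ⟨g, rfl⟩

/-- The Weyl group element of an element of `G0`. -/
noncomputable def ν (g : G0) : Perm Rt := P8.ν (F.j g)

/-- The fixed points in the subsystem subgroup. -/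
noncomputable def Y (S : Set Rt) : Subgroup G0 := (P8.U S).comap F.j

end Frm

end Cfsg.Agent.H54.O84
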