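import Cfsg.Agent.H19.S93Kit
import Cfsg.Agent.H67.S95Red1

/-!
# Odd central covers as standard subgroups: an involution of `A` in a conjugate of `C(A)`
-/

set_option autoImplicit false
set_option linter.style.haveILetI false
open scoped Pointwise commutatorElement
open Subgroup

namespace Cfsg.Agent.H54.S93Red1
open Cfsg.Agent.H8 Cfsg.Agent.H23.D2 Cfsg.Agent.H46.S95 Cfsg.Agent.H19.S93Q
open Cfsg.Agent.H67.S95Red1

universe u

local notation "C[" A "]" => Subgroup.centralizer (SetLike.coe A)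
local notation "N[" A "]" => Subgroup.normalizer (SetLike.coe A)

theorem dih {G : Type*} [Group G] {s u : G} (hs : s * s = 1) (hu : u * u = 1)
    (ho : Odd (orderOf (u * s))) : ∃ a : ℕ, (u * s) ^ a * s = u * (u * s) ^ a := by
  obtain ⟨m, hm⟩ := ho
  have e : ∀ k : ℕ, s * (u * s) ^ k = ((u * s) ^ k)⁻¹ * s := fun k => by
    have h1 : s * (u * s) * s⁻¹ = (u * s)⁻¹ := by
      rw [mul_inv_rev, inv_eq_of_mul_eq_one_right hs, inv_eq_of_mul_eq_one_right hu, mul_assoc,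
        mul_assoc, hs, mul_one]
    rw [← inv_pow, ← h1, conj_pow]
    group
  refine ⟨m + 1, ?_⟩
  have h2 : (u * s) ^ (m + 1) = ((u * s) ^ m)⁻¹ := by
    rw [eq_inv_iff_mul_eq_one, ← pow_add, show m + 1 + m = 2 * m + 1 by ring, ← hm,
      pow_orderOf_eq_one]
  calc (u * s) ^ (m + 1) * s = s * (u * s) ^ m := by rw [h2, e]
    _ = u * (u * s) ^ (m + 1) := by rw [pow_succ', ← mul_assoc, ← mul_assoc, hu, one_mul]

theorem red1 (hQ : QuoStmt.{u}) : H19.S93Q.Red1Stmt.{u} := by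
  intro Γ Δ _ _ G _ _ p φ hv hi hA z b Λ Z r g hg h4
  haveI : Fact (Nat.Prime 2) := ⟨Nat.prime_two⟩
  obtain ⟨h1, -, h3, h5⟩ := red_data hA hg
  let W := p.ker.map φ
  obtain ⟨H, _, _, π, ψ, q⟩ := hQ Γ Δ G p φ hv hi W
    (by rintro _ ⟨a, ha, rfl⟩; exact hv.to_C ha) (by rw [card_map_of_injective hi]; exact hv.odd)
    fun a ha => ⟨a, ha, rfl⟩
  have NW : N[φ.range] ≤ N[W] := fun x hx => mem_N_of (by
    rintro _ ⟨a, ha, rfl⟩
    obtain ⟨α, hα⟩ := exists_aut hi hx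
    exact ⟨α a, hv.ker_aut α ha, hα a⟩)
  have oW : ∀ x : N[W], π x = 1 → Odd (orderOf x) := fun x hx => by
    rw [← Subgroup.orderOf_coe]
    exact q.odd.of_dvd_nat (H10.orderOf_dvd_card_of_mem ((q.ker x).1 hx))
  have lf : ∀ (a : Δ) (x : N[W]), π x = ψ (p a) → ∃ a', p a' = p a ∧ φ a' = x := fun a x e => by
    have : π ((⟨φ a, q.mem a⟩ : N[W])⁻¹ * x) = 1 := by
      rw [map_mul, map_inv, q.eq a _ rfl, e, inv_mul_cancel]
    obtain ⟨w, hw, ew⟩ := (q.ker _).1 this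
    refine ⟨a * w, by rw [map_mul, show p w = 1 from hw, mul_one], ?_⟩
    rw [map_mul, ew]
    simp
  have h : Cfg ψ ψ.range (((MulAut.conj g • C[φ.range]).subgroupOf N[W]).map π)
      ((N[(MulAut.conj g • φ.range : Subgroup G)].subgroupOf N[W]).map π) := by
    refine ⟨hv.base, q.inj, rfl, ?_, ?_, ?_, fun k => ?_⟩
    · rintro _ ⟨x, hx, rfl⟩ hk ⟨n, hn⟩
      refine eq_one_of_odd_two (Odd.of_dvd_nat ?_ (orderOf_map_dvd π x)) hn
      rw [← Subgroup.orderOf_coe]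
      exact h1.of_dvd_nat (H10.orderOf_dvd_card_of_mem ⟨hx, (q.cent x).1 hk⟩)
    · rintro _ ⟨m, hm, rfl⟩ _ ⟨x, hx, rfl⟩
      refine ⟨m * x * m⁻¹, ?_, by simp⟩
      change (x : G) ∈ MulAut.conj g • C[φ.range] at hx
      change (m : G) * x * (m : G)⁻¹ ∈ MulAut.conj g • C[φ.range]
      rw [← centralizer_conj_smul] at hx ⊢
      exact C_conj hm hx
    · rintro _ ⟨x, hx, rfl⟩ ss s1 c hc
      obtain ⟨c, rfl⟩ := q.surj c
      have o := oW (x * x) (by rw [map_mul, ss])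
      have e1 : π (x ^ orderOf (x * x)) = π x := by rw [map_pow, pow_odd_of_sq ss o]
      have e2 : x ^ orderOf (x * x) * x ^ orderOf (x * x) = 1 := by
        rw [← (Commute.refl x).mul_pow, pow_orderOf_eq_one]
      have e3 := pow_mem hx (orderOf (x * x))
      rw [← e1] at ss s1 hc
      generalize x ^ orderOf (x * x) = s at *
      have e4 : π (c * s * c⁻¹ * s) = 1 := by
        rw [map_mul, map_mul, map_mul, hc, map_inv, mul_inv_cancel_right, ss]
      obtain ⟨a, ha⟩ := dih e2 (u := c * s * c⁻¹) (by rw [conj_mul, e2, mul_one, mul_inv_cancel]) (oW _ e4)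
      have e5 : π ((c * s * c⁻¹ * s) ^ a) = 1 := by rw [map_pow, e4, one_pow]
      generalize (c * s * c⁻¹ * s) ^ a = k at ha e5
      refine ⟨k⁻¹ * c, h3 s e3 (ord_of_sq (congrArg Subtype.val e2) fun e => s1 ?_)
        (mem_centralizer_singleton_iff.2 ?_), by rw [map_mul, map_inv, e5, inv_one, one_mul]⟩
      · rw [show s = 1 from Subtype.ext e, map_one]
      · have : k⁻¹ * c * s = s * (k⁻¹ * c) := by
          calc _ = k⁻¹ * (c * s * c⁻¹ * k) * (k⁻¹ * c) := by group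
            _ = _ := by rw [← ha]; group
        exact congrArg Subtype.val this
    · obtain ⟨s, hs, ho⟩ := H10.exists_mem_orderOf_eq (p := 2) (H := JJ φ g)
        (dvd_trans ⟨2, rfl⟩ h4)
      have : N[(MulAut.conj g • φ.range : Subgroup G)].comap φ = ⊤ := by
        refine hv.top_of_map (eq_top_iff.2 fun y _ => ?_)
        obtain ⟨a, rfl⟩ := hv.surj y
        obtain ⟨m, hm, e⟩ := k (p a)
        obtain ⟨a', e1, e2⟩ := lf a m e
        exact ⟨a', by rw [SetLike.mem_coe, mem_comap, e2]; exact hm, e1⟩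
      exact h5 s hs ho (by rintro _ ⟨a, rfl⟩; exact this.ge (mem_top a))
  have h4' : 4 ∣ Nat.card ((((MulAut.conj g • C[φ.range]).subgroupOf N[W]).map π) ⊓ N[ψ.range] :
      Subgroup H) := by
    obtain ⟨T, hT⟩ := exists_isSylowIn 2 (JJ φ g)
    rw [card_eq_card_mul_relIndex hT.le] at h4
    refine (Nat.Coprime.dvd_of_dvd_mul_right (Nat.Coprime.pow_left 2
      ((Nat.Prime.coprime_iff_not_dvd Nat.prime_two).2 hT.not_dvd)) h4).trans ?_
    have hTN : T ≤ N[W] := fun x hx => NW (hT.le hx).2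
    refine Subgroup.card_dvd_of_injective ((π.comp (inclusion hTN)).codRestrict _ fun x =>
      ⟨⟨_, (hT.le x.2).1, rfl⟩, (q.norm _).2 (hT.le x.2).2⟩) ((injective_iff_map_eq_one _).2
        fun x e => ?_)
    obtain ⟨n, hn⟩ := hT.isPGroup x
    have := oW (inclusion hTN x) (congrArg Subtype.val e)
    rw [orderOf_injective _ (inclusion_injective hTN)] at this
    exact eq_one_of_odd_two this hn
  obtain ⟨T, hT⟩ := exists_isSylowIn 2
    ((((MulAut.conj g • C[φ.range]).subgroupOf N[W]).map π) ⊓ N[ψ.range])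
  have t4 := h.four hT h4'
  obtain ⟨a, k, hk, sT, ss, s1, sc⟩ := h.pick hT.isPGroup hT.le t4
  have aa := (h.sq hk ss).1
  have a1 : a ≠ 1 := by
    rintro rfl
    exact s1 (h.two hT.isPGroup hT.le sT (by simpa using hk))
  have ba : IsConj b a := by
    rcases r.cls a aa a1 with k1 | k1
    · rcases r.rz with k2 | k2
      · exact k2 ▸ k1
      · obtain ⟨d, rfl⟩ := isConj_iff.1 k1
        exact ((h.tw d).root r.zz k2 hT.isPGroup hT.le t4 hk (hT.le sT).1 ss s1 sc).elim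
    · exact k1
  obtain ⟨c, rfl⟩ := isConj_iff.1 ba
  obtain ⟨-, -, k3, -⟩ := (h.tw c).fin r h4' hT hk sT ss s1 sc
  obtain ⟨x, hx, ex⟩ := (hT.le k3).1
  obtain ⟨a0, e0⟩ := hv.surj (c * b * c⁻¹)
  obtain ⟨a', e1, e2⟩ := lf a0 x (by rw [ex, e0]; rfl)
  rw [e0] at e1
  obtain ⟨m, -, m1, m2⟩ := hv.odd_pow (a := a') (by rw [e1, aa])
  refine ⟨a' ^ m, m1, fun e => a1 (by rw [← e1, ← m2, e, map_one]), by rw [m2, e1]; exact ba, ?_⟩
  rw [map_pow, e2]
  exact pow_mem hx m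

end Cfsg.Agent.H54.S93Red1
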