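import Cfsg.Agent.H54.ExtP3
import Cfsg.Agent.H29.DicksonCore

/-!
Bounds on the prime for extraspecial Sylow subgroups of order `p ^ 3` with many radical subgroups.
-/

set_option autoImplicit false

namespace Cfsg.Agent.H54

open Subgroup H85 H29
open scoped commutatorElement MatrixGroups LinearAlgebra.Projectivization

section PGL

variable {K : Type*} [Field K] {p : ℕ}

theorem commutator_mem_uni {x : P1 K} {g h : PGL(2, K)} (hg : g • x = x) (hh : h • x = x) :
    g * h * g⁻¹ * h⁻¹ ∈ uni x := by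
  obtain ⟨c, hc⟩ := exists_smul_eq_inf x
  rw [← conj_mem_uni_iff (c := c), hc, mem_uni_inf]
  obtain ⟨a, b, h1⟩ := (smul_inf_eq_inf_iff (c * g * c⁻¹)).1 (by rw [← hc, conj_smul_eq_iff, hg])
  obtain ⟨a', b', h2⟩ := (smul_inf_eq_inf_iff (c * h * c⁻¹)).1 (by rw [← hc, conj_smul_eq_iff, hh])
  have e : c * (g * h * g⁻¹ * h⁻¹) * c⁻¹ =
      (c * g * c⁻¹) * (c * h * c⁻¹) * (c * g * c⁻¹)⁻¹ * (c * h * c⁻¹)⁻¹ := by group
  rw [e, h1, h2, aff_inv, aff_inv, aff_mul, aff_mul, aff_mul]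
  exact ⟨_, by rw [mul_right_comm a a', mul_inv_cancel, one_mul, mul_inv_cancel]⟩

theorem card_order_four : (Finset.univ.filter fun s : Equiv.Perm (Fin 4) =>
    s ^ 2 ≠ 1 ∧ s ^ 3 ≠ 1).card = 6 := by decide +kernel

theorem A4_pow : ∀ s : alternatingGroup (Fin 4), s ^ 2 = 1 ∨ s ^ 3 = 1 := by decide +kernel

theorem S4_pow : ∀ s : Equiv.Perm (Fin 4), s ^ 3 = 1 ∨ s ^ 4 = 1 := by decide +kernel

theorem A5_pow : ∀ s : alternatingGroup (Fin 5), s ^ 2 = 1 ∨ s ^ 3 = 1 ∨ s ^ 5 = 1 := by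
  decide +kernel

/-- Many points fixed by elements of large order in a `p'`-subgroup of `PGL₂`. -/
theorem points_bound [IsAlgClosed K] [hp : Fact p.Prime] [CharP K p] (h7 : 7 < p)
    (W : Subgroup PGL(2, K)) [Finite W] (hW : ¬ p ∣ Nat.card W) {ι : Type*} [Fintype ι]
    (x : ι → P1 K) (hx : Function.Injective x) (h3 : 3 ≤ Fintype.card ι)
    (hg : ∀ i, ∃ g ∈ W, g • x i = x i ∧ ∀ n : ℕ, g ^ n = 1 → p - 1 ∣ 3 * n) :
    p = 13 ∧ Fintype.card ι ≤ 12 := by
  classical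
  choose g hgW hgx hgn using hg
  have hp11 : 11 ≤ p := by
    by_contra hlt
    have := hp.out
    interval_cases p <;> simp_all (config := {decide := true})
  have hne : ∀ i (n : ℕ), 0 < n → n ≤ 3 → g i ^ n ≠ 1 := fun i n hn hn3 h => by
    have := Nat.le_of_dvd (by omega) (hgn i n h)
    omega
  have hg1 : ∀ i, g i ≠ 1 := fun i h => hne i 1 one_pos (by omega) (by rw [h, one_pow])
  have huni : ∀ y : P1 K, ∀ u ∈ W, u ∈ uni y → u = 1 := by
    intro y u hu huy
    by_contra h1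
    have h2 : orderOf (⟨u, hu⟩ : W) = p := by
      rw [← orderOf_coe]
      exact orderOf_eq_prime ((uni_pow_eq_one_iff huy p).2 (Or.inr (CharP.cast_eq_zero K p))) h1
    exact hW (h2 ▸ orderOf_dvd_natCard _)
  obtain ⟨i, j, k, hij, hik, hjk⟩ := Fintype.two_lt_card_iff.mp h3
  have hiso : ∀ {H : Type} [Group H] (e : W ≃* H) (i : ι) (n : ℕ), e ⟨g i, hgW i⟩ ^ n = 1 →
      g i ^ n = 1 := by
    intro H _ e i n h
    rw [← map_pow, MulEquiv.map_eq_one_iff] at h
    exact congrArg Subtype.val h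
  have h5 : ∀ i, g i ^ 5 ≠ 1 := fun i h => by
    have h1 := hgn i 5 h
    have h2 := Nat.le_of_dvd (by omega) h1
    have := hp.out
    have h4 : p ≤ 16 := by omega
    interval_cases p <;> simp_all (config := {decide := true})
  have hA5 : IsEmpty (W ≃* alternatingGroup (Fin 5)) := ⟨fun e => by
    rcases A5_pow (e ⟨g i, hgW i⟩) with h | h | h
    · exact hne i 2 (by omega) (by omega) (hiso e i _ h)
    · exact hne i 3 (by omega) (by omega) (hiso e i _ h)
    · exact h5 i (hiso e i _ h)⟩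
  rcases dickson_core W (fun g _ => exists_fixed_of_isAlgClosed g) with
    ⟨y, hy⟩ | ⟨y, y', hyy, -, hy⟩ | ⟨-, ⟨⟨e⟩⟩ | ⟨⟨e⟩⟩ | ⟨⟨e⟩⟩⟩ | ⟨-, ⟨e⟩⟩ | ⟨y, q, hq, hqc, -⟩
  · exfalso
    have key : ∀ i j, i ≠ j → x i ≠ y → x j ≠ y → False := by
      intro i j hij hi hj
      have h1 := huni y _ (mul_mem (mul_mem (mul_mem (hgW i) (hgW j)) (inv_mem (hgW i)))
        (inv_mem (hgW j))) (commutator_mem_uni (hy _ (hgW i)) (hy _ (hgW j)))
      rw [mul_inv_eq_one, mul_inv_eq_iff_eq_mul] at h1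
      have h2 : g j • (g i • x j) = g i • x j := by rw [← mul_smul, ← h1, mul_smul, hgx]
      rcases fix_eq_or_eq (hg1 j) hj (hgx j) (hy _ (hgW j)) h2 with h | h
      · exact hg1 i (eq_one_of_fix_three (hx.ne hij) hi hj (hgx i) h (hy _ (hgW i)))
      · exact hj (MulAction.injective (g i) (h.trans (hy _ (hgW i)).symm))
    by_cases h1 : x i = y
    · exact key j k hjk (h1 ▸ hx.ne hij.symm) (h1 ▸ hx.ne hik.symm)
    by_cases h2 : x j = y
    · exact key i k hik h1 (h2 ▸ hx.ne hjk.symm)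
    · exact key i j hij h1 h2
  · exfalso
    have key : ∀ i, x i = y ∨ x i = y' := by
      intro i
      rcases hy _ (hgW i) with h | h
      · exact fix_eq_or_eq (hg1 i) hyy h.1 h.2 (hgx i)
      · exact absurd (by rw [sq]; exact mul_self_eq_one_of_swap hyy h.1 h.2)
          (hne i 2 (by omega) (by omega))
    have e1 := hx.ne hij
    have e2 := hx.ne hik
    have e3 := hx.ne hjk
    rcases key i with h1 | h1 <;> rcases key j with h2 | h2 <;> rcases key k with h3 | h3 <;>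
      simp_all
  · exfalso
    rcases A4_pow (e ⟨g i, hgW i⟩) with h | h
    · exact hne i 2 (by omega) (by omega) (hiso e i _ h)
    · exact hne i 3 (by omega) (by omega) (hiso e i _ h)
  · refine ⟨?_, ?_⟩
    · rcases S4_pow (e ⟨g i, hgW i⟩) with h | h
      · exact absurd (hiso e i _ h) (hne i 3 (by omega) (by omega))
      · have h1 := hgn i 4 (hiso e i _ h)
        have h2 := Nat.le_of_dvd (by omega) h1
        have := hp.out
        have h4 : p ≤ 13 := by omega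
        interval_cases p <;> simp_all (config := {decide := true})
    · have := Finset.card_le_mul_card_image_of_maps_to (s := (Finset.univ : Finset ι))
        (t := Finset.univ.filter fun s : Equiv.Perm (Fin 4) => s ^ 2 ≠ 1 ∧ s ^ 3 ≠ 1)
        (f := fun i => e ⟨g i, hgW i⟩)
        (fun i _ => Finset.mem_filter.mpr ⟨Finset.mem_univ _,
          fun h => hne i 2 (by omega) (by omega) (hiso e i _ h),
          fun h => hne i 3 (by omega) (by omega) (hiso e i _ h)⟩) 2 (fun s _ => by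
          by_contra hlt
          obtain ⟨a, ha, b, hb, c, hc, hab, hac, hbc⟩ := Finset.two_lt_card.mp (not_le.mp hlt)
          have e1 : g b = g a := congrArg Subtype.val (e.injective
            ((Finset.mem_filter.mp hb).2.trans (Finset.mem_filter.mp ha).2.symm))
          have e2 : g c = g a := congrArg Subtype.val (e.injective
            ((Finset.mem_filter.mp hc).2.trans (Finset.mem_filter.mp ha).2.symm))
          exact hg1 a (eq_one_of_fix_three (hx.ne hab) (hx.ne hac) (hx.ne hbc) (hgx a)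
            (e1 ▸ hgx b) (e2 ▸ hgx c)))
      rwa [card_order_four] at this
  · exact hA5.elim e
  · exact hA5.elim e
  · exfalso
    have : (uni y).subgroupOf W = ⊥ := eq_bot_iff.mpr fun u hu => Subtype.ext (huni y u u.2 hu)
    rw [this, card_bot] at hqc
    omega

end PGL

variable {G : Type*} [Group G] {p : ℕ}

open Classical in
/-- The exponent of a power of `z`. -/
noncomputable def lg (p : ℕ) (z w : G) : ZMod p :=
  if h : ∃ a : ZMod p, w = zp z a then h.choose else 0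

/-- The commutator form. -/
noncomputable def cf (p : ℕ) (z s t : G) : ZMod p := lg p z ⁅s, t⁆

namespace XS

variable [hp : Fact p.Prime] {P : Subgroup G} {z : G} (h : XS p P z)
include h

theorem zp_cf {s t : G} (hs : s ∈ P) (ht : t ∈ P) : ⁅s, t⁆ = zp z (cf p z s t) := by
  have := exists_zp_of_mem h.pow (h.comm s hs t ht)
  rw [cf, lg, dif_pos this]
  exact this.choose_spec

theorem cf_eq {s t : G} (hs : s ∈ P) (ht : t ∈ P) {a : ZMod p} (e : ⁅s, t⁆ = zp z a) :
    cf p z s t = a := zp_inj h.ord ((h.zp_cf hs ht).symm.trans e)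

theorem cf_eq_zero_iff {s t : G} (hs : s ∈ P) (ht : t ∈ P) : cf p z s t = 0 ↔ s * t = t * s := by
  rw [← zp_eq_one_iff h.ord, ← h.zp_cf hs ht, commutatorElement_eq_one_iff_mul_comm]

theorem cf_mul_left {a b t : G} (ha : a ∈ P) (hb : b ∈ P) (ht : t ∈ P) :
    cf p z (a * b) t = cf p z a t + cf p z b t :=
  h.cf_eq (mul_mem ha hb) ht (by
    rw [h.comm_mul_left ha hb ht, zp_add h.pow, ← h.zp_cf ha ht, ← h.zp_cf hb ht])

theorem cf_swap {s t : G} (hs : s ∈ P) (ht : t ∈ P) : cf p z t s = -cf p z s t :=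
  h.cf_eq ht hs (by rw [zp_neg h.pow, ← h.zp_cf hs ht, commutatorElement_inv])

theorem cf_mul_right {a b t : G} (ha : a ∈ P) (hb : b ∈ P) (ht : t ∈ P) :
    cf p z t (a * b) = cf p z t a + cf p z t b := by
  rw [h.cf_swap (mul_mem ha hb) ht, h.cf_mul_left ha hb ht, h.cf_swap ha ht, h.cf_swap hb ht]; ring

theorem cf_zp_left {a t : G} (ha : a ∈ P) (ht : t ∈ P) (i : ZMod p) :
    cf p z (zp a i) t = i * cf p z a t :=
  h.cf_eq (zp_mem ha i) ht (by
    rw [zp, h.comm_pow_left ha ht, h.zp_cf ha ht, zp_pow h.pow, ZMod.natCast_zmod_val, mul_comm])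

theorem cf_zp_right {a t : G} (ha : a ∈ P) (ht : t ∈ P) (i : ZMod p) :
    cf p z t (zp a i) = i * cf p z t a := by
  rw [h.cf_swap (zp_mem ha i) ht, h.cf_zp_left ha ht, h.cf_swap ha ht]; ring

theorem cf_self {s : G} (hs : s ∈ P) : cf p z s s = 0 := (h.cf_eq_zero_iff hs hs).mpr rfl

theorem cf_cen_left {w t : G} (hw : w ∈ zpowers z) (ht : t ∈ P) : cf p z w t = 0 :=
  (h.cf_eq_zero_iff (h.zle hw) ht).mpr (h.cen' ht hw).symm

theorem cf_cen_right {w t : G} (hw : w ∈ zpowers z) (ht : t ∈ P) : cf p z t w = 0 :=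
  (h.cf_eq_zero_iff ht (h.zle hw)).mpr (h.cen' ht hw)

theorem cf_conj {g s t : G} (hg : g ∈ normalizer (P : Set G)) {a : ZMod p}
    (hz : g * z * g⁻¹ = zp z a) (hs : s ∈ P) (ht : t ∈ P) :
    cf p z (g * s * g⁻¹) (g * t * g⁻¹) = a * cf p z s t :=
  h.cf_eq ((mem_normalizer_iff.mp hg s).mp hs) ((mem_normalizer_iff.mp hg t).mp ht) (by
    rw [← zp_zp h.pow, ← hz, ← conj_zp, ← h.zp_cf hs ht]
    simp only [commutatorElement_def]; group)

theorem exists_basis [Finite G] : ∃ x ∈ P, ∃ y ∈ P, cf p z x y = 1 := by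
  obtain ⟨y, hy, hyz⟩ : ∃ y ∈ P, y ∉ zpowers z := by
    by_contra hc
    push Not at hc
    have h1 := card_le_of_le (show P ≤ zpowers z from hc)
    rw [h.card, h.card_zpowers] at h1
    have h2 : p ^ 1 < p ^ 3 := Nat.pow_lt_pow_right hp.out.one_lt (by omega)
    rw [pow_one] at h2
    omega
  obtain ⟨x, hx, hxy⟩ := h.exists_conj hy hyz (mem_zpowers z)
  exact ⟨x, hx, y, hy, h.cf_eq hx hy (by rw [zp_one, commutatorElement_def, hxy]; group)⟩

variable [Finite G] {x y : G} (hx : x ∈ P) (hy : y ∈ P) (hxy : cf p z x y = 1)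
include hx hy hxy

theorem decomp {s : G} (hs : s ∈ P) :
    ∃ w ∈ zpowers z, s = zp x (cf p z s y) * zp y (cf p z x s) * w := by
  set r := zp x (cf p z s y) * zp y (cf p z x s) with hr
  have hrP : r ∈ P := mul_mem (zp_mem hx _) (zp_mem hy _)
  have hw : r⁻¹ * s ∈ P := mul_mem (inv_mem hrP) hs
  refine ⟨r⁻¹ * s, ?_, by group⟩
  have e : s = r * (r⁻¹ * s) := by group
  have h1 : cf p z (r⁻¹ * s) y = 0 := by
    have := h.cf_mul_left hrP hw hy
    rw [← e, hr, h.cf_mul_left (zp_mem hx _) (zp_mem hy _) hy, h.cf_zp_left hx hy,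
      h.cf_zp_left hy hy, hxy, h.cf_self hy] at this
    linear_combination -this
  have h2 : cf p z x (r⁻¹ * s) = 0 := by
    have := h.cf_mul_right hrP hw hx
    rw [← e, hr, h.cf_mul_right (zp_mem hx _) (zp_mem hy _) hx, h.cf_zp_right hx hx,
      h.cf_zp_right hy hx, hxy, h.cf_self hx] at this
    linear_combination -this
  rw [h.cf_eq_zero_iff hw hy] at h1
  rw [h.cf_eq_zero_iff hx hw] at h2
  by_contra hne
  have hxy' : x * y ≠ y * x := fun e => by
    rw [← h.cf_eq_zero_iff hx hy, hxy] at e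
    exact one_ne_zero e
  have hyz : y ∉ zpowers z := fun e => hxy' (h.cen' hx e)
  have hC : P ⊓ centralizer {r⁻¹ * s} ≠ P := fun e => hne (h.of_cen _ hw fun a ha =>
    mem_centralizer_singleton_iff.mp (e.ge ha).2)
  have h3 := h.eq_centralizer inf_le_left hC
    ⟨h.mem, mem_centralizer_singleton_iff.mpr (h.cen _ hw).symm⟩
    ⟨hy, mem_centralizer_singleton_iff.mpr h1.symm⟩ hyz
  have h4 : x ∈ P ⊓ centralizer {y} := h3 ▸ ⟨hx, mem_centralizer_singleton_iff.mpr h2⟩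
  exact hxy' (mem_centralizer_singleton_iff.mp h4.2)

theorem cf_det {s t : G} (hs : s ∈ P) (ht : t ∈ P) :
    cf p z s t = cf p z s y * cf p z x t - cf p z x s * cf p z t y := by
  obtain ⟨w, hw, e⟩ := h.decomp hx hy hxy hs
  conv_lhs => rw [e]
  rw [h.cf_mul_left (mul_mem (zp_mem hx _) (zp_mem hy _)) (h.zle hw) ht,
    h.cf_mul_left (zp_mem hx _) (zp_mem hy _) ht, h.cf_zp_left hx ht, h.cf_zp_left hy ht,
    h.cf_cen_left hw ht, h.cf_swap ht hy]
  ring

omit hx hy hxy [Finite G] in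
theorem exists_conj_z {g : G} (hg : g ∈ normalizer (P : Set G)) :
    ∃ a : ZMod p, g * z * g⁻¹ = zp z a :=
  exists_zp_of_mem h.pow (h.of_cen _ ((mem_normalizer_iff.mp hg z).mp h.mem) fun s hs => by
    have := h.cen _ ((mem_normalizer_iff.mp (inv_mem hg) s).mp hs)
    calc s * (g * z * g⁻¹) = g * (g⁻¹ * s * g⁻¹⁻¹ * z) * g⁻¹ := by group
      _ = _ := by rw [this]; group)

theorem cf_conj_left {g s t : G} (hg : g ∈ normalizer (P : Set G)) (hs : s ∈ P) (ht : t ∈ P) :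
    cf p z (g * s * g⁻¹) t = cf p z (g * x * g⁻¹) t * cf p z s y +
      cf p z (g * y * g⁻¹) t * cf p z x s := by
  obtain ⟨w, hw, e⟩ := h.decomp hx hy hxy hs
  have hc : ∀ {a : G}, a ∈ P → g * a * g⁻¹ ∈ P := fun ha => (mem_normalizer_iff.mp hg _).mp ha
  have e' : g * s * g⁻¹ = zp (g * x * g⁻¹) (cf p z s y) * zp (g * y * g⁻¹) (cf p z x s) *
      (g * w * g⁻¹) := by
    rw [← conj_zp, ← conj_zp]
    conv_lhs => rw [e]
    group
  have hw' : g * w * g⁻¹ ∈ zpowers z := by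
    obtain ⟨a, ha⟩ := h.exists_conj_z hg
    obtain ⟨i, rfl⟩ := exists_zp_of_mem h.pow hw
    rw [conj_zp, ha]
    exact zp_mem (zp_mem (mem_zpowers z) _) _
  rw [e', h.cf_mul_left (mul_mem (zp_mem (hc hx) _) (zp_mem (hc hy) _)) (h.zle hw') ht,
    h.cf_mul_left (zp_mem (hc hx) _) (zp_mem (hc hy) _) ht, h.cf_zp_left (hc hx) ht,
    h.cf_zp_left (hc hy) ht, h.cf_cen_left hw' ht]
  ring

theorem cf_conj_right {g s t : G} (hg : g ∈ normalizer (P : Set G)) (hs : s ∈ P) (ht : t ∈ P) :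
    cf p z t (g * s * g⁻¹) = cf p z t (g * x * g⁻¹) * cf p z s y +
      cf p z t (g * y * g⁻¹) * cf p z x s := by
  have hc : ∀ {a : G}, a ∈ P → g * a * g⁻¹ ∈ P := fun ha => (mem_normalizer_iff.mp hg _).mp ha
  rw [h.cf_swap (hc hs) ht, h.cf_swap (hc hx) ht, h.cf_swap (hc hy) ht,
    h.cf_conj_left hx hy hxy hg hs ht]
  ring

/-- The action of the normalizer on `P / Z(P)`. -/
noncomputable def rep : normalizer (P : Set G) →* Matrix (Fin 2) (Fin 2) (ZMod p) where
  toFun g := !![cf p z (g * x * g⁻¹) y, cf p z (g * y * g⁻¹) y;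
    cf p z x (g * x * g⁻¹), cf p z x (g * y * g⁻¹)]
  map_one' := by
    ext i j
    fin_cases i <;> fin_cases j <;> simp [hxy, h.cf_self hx, h.cf_self hy]
  map_mul' g k := by
    have hc : ∀ {a : G}, a ∈ P → k * a * (k : G)⁻¹ ∈ P := fun ha =>
      (mem_normalizer_iff.mp k.2 _).mp ha
    have e : ∀ a : G, ((g * k : normalizer (P : Set G)) : G) * a *
        ((g * k : normalizer (P : Set G)) : G)⁻¹ = g * (k * a * (k : G)⁻¹) * (g : G)⁻¹ := by
      intro a; rw [coe_mul]; group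
    rw [Matrix.mul_fin_two]
    simp only [coe_inv, e]
    rw [h.cf_conj_left hx hy hxy g.2 (hc hx) hy, h.cf_conj_left hx hy hxy g.2 (hc hy) hy,
      h.cf_conj_right hx hy hxy g.2 (hc hx) hx, h.cf_conj_right hx hy hxy g.2 (hc hy) hx]

omit hx hy hxy in
/-- The bound on the prime. -/
theorem bound (hP : IsSyl p P ⊤) (h7 : 7 < p) {ι : Type*} [Fintype ι] (h3 : 3 ≤ Fintype.card ι)
    (Y : ι → G) (hY : ∀ i, Y i ∈ P) (hYz : ∀ i, Y i ∉ zpowers z) (hYp : ∀ i, Y i ^ p = 1)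
    (hYc : ∀ i j, Y i * Y j = Y j * Y i → i = j)
    (hv : ∀ i, ∃ v : G, v * Y i * v⁻¹ = Y i ∧ v * z * v⁻¹ = z * Y i) :
    p = 13 ∧ Fintype.card ι ≤ 12 := by
  obtain ⟨x, hx, y, hy, hxy⟩ := h.exists_basis
  let K := AlgebraicClosure (ZMod p)
  let φ : ZMod p →+* K := algebraMap _ _
  have hφ : Function.Injective φ := φ.injective
  let ρ0 : normalizer (P : Set G) →* GL (Fin 2) K :=
    (φ.mapMatrix.toMonoidHom.comp (h.rep hx hy hxy)).toHomUnits
  have hρ0 : ∀ (g : normalizer (P : Set G)) (i j : Fin 2), ρ0 g i j = φ (h.rep hx hy hxy g i j) :=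
    fun g i j => rfl
  let ρ : normalizer (P : Set G) →* PGL(2, K) := pmk.comp ρ0
  have hfin : Finite ρ.range := Finite.of_surjective _ ρ.rangeRestrict_surjective
  have hW : ¬ p ∣ Nat.card ρ.range := by
    rw [← index_ker]
    refine fun hd => (hP.of_le le_normalizer le_top).not_dvd_relIndex (hd.trans (index_dvd_of_le ?_))
    intro s hs
    have hs' : (s : G) ∈ P := hs
    have e : ∀ a ∈ P, ∃ w ∈ zpowers z, (s : G) * a * (s : G)⁻¹ = w * a := fun a ha =>
      ⟨_, h.comm s hs' a ha, by rw [commutatorElement_def]; group⟩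
    obtain ⟨w1, hw1, e1⟩ := e x hx
    obtain ⟨w2, hw2, e2⟩ := e y hy
    change pmk (ρ0 s) = 1
    rw [pmk_eq_one_iff, hρ0, hρ0, hρ0, hρ0]
    change φ (cf p z (s * y * (s : G)⁻¹) y) = 0 ∧ φ (cf p z x (s * x * (s : G)⁻¹)) = 0 ∧
      φ (cf p z (s * x * (s : G)⁻¹) y) = φ (cf p z x (s * y * (s : G)⁻¹))
    rw [e1, e2, h.cf_mul_left (h.zle hw2) hy hy, h.cf_mul_right (h.zle hw1) hx hx,
      h.cf_mul_left (h.zle hw1) hx hy, h.cf_mul_right (h.zle hw2) hy hx, h.cf_cen_left hw2 hy,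
      h.cf_cen_left hw1 hy, h.cf_cen_right hw1 hx, h.cf_cen_right hw2 hx, h.cf_self hx,
      h.cf_self hy]
    simp
  have hne : ∀ i, cf p z (Y i) y ≠ 0 ∨ cf p z x (Y i) ≠ 0 := by
    intro i
    by_contra hc
    push Not at hc
    obtain ⟨w, hw, e⟩ := h.decomp hx hy hxy (hY i)
    rw [hc.1, hc.2, zp_zero, zp_zero, one_mul, one_mul] at e
    exact hYz i (e ▸ hw)
  have hne' : ∀ i, (![φ (cf p z (Y i) y), φ (cf p z x (Y i))] : Fin 2 → K) ≠ 0 := by
    intro i e
    rcases hne i with h1 | h1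
    · exact h1 (hφ (by simpa using congrFun e 0))
    · exact h1 (hφ (by simpa using congrFun e 1))
  refine points_bound h7 ρ.range hW (fun i => Projectivization.mk K _ (hne' i)) ?_ h3 fun i => ?_
  · intro i j hij
    rw [P1_mk_eq_mk_iff] at hij
    apply hYc
    rw [← h.cf_eq_zero_iff (hY i) (hY j), h.cf_det hx hy hxy (hY i) (hY j), sub_eq_zero]
    apply hφ
    simpa using hij
  obtain ⟨v, hvy, hvz⟩ := hv i
  obtain ⟨a, ha⟩ := IsCyclic.exists_ofOrder_eq_natCard (α := (ZMod p)ˣ)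
  rw [Nat.card_eq_fintype_card, ZMod.card_units] at ha
  obtain ⟨g, hg, hgz, hgy⟩ := h.exists_torus hP (hY i) (hYz i) (hYp i) hvy hvz a.ne_zero
  refine ⟨ρ ⟨g, hg⟩, ⟨_, rfl⟩, ?_, fun n hn => ?_⟩
  · change pmk (ρ0 ⟨g, hg⟩) • _ = _
    rw [pmk_smul_mk, hρ0, hρ0, hρ0, hρ0]
    have e1 := h.cf_conj_left hx hy hxy hg (hY i) hy
    have e2 := h.cf_conj_right hx hy hxy hg (hY i) hx
    rw [hgy, h.cf_zp_left (hY i) hy] at e1
    rw [hgy, h.cf_zp_right (hY i) hx] at e2
    change (φ (cf p z (g * x * g⁻¹) y) * φ _ + φ (cf p z (g * y * g⁻¹) y) * φ _) * φ _ =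
      (φ (cf p z x (g * x * g⁻¹)) * φ _ + φ (cf p z x (g * y * g⁻¹)) * φ _) * φ _
    simp only [← map_mul, ← map_add]
    rw [← e1, ← e2]
    congr 1; ring
  · have hgn : g ^ n ∈ normalizer (P : Set G) := pow_mem hg n
    have hz' : ∀ m : ℕ, g ^ m * z * (g ^ m)⁻¹ = zp z ((a : ZMod p) ^ m) := by
      intro m
      induction m with
      | zero => simp [zp_one]
      | succ m ih =>
        rw [pow_succ (a : ZMod p), ← zp_zp h.pow, ← ih, ← conj_zp, ← hgz, pow_succ]; group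
    have hy' : ∀ m : ℕ, g ^ m * Y i * (g ^ m)⁻¹ = zp (Y i) ((a : ZMod p)⁻¹ ^ m) := by
      intro m
      induction m with
      | zero => rw [pow_zero, pow_zero, zp_one]; group
      | succ m ih =>
        rw [pow_succ (a : ZMod p)⁻¹, ← zp_zp (hYp i), ← ih, ← conj_zp, ← hgy, pow_succ]; group
    rw [← map_pow] at hn
    change pmk (ρ0 ⟨g ^ n, hgn⟩) = 1 at hn
    rw [pmk_eq_one_iff, hρ0, hρ0, hρ0, hρ0] at hn
    change φ (cf p z (g ^ n * y * (g ^ n)⁻¹) y) = 0 ∧ φ (cf p z x (g ^ n * x * (g ^ n)⁻¹)) = 0 ∧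
      φ (cf p z (g ^ n * x * (g ^ n)⁻¹) y) = φ (cf p z x (g ^ n * y * (g ^ n)⁻¹)) at hn
    have n1 := (map_eq_zero_iff φ hφ).mp hn.1
    have n2 := (map_eq_zero_iff φ hφ).mp hn.2.1
    have n3 := hφ hn.2.2
    have e1 := h.cf_conj_left hx hy hxy hgn (hY i) hy
    have e2 := h.cf_conj_right hx hy hxy hgn (hY i) hx
    rw [hy', h.cf_zp_left (hY i) hy, n1] at e1
    rw [hy', h.cf_zp_right (hY i) hx, n2, ← n3] at e2
    have e3 : cf p z (g ^ n * x * (g ^ n)⁻¹) y = (a : ZMod p)⁻¹ ^ n := by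
      rcases hne i with h1 | h1
      · exact mul_right_cancel₀ h1 (by linear_combination -e1)
      · exact mul_right_cancel₀ h1 (by linear_combination -e2)
    have e4 := h.cf_conj hgn (hz' n) hx hy
    rw [h.cf_det hx hy hxy ((mem_normalizer_iff.mp hgn _).mp hx)
      ((mem_normalizer_iff.mp hgn _).mp hy), n1, n2, ← n3, e3, hxy] at e4
    rw [← ha, orderOf_dvd_iff_pow_eq_one]
    apply Units.ext
    have ha0 : (a : ZMod p) ^ n ≠ 0 := pow_ne_zero _ a.ne_zero
    rw [inv_pow] at e4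
    rw [Units.val_pow_eq_pow_val, Units.val_one, mul_comm, pow_mul]
    field_simp at e4
    linear_combination -e4

end XS

end Cfsg.Agent.H54
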