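import Cfsg.Agent.H54.VKit0
import Cfsg.Agent.H21.AnGr
import Cfsg.Agent.H35.GrT
import Cfsg.Agent.H31.HermCount

/-!
# Field and graph involutions of type `Aₙ` against a unitary group
-/

set_option autoImplicit false
set_option linter.unusedSectionVars false

namespace Cfsg.Agent.H54V.H21.UmGr

open Cfsg.Agent.H21

open Finset Cfsg.Agent.H31

theorem pow_sub_ne {q : ℕ} (hq : 2 ≤ q) (i : ℕ) : q ^ (i + 1) - 1 ≠ 0 :=
  Nat.sub_ne_zero_of_lt (Nat.one_lt_pow i.succ_ne_zero hq)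

theorem val_prod {p : ℕ} [Fact p.Prime] {f : ℕ → ℕ} (hf : ∀ i, f i ≠ 0) (m : ℕ) :
    padicValNat p (∏ i ∈ range m, f i) = ∑ i ∈ range m, padicValNat p (f i) := by
  induction m with
  | zero => simp
  | succ m ih =>
    rw [prod_range_succ, sum_range_succ, padicValNat.mul (prod_ne_zero_iff.2 fun i _ => hf i) (hf m), ih]

theorem ordGU_ne {q : ℕ} (hq : 2 ≤ q) (m : ℕ) : ordGU q m ≠ 0 :=
  mul_ne_zero (by positivity) (prod_ne_zero_iff.2 fun i _ => by
    split_ifs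
    exacts [Nat.succ_ne_zero _, pow_sub_ne hq i])

theorem val_GU {p q : ℕ} [hp : Fact p.Prime] (hq : 2 ≤ q) (hpq : ¬ p ∣ q)
    (ho : ∀ i, Even i → ¬ p ∣ q ^ (i + 1) + 1) (m : ℕ) : padicValNat p (ordGU q m) =
      ∑ i ∈ range m, if Even i then 0 else padicValNat p (q ^ (i + 1) - 1) := by
  have h0 : ∀ i, (if Even i then q ^ (i + 1) + 1 else q ^ (i + 1) - 1) ≠ 0 := fun i => by
    split_ifs
    exacts [Nat.succ_ne_zero _, pow_sub_ne hq i]
  rw [ordGU, padicValNat.mul (by positivity) (prod_ne_zero_iff.2 fun i _ => h0 i),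
    padicValNat.eq_zero_of_not_dvd (mt hp.out.dvd_of_dvd_pow hpq), zero_add, val_prod h0]
  refine sum_congr rfl fun i _ => ?_
  split_ifs with e
  exacts [padicValNat.eq_zero_of_not_dvd (ho i e), rfl]

theorem two_ne {p : ℕ} [hp : Fact p.Prime] (h2 : p ≠ 2) : (-1 : ZMod p) ≠ 1 := fun e =>
  h2 ((Nat.prime_dvd_prime_iff_eq hp.out Nat.prime_two).1
    ((ZMod.natCast_eq_zero_iff 2 p).1 (by push_cast; linear_combination -e)))

theorem not_dvd4 {q l : ℕ} (hq : 2 ≤ q) (he : 2 ∣ q) (hl : 1 ≤ l) :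
    ¬ (q ^ 4 - 1) ^ l ∣ ordGU q (2 * l + 1) := by
  intro h
  obtain ⟨p, hp, hd⟩ := Nat.exists_prime_and_dvd (n := q ^ 2 + 1) (by nlinarith)
  have : Fact p.Prime := ⟨hp⟩
  have hpq : ¬ p ∣ q := fun h1 =>
    hp.one_lt.ne' (Nat.dvd_one.1 ((Nat.dvd_add_right (dvd_pow h1 two_ne_zero)).1 hd))
  have h2 : p ≠ 2 := fun e => hpq (e ▸ he)
  have hsq : (q : ZMod p) ^ 2 = -1 := by
    have := (ZMod.natCast_eq_zero_iff _ _).2 hd
    push_cast at this
    exact eq_neg_of_add_eq_zero_left this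
  have ho : ∀ i, Even i → ¬ p ∣ q ^ (i + 1) + 1 := fun i hi e => by
    have h1 := (ZMod.natCast_eq_zero_iff _ _).2 e
    push_cast at h1
    have h3 : ((q : ZMod p) ^ (i + 1)) ^ 2 = 1 := by rw [eq_neg_of_add_eq_zero_left h1]; simp
    rw [← pow_mul, mul_comm, pow_mul, hsq, hi.add_one.neg_one_pow] at h3
    exact two_ne h2 h3
  have h1 := (padicValNat_dvd_iff_le (ordGU_ne hq _)).1 ((pow_padicValNat_dvd (p := p)).trans h)
  rw [padicValNat.pow, val_GU hq hpq ho] at h1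
  have h3 := h1.trans ((sum_le_sum fun i _ => show _ ≤ padicValNat p (q ^ (i + 1) - 1) by
    split_ifs
    exacts [Nat.zero_le _, le_rfl]).trans ((val_prod (pow_sub_ne hq) _).ge.trans
      (AnGr.val_le hq h2 hd _)))
  have h4 : 1 ≤ padicValNat p (q ^ 4 - 1) := one_le_padicValNat_of_dvd (pow_sub_ne hq 3)
    (hd.trans ⟨q ^ 2 - 1, by rw [← Nat.sq_sub_sq _ 1, ← pow_mul]⟩)
  generalize padicValNat p (q ^ 4 - 1) = a at h3 h4
  rcases Nat.eq_zero_or_pos ((2 * l + 1) / 4) with h5 | h5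
  · rw [h5] at h3
    simp at h3
    omega
  · have h6 := padicValNat_factorial_lt_of_ne_zero p h5.ne'
    have h7 : 2 * ((2 * l + 1) / 4) ≤ l := by omega
    generalize (2 * l + 1) / 4 = k at *
    nlinarith

theorem exists_p (q : ℕ) (hq : 2 ≤ q) : ∃ p, p.Prime ∧ p ≠ 3 ∧ p ∣ q ^ 2 + q + 1 := by
  by_contra! H
  have h1 := Nat.eq_prime_pow_of_unique_prime_dvd (n := q ^ 2 + q + 1) (p := 3) (Nat.succ_ne_zero _)
    fun {d} hd e => by_contra fun c => H d hd c e
  generalize (q ^ 2 + q + 1).primeFactorsList.length = a at h1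
  have h2 : 2 ≤ a := by
    by_contra c
    have : 3 ^ a ≤ 3 ^ 1 := Nat.pow_le_pow_right (by norm_num) (by omega)
    nlinarith
  have h3 : ((q ^ 2 + q + 1 : ℕ) : ZMod 9) = 0 :=
    (ZMod.natCast_eq_zero_iff _ _).2 (h1 ▸ pow_dvd_pow 3 h2)
  push_cast at h3
  exact (by decide : ∀ z : ZMod 9, z ^ 2 + z + 1 ≠ 0) _ h3

theorem not_dvd3 {q m N : ℕ} (hq : 2 ≤ q) (hm : 3 ≤ m) :
    ¬ q ^ N * ∏ i ∈ range m, (q ^ (i + 1) - 1) ∣ (q - 1) * (q - 1) * ordGU q m := by
  intro h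
  obtain ⟨p, hp, h3, hd⟩ := exists_p q hq
  have : Fact p.Prime := ⟨hp⟩
  have h0 : (q : ZMod p) ^ 2 + q + 1 = 0 := by
    have := (ZMod.natCast_eq_zero_iff _ _).2 hd
    push_cast at this
    exact this
  have hpq : ¬ p ∣ q := fun e => by
    rw [(ZMod.natCast_eq_zero_iff _ _).2 e] at h0
    simp at h0
  have h1 : (q : ZMod p) ≠ 1 := fun e => h3 ((Nat.prime_dvd_prime_iff_eq hp Nat.prime_three).1
    ((ZMod.natCast_eq_zero_iff 3 p).1 (by rw [e] at h0; push_cast; linear_combination h0)))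
  have hc : (q : ZMod p) ^ 3 = 1 := by linear_combination ((q : ZMod p) - 1) * h0
  have h2 : p ≠ 2 := by
    rintro rfl
    have h6 := (Nat.even_mul_succ_self q).two_dvd
    rw [show q ^ 2 + q + 1 = q * (q + 1) + 1 by ring] at hd
    omega
  have ho : ∀ i, Even i → ¬ p ∣ q ^ (i + 1) + 1 := fun i _ e => by
    have h1 := (ZMod.natCast_eq_zero_iff _ _).2 e
    push_cast at h1
    have h3 : ((q : ZMod p) ^ (i + 1)) ^ 3 = -1 := by rw [eq_neg_of_add_eq_zero_left h1]; ring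
    rw [← pow_mul, mul_comm, pow_mul, hc, one_pow] at h3
    exact two_ne h2 h3.symm
  have hq1 : q - 1 ≠ 0 := by omega
  have h4 : padicValNat p (q - 1) = 0 := padicValNat.eq_zero_of_not_dvd fun e => h1 (by
    have := (ZMod.natCast_eq_zero_iff _ _).2 e
    rwa [Nat.cast_sub (by omega), Nat.cast_one, sub_eq_zero] at this)
  have h5 := (padicValNat_dvd_iff_le (mul_ne_zero (mul_ne_zero hq1 hq1) (ordGU_ne hq m))).1
    ((pow_padicValNat_dvd (p := p)).trans ((dvd_mul_left _ _).trans h))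
  rw [padicValNat.mul (mul_ne_zero hq1 hq1) (ordGU_ne hq m), padicValNat.mul hq1 hq1, h4,
    val_GU hq hpq ho, val_prod (pow_sub_ne hq), add_zero, zero_add] at h5
  refine absurd h5 (not_le.2 (sum_lt_sum (fun i _ => ?_) ⟨2, mem_range.2 hm, ?_⟩))
  · split_ifs
    exacts [Nat.zero_le _, le_rfl]
  · rw [if_pos even_two]
    refine one_le_padicValNat_of_dvd (pow_sub_ne hq 2) ((ZMod.natCast_eq_zero_iff _ _).1 ?_)
    rw [Nat.cast_sub (Nat.one_le_pow _ _ (by omega)), Nat.cast_pow, Nat.cast_one, sub_eq_zero]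
    exact hc

section Group

open Cfsg Cfsg.Agent.H63 Cfsg.Agent.H63.SL Cfsg.Agent.H63.An Cfsg.Agent.H34 Cfsg.Agent.H40
  Cfsg.Agent.H80 Cfsg.Agent.H35 Cfsg.Agent.H35.NF Cfsg.Agent.H34.TW Cfsg.Agent.H34.UM
  Cfsg.Agent.H21.AnGr Subgroup Equiv Module
open Cfsg.Agent.H40.LF (x_mem_UU UU_le x_mem_L)
open scoped commutatorElement MatrixGroups

universe u v

variable {n : ℕ}

theorem card_pos : {r | (R n).Pos r}.ncard = (n + 1).choose 2 := by
  classical
  have := Finset.card_product_filter_lt (s := (Finset.univ : Finset (Fin (n + 1))))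
  rw [Finset.card_univ, Fintype.card_fin] at this
  rw [← this, ← Set.ncard_coe_finset]
  refine Set.ncard_congr (fun r _ => r.1) (fun r hr => ?_) (fun _ _ _ _ e => Subtype.ext e)
    fun p hp => ?_
  · obtain ⟨i, j, h, rfl⟩ := exists_rt r
    simpa [rt] using (pos_rt h).1 hr
  · have h : p.1 < p.2 := by simpa using hp
    exact ⟨rt p.1 p.2 h.ne, (pos_rt h.ne).2 h, rfl⟩

theorem GL_dvd (m : ℕ) (F : Type v) [Field F] [Finite F] : Nat.card (GL (Fin (m + 1)) F) ∣
    (Nat.card F - 1) * (Nat.card F - 1) * Nat.card PSL(m + 1, F) := by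
  rw [← H26.card_units_mul_card_sl, Nat.card_units, mul_assoc,
    card_eq_card_quotient_mul_card_subgroup (center SL(m + 1, F)), mul_comm (Nat.card (_ ⧸ _)),
    Nat.card_congr (Matrix.SpecialLinearGroup.center_equiv_rootsOfUnity' (0 : Fin (m + 1))).toEquiv]
  refine mul_dvd_mul_left _ (mul_dvd_mul_right ?_ _)
  rw [← Nat.card_units]
  exact card_subgroup_dvd_card _

variable {F E : Type v} [Field F] [Field E] {i : F →+* E} {σ : E ≃+* E} {G : Type u} [Group G]
  {x : Φ n → E → G}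

/-- The subgroup fixed by a field involution in frame form. -/
theorem exists_pin (hn : 3 ≤ n) (q : QF i σ) {G0 : Subgroup G} (hM : Mod (R n) G0 x) {d : G}
    {χ : Φ n → E} (D : FI (R n) x d 1 σ χ) : ∃ y : Φ n → F → G, Pin (R n) y ∧
      UU y Set.univ ≤ G0 ⊓ C1[d] := by
  have h := lace hn
  have p := hM.pin
  obtain ⟨s, hs⟩ := exists_tr q.ne_one q.mul_self q.two
  obtain ⟨ψ, h1, h2⟩ : ∃ ψ : Fin (n + 1) → E, (∀ a, ∃ c, c ≠ 0 ∧ ψ a * σ c = c) ∧
      ∀ a b e, χ (rt a b e) * ψ b = ψ a := by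
    refine ⟨fun a => if e : a = 0 then 1 else χ (rt a 0 e), fun a => ?_, fun a b e => ?_⟩
    · dsimp only
      split_ifs with e
      exacts [⟨1, one_ne_zero, by simp⟩, exists_par h hM D hs rfl]
    · dsimp only
      split_ifs with e1 e2 e2
      · exact absurd (e2.trans e1.symm) e
      · subst e1
        exact mul_one _
      · subst e2
        exact neg_rt _ _ e ▸ chi_neg p h (au_diag D.diag).1 D.act _
      · exact (chi_add p (au_diag D.diag).1 D.act (rc_add a b 0 e e1 e2)).symm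
  choose c c0 hc using h1
  refine ⟨fun r a => x r (c r.1.1 / c r.1.2 * i a), ⟨q.twoF, fun r a b => ?_,
    fun r s e a b => p.com r s e _ _, fun r s k e a b => ?_, fun r a e => ?_⟩,
    UU_le fun r _ a => ⟨x_mem_L hM _ _, mem_C1.2 (commute_of_conj ?_)⟩⟩
  · rw [map_add, mul_add, p.add]
  · rw [p.rel r s k e, map_mul]
    obtain ⟨a1, a2, _, rfl⟩ := exists_rt r
    obtain ⟨b1, b2, _, rfl⟩ := exists_rt s
    obtain ⟨k1, k2, _, rfl⟩ := exists_rt k
    congr 1
    have := c0 a2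
    have := c0 b2
    rcases H45.An.rel_cases e with ⟨rfl, rfl, rfl⟩ | ⟨rfl, rfl, rfl⟩ <;> simp only [rt] <;> field_simp
  · simpa [c0] using p.inj _ _ e
  · obtain ⟨a1, a2, e, rfl⟩ := exists_rt r
    rw [D.act, map_mul, q.σ_i, map_div₀, ← mul_assoc]
    change x _ (_ * (σ (c a1) / σ (c a2)) * _) = x _ (c a1 / c a2 * _)
    congr 2
    have h3 : σ (c a2) ≠ 0 := by simpa using c0 a2
    rw [← mul_div_assoc, div_eq_div_iff h3 (c0 a2)]
    linear_combination σ (c a2) * hc a1 - χ (rt a1 a2 e) * σ (c a1) * hc a2 +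
      σ (c a1) * σ (c a2) * h2 a1 a2 e

variable {V : Type v} [AddCommGroup V] [Module E V] [Finite F] [Finite E] [Finite V]
  [FiniteDimensional E V] {B : V →ₛₗ[(σ : E →+* E)] V →ₗ[E] E} [Finite G] {φ : sisom B →* G}
  {L : Subgroup G} (c : UCtx i φ L)
include c

theorem card_dvd_GU {Y : Subgroup G} {g : G} (hg : H63.cj g Y ≤ L) :
    Nat.card Y ∣ ordGU (Nat.card F) (finrank E V) := by
  have := Fintype.ofFinite E
  rw [← c.herm.card_sisom (q := Nat.card F) (by rw [← Nat.card_eq_fintype_card, c.qf.card])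
    c.qf.σ_pow (by have := c.four; omega),
    ← card_map_of_injective (f := (MulAut.conj g).toMonoidHom) (MulAut.conj g).injective]
  refine (card_dvd_of_le hg).trans (Dvd.dvd.mul_left ?_ _)
  rw [← c.mod.rng]
  exact card_dvd_of_surjective _ φ.rangeRestrict_surjective

omit c in
/-- **U-GR** -/
theorem gr : GrStmt.{u, v} := by
  intro F E V _ _ _ _ _ _ _ _ i σ B G _ _ φ L c n k hn hk x p u γ' θ hu t ht
  have h4 := c.four
  have h3 : 3 ≤ n := by omega
  have h := lace h3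
  have hM := PinM.mod_UU h p
  have hq : 2 ≤ Nat.card F := Finite.one_lt_card
  change Alt L _ u _
  obtain ⟨rfl, rfl⟩ | ⟨hγ, rfl⟩ := ht
  · obtain ⟨l, hl, hd, χ, e⟩ := nf_field h hM hu t c.qf.ne_one
    obtain ⟨y, p', le⟩ := exists_pin h3 c.qf hM
      (⟨by simp [mul_assoc, ← mul_assoc u, hu], hd, e⟩ : FI (R n) x (l * u * l⁻¹) 1 θ χ)
    refine Alt.conj hl (Or.inl ⟨_, le, le_antisymm (commutator_le_self _) (UU_le fun k _ a => ?_),
      fun g hg => ?_⟩)
    · obtain ⟨s, r, hr⟩ := PinM.exists_sum h k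
      rw [← one_mul a, ← p'.rel ((R n).neg s) r k (by rw [hr, (R n).rc_neg]; simp)]
      exact commutator_mem_commutator (PinM.mem_UU_univ _ _) (PinM.mem_UU_univ _ _)
    · obtain ⟨N, h2⟩ := card_GL (n + 1) F
      refine not_dvd3 (N := N) (m := n + 1) hq (by omega) (h2 ▸ (GL_dvd n F).trans
        (mul_dvd_mul_left _ ?_))
      rw [← Nat.card_congr (H45.An.bar_A h3 p' rfl).some.toEquiv, ← hn]
      exact (card_quotient_dvd_card _).trans (card_dvd_GU c hg)
  obtain rfl := diag_A h3 t.choose_spec.2.1 hγ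
  rcases Nat.even_or_odd' n with ⟨l, hl | hl⟩
  swap
  · have := c.five; omega
  obtain ⟨g, hg, B, d, χ, D, -, hB, e⟩ := nf_red h hM hu t 0 fun B d χ D nB hB => by
    obtain _ | ⟨b, B⟩ := B
    · simp at hB
    obtain ⟨r, hr⟩ := mid_γ hl (nB.fix h hM (b := b) (by simp))
    obtain ⟨k, hk, e⟩ := red_one h hM D nB hr
    exact ⟨k, hk, B, nB.tail, by simp, e⟩
  obtain rfl := List.length_eq_zero_iff.1 (Nat.le_zero.1 hB)
  have h5 : ∃ c : E, c ≠ 0 ∧ c ^ 2 ≠ 1 := by
    by_contra! H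
    have h2 := Set.ncard_le_ncard (s := Set.univ) (t := ({0, 1} : Set E)) fun c _ =>
      (em (c = 0)).imp id fun h0 => sq_inj p.two (by simpa [sq] using H c h0)
    rw [Set.ncard_univ, Set.ncard_pair zero_ne_one, c.qf.card] at h2
    nlinarith
  refine Alt.conj hg (Or.inl ⟨UU x (pm (R n) (fx (l := l) (by omega))), le_inf (LF.UU_le_L hM _)
    (UU_le fun r hr a => mem_C1.2 (commute_of_conj ?_)), perfect_pm h p _ h5, fun g hg => ?_⟩)
  · have h1 : γ n r = r := by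
      obtain ⟨i, rfl | rfl⟩ := hr
      exacts [γ_fx _ i, by rw [(au_diag diag_γ).1.neg, γ_fx]]
    have h2 := D.conj_conj (x r 1)
    rw [D.act, D.act, h1, h1] at h2
    rw [e, show prodX x [] = 1 from rfl, one_mul, D.act, h1,
      show χ r = 1 from sq_inj p.two (by simpa using LF.x_inj p h2), one_mul]
    rfl
  · have h1 := (pow_dvd_pow_of_dvd (card_SL2 E) _).trans ((AnGr.card_dvd h p _ h5 (orth_fx _)
      (MonoidHom.id _) (by simp)).trans (card_dvd_GU c hg))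
    rw [c.qf.card, ← pow_mul, Fintype.card_fin, hn, hl] at h1
    exact not_dvd4 hq c.qf.even_card.two_dvd (by omega) h1

end Group

end Cfsg.Agent.H54V.H21.UmGr
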