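import Mathlib
import Cfsg.Agent.H54.VHatA

/-! The doubled transvection groups of a unitary group (project UM, piece H1), second part. -/

set_option autoImplicit false
set_option linter.unusedSectionVars false
set_option linter.style.haveILetI false

namespace Cfsg.Agent.H54V.H59.UHat

open Cfsg.Agent.H59

open Cfsg Cfsg.Agent.H63 Cfsg.Agent.H63.SL Cfsg.Agent.H34 Cfsg.Agent.H34.TW Cfsg.Agent.H34.UM
  Cfsg.Agent.H31 Subgroup Module
open Cfsg.Agent.H27.End (mem_C mem_C1 comm_of_C eq_one_of_is2 is2_of_sq)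
open Cfsg.Agent.H15.SLHat (conj_of_comm comm_conj eq_one_of_odd)
open scoped commutatorElement

universe u v

variable {F E V : Type v} [Field F] [Field E] [AddCommGroup V] [Module E V] [Finite F] [Finite E]
  [Finite V] [FiniteDimensional E V] {i : F →+* E} {σ : E ≃+* E}
  {B : V →ₛₗ[(σ : E →+* E)] V →ₗ[E] E} {G : Type u} [Group G] [Finite G] {φ : sisom B →* G}
  {L : Subgroup G} {t : G}

namespace St

variable (h : St i φ L t)
include h

section pt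

variable {v : V} (hv : Pt B v)
include hv

theorem D_t : D i φ L t v t 0 := D_K h.tc.tc (Commute.refl t) v

theorem sq_T {p : G} (hp : CY i φ L v p) (b : F) :
    p * TT i φ v b * (p * TT i φ v b) = p * p := by
  have := (h.cy_self hp hv.1 b).eq
  calc _ = p * (TT i φ v b * p) * TT i φ v b := by group
    _ = (p * p) * (TT i φ v b * TT i φ v b) := by rw [← this]; group
    _ = _ := by rw [h.c.TT_sq hv.1, mul_one]

theorem sq_t {p : G} {a b : F} (hp : D i φ L t v p a) (e : p * p = TT i φ v b) :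
    p * t * (p * t) = TT i φ v (a + b) := by
  calc _ = (p * t * p⁻¹) * (p * p) * t := by group
    _ = t * (TT i φ v a * TT i φ v b) * t⁻¹ := by rw [hp.2, e, h.t_inv]; group
    _ = _ := by rw [← h.c.TT_add hv.1, conj_of_comm (h.tx hv.1 _).symm]

theorem P_T {p : G} {a : F} (hp : P i φ L t v p a) (b : F) : P i φ L t v (p * TT i φ v b) a :=
  ⟨by simpa using h.D_mul hv.1 hp.1 (h.D_x hv.1 b), hp.2.imp fun _ e => (h.sq_T hv hp.1.1 b).trans e⟩

theorem P_t {p : G} {a : F} (hp : P i φ L t v p a) : P i φ L t v (p * t) a :=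
  ⟨by simpa using h.D_mul hv.1 hp.1 (h.D_t hv), hp.2.elim fun _ e => ⟨_, h.sq_t hv hp.1 e⟩⟩

theorem P_four {p : G} {a : F} (hp : P i φ L t v p a) : p ^ 2 ^ 2 = 1 := by
  obtain ⟨b, e⟩ := hp.2
  rw [show 2 ^ 2 = 2 * 2 from rfl, pow_mul, pow_two, pow_two, e, h.c.TT_sq hv.1]

theorem P_one : P i φ L t v 1 0 :=
  ⟨D_K (one_mem _) (Commute.one_left t) v, 0, by rw [mul_one, UCtx.TT_zero]⟩

theorem P_dec {p p' : G} {a : F} (hp : P i φ L t v p a) (hp' : P i φ L t v p' a) :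
    ∃ b, p' = p * TT i φ v b ∨ p' = p * TT i φ v b * t := by
  have h1 := h.D_mul hv.1 (h.D_inv hv.1 hp.1) hp'.1
  rw [h.addF] at h1
  obtain ⟨b, k, hk, hkt, e⟩ := h.D_ker hv h1
  rw [inv_mul_eq_iff_eq_mul] at e
  obtain ⟨k0, hk0, e'⟩ := h.K_dec hk hkt
  have key : ∀ w, P i φ L t v w a → p' = w * k0 → p' = w := fun w hw e => by
    have := h.P_four hv hp'
    rw [e, (h.P_odd hv hw hk0).mul_pow, h.P_four hv hw, one_mul] at this
    rw [e, eq_one_of_odd hk0.2.2 this, mul_one]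
  refine ⟨b, ?_⟩
  rcases e' with rfl | rfl
  · exact .inl (key _ (h.P_T hv hp b) (by rw [e]; group))
  · exact .inr (key _ (h.P_t hv (h.P_T hv hp b)) (by rw [e]; group))

theorem P_zero {p : G} (hp : P i φ L t v p 0) : ∃ b, p = TT i φ v b ∨ p = t * TT i φ v b := by
  obtain ⟨b, e⟩ := h.P_dec hv (h.P_one hv) hp
  rw [one_mul, (h.tx hv.1 b).eq] at e
  exact ⟨b, e⟩

theorem P_inv {p : G} {a : F} (hp : P i φ L t v p a) : ∃ b, p⁻¹ = p * TT i φ v b := by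
  obtain ⟨b, e⟩ := hp.2
  exact ⟨b, by rw [← h.T_inv hv.1, ← e]; group⟩

theorem Ht_zero {c : F} {p : G} (hp : Ht i φ L t c v p 0) : ∃ b, p = TT i φ v b := by
  obtain ⟨b, e | e⟩ := h.P_zero hv hp.p
  exacts [⟨b, e⟩, absurd e (hp.2.2 b)]

theorem Ht_x (c b : F) : Ht i φ L t c v (TT i φ v b) 0 :=
  ⟨h.D_x hv.1 b, by rw [h.c.TT_sq hv.1, mul_zero, UCtx.TT_zero],
    fun _ => h.L_ne (h.c.TT_mem hv.1 _) (h.c.TT_mem hv.1 _)⟩

theorem Ht_T {c : F} {p : G} {a : F} (hp : Ht i φ L t c v p a) (b : F) :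
    Ht i φ L t c v (p * TT i φ v b) a := by
  refine ⟨(h.P_T hv hp.p b).1, (h.sq_T hv hp.1.1 b).trans hp.2.1, fun d e => hp.2.2 (d + b) ?_⟩
  rw [h.c.TT_add hv.1, ← mul_assoc, ← e, mul_assoc, h.c.TT_sq hv.1, mul_one]

theorem Ht_ne {c : F} {p : G} {a : F} (hp : D i φ L t v p a) (e : p * p = TT i φ v (c * a))
    (ha : a ≠ 0) : Ht i φ L t c v p a := by
  refine ⟨hp, e, fun b e' => ha (h.D_uniq hv hp ?_)⟩
  simpa [e'] using h.D_mul hv.1 (h.D_t hv) (h.D_x hv.1 b)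

theorem Ht_uniq {c : F} {p p' : G} {a : F} (hp : Ht i φ L t c v p a) (hp' : Ht i φ L t c v p' a) :
    ∃ b, p' = p * TT i φ v b := by
  obtain ⟨b, e | e⟩ := h.P_dec hv hp.p hp'.p
  · exact ⟨b, e⟩
  have h1 := h.Ht_T hv hp b
  have h2 := h.sq_t hv h1.1 h1.2.1
  rw [← e, hp'.2.1] at h2
  obtain rfl : a = 0 := by simpa using h.T_inj hv h2
  obtain ⟨d, e'⟩ := h.Ht_zero hv h1
  exact absurd (by rw [e, e', (h.tx hv.1 d).eq]) (hp'.2.2 d)

theorem Ht_inv {c : F} {p : G} {a : F} (hp : Ht i φ L t c v p a) : Ht i φ L t c v p⁻¹ a := by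
  obtain ⟨b, e⟩ := h.P_inv hv hp.p
  exact e ▸ h.Ht_T hv hp b

theorem Ht_cent {c : F} {p : G} {a : F} (hp : Ht i φ L t c v p a) {g : G}
    (hg : Mv i φ L g v v 1) : Commute g p := by
  haveI : Fact (Nat.Prime 2) := ⟨Nat.prime_two⟩
  have hc : ∀ a, Commute g (TT i φ v a) := fun a => mul_inv_eq_iff_eq_mul.1 (by rw [hg.2.2, one_mul])
  have h1 := h.Ht_mv hg hp
  rw [one_mul] at h1
  obtain ⟨b, e⟩ := h.Ht_uniq hv hp h1
  have h2 : Commute (g ^ 2) p := by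
    refine mul_inv_eq_iff_eq_mul.1 ?_
    calc _ = g * (g * p * g⁻¹) * g⁻¹ := by rw [pow_two]; group
      _ = g * p * g⁻¹ * (g * TT i φ v b * g⁻¹) := by nth_rw 1 [e]; group
      _ = _ := by rw [e, conj_of_comm (hc b), mul_assoc, h.c.TT_sq hv.1, mul_one]
  obtain ⟨x, y, ⟨m, rfl⟩, ⟨n, rfl⟩, e1, hx, hy⟩ := H83.exists_p_parts (p := 2) g
  rw [e1]
  refine (hp.1.1 _ (zpow_mem hg.1 m) (fun a => (hc a).zpow_left m) hx).symm.mul_left
    (mem_C1.1 (H83.mem_of_pow_mem_of_coprime (n := 2) (mem_C1.2 ?_) hy))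
  have := h2.zpow_left n
  rwa [← zpow_natCast, ← zpow_mul, mul_comm, zpow_mul, zpow_natCast] at this

theorem exists_P (hs : StartZ L (ZV i φ v) t) : ∃ p, P i φ L t v p 1 := by
  obtain ⟨z, hz, z1, g, hg, e⟩ := hs
  obtain ⟨a, rfl⟩ := (h.c.mem_ZV hv.1).1 hz
  have a0 : a ≠ 0 := fun e => z1 (by rw [e, UCtx.TT_zero])
  have h1 : D i φ L t v g a := ⟨mem_CY.1 hg, e⟩
  obtain ⟨k, m, ⟨j, rfl⟩, hm⟩ := Nat.exists_eq_two_pow_mul_odd (orderOf_pos g).ne'
  have h2 : ∀ j : ℕ, D i φ L t v (g ^ (2 * j + 1)) a := fun j => by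
    induction j with
    | zero => simpa using h1
    | succ j ih =>
      have := h.D_mul hv.1 (h.D_mul hv.1 ih h1) h1
      rwa [h.addF, zero_add, ← pow_succ, ← pow_succ] at this
  have h3 := h2 j
  have h4 : (g ^ (2 * j + 1)) ^ 2 ^ k = 1 := by rw [← pow_mul, mul_comm, ← hm, pow_orderOf_eq_one]
  generalize g ^ (2 * j + 1) = p at h3 h4
  have h5 := h.D_mul hv.1 h3 h3
  rw [h.addF] at h5
  obtain ⟨b, c, hc, hct, e1⟩ := h.D_ker hv h5
  have h6 : Commute (TT i φ v b) c := hc _ (h.c.TT_mem hv.1 b)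
  have h7 : c ^ 2 ^ (k + 1) = 1 := by
    have : (p * p) ^ 2 ^ (k + 1) = 1 := by
      rw [← pow_two, ← pow_mul, mul_comm, pow_succ, mul_assoc, pow_mul, h4, one_pow]
    rwa [e1, h6.mul_pow, pow_succ', pow_mul, pow_two, h.c.TT_sq hv.1, one_pow, one_mul,
      ← pow_succ'] at this
  have h8 : P i φ L t v p a := by
    rcases h.r2 c hc hct ⟨_, h7⟩ with rfl | rfl
    · exact ⟨h3, b, by rw [e1, mul_one]⟩
    · have h9 : Commute p (TT i φ v b * c) := e1 ▸ (Commute.refl p).mul_right (Commute.refl p)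
      have h10 := (h.cy_self h3.1 hv.1 b).inv_right.mul_right h9
      rw [inv_mul_cancel_left] at h10
      have := h3.2
      rw [conj_of_comm h10, left_eq_mul] at this
      exact absurd (h.c.TT_eq_one hv this) a0
  obtain ⟨n, hn⟩ := h.exists_mv hv hv (inv_ne_zero a0)
  have := h.P_mv hn h8
  rw [inv_mul_cancel₀ a0] at this
  exact ⟨_, this⟩

end pt

/-- Commutators lie in the group of the span. -/
theorem comm_AS {x y : V} (hx : Pt B x) (hy : Pt B y) {S : Submodule E V} (hT : TotIso B S)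
    (mx : x ∈ S) (my : y ∈ S) {p p' : G} {a a' : F} (hp : P i φ L t x p a)
    (hp' : P i φ L t y p' a') : ⁅p, p'⁆ ∈ AS i φ S := by
  have d1 := h.ds_of hp.1 hT mx
  have d2 := h.ds_of hp'.1 hT my
  have c0 : ∀ b, Commute p' (TT i φ x b) := fun b => comm_of_C d2.2.1 (TT_mem_AS mx b)
  have d3 := DS_mul (DS_mul (DS_mul d1 d2) (h.DS_inv hT d1)) (h.DS_inv hT d2)
  rw [← commutatorElement_def, mul_assoc (_ * _), ← pow_two,
    (h.c.TT_comm hx.1 hy.1 (hT x mx y my) a a').mul_pow, pow_two, pow_two, h.c.TT_sq hx.1,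
    h.c.TT_sq hy.1, mul_one] at d3
  obtain ⟨α, hα, k, hk, hkt, e⟩ := h.DS_ker hT (fun e => hx.2 (by simpa [e] using mx)) d3
  obtain ⟨k0, hk0, e'⟩ := h.K_dec hk hkt
  have c1 : Commute p α := comm_of_C d1.2.1 hα
  have c2 := h.P_odd hx hp hk0
  have c3 : Commute α k0 := hk0.1 _ (h.AS_le hT hα)
  have e1 : p * ⁅p, p'⁆ * p⁻¹ * ⁅p, p'⁆ = 1 := by
    obtain ⟨b, hb⟩ := hp.2
    calc _ = (p * p) * p' * (p * p)⁻¹ * p'⁻¹ := by rw [commutatorElement_def]; group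
      _ = 1 := by rw [hb, conj_of_comm (c0 b).symm, mul_inv_cancel]
  rcases e' with rfl | rfl
  · rw [e, conj_of_comm (c1.mul_right c2), ← pow_two, c3.mul_pow, pow_two, h.AS_sq hT hα,
      one_mul] at e1
    rw [e, eq_one_of_odd hk0.2.2 (n := 1) (by simpa using e1), mul_one]
    exact hα
  · exfalso
    have c4 : Commute α t := h.tL (h.AS_le hT hα)
    have c5 : Commute (TT i φ x a) k0 := hk0.1 _ (h.c.TT_mem hx.1 a)
    have c6 : Commute (TT i φ x a) (α * (t * k0)) :=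
      (comm_of_C (h.cy_AS (cy_x x a) hT mx) hα).mul_right ((h.tx hx.1 a).mul_right c5)
    have e2 : p * (α * (t * k0)) * p⁻¹ = α * (t * k0) * TT i φ x a := by
      calc _ = (p * α * p⁻¹) * (p * t * p⁻¹) * (p * k0 * p⁻¹) := by group
        _ = α * (t * (TT i φ x a * k0)) := by
          rw [conj_of_comm c1, conj_of_comm c2, hp.1.2]; group
        _ = _ := by rw [c5.eq]; group
    rw [e, e2, ← c6.eq, mul_assoc, ← pow_two, (c4.mul_right c3).mul_pow, hk0.2.1.symm.mul_pow,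
      pow_two α, pow_two t, h.AS_sq hT hα, h.tt, one_mul, one_mul, mul_eq_one_iff_inv_eq,
      h.T_inv hx.1] at e1
    have h8 : k0 = 1 := eq_one_of_odd hk0.2.2 (n := 2) (by
      rw [show 2 ^ 2 = 2 * 2 from rfl, pow_mul, ← e1, pow_two, h.c.TT_sq hx.1])
    rw [h8, one_pow] at e1
    obtain rfl := h.c.TT_eq_one hx e1
    rw [h8, mul_one, c4.eq] at e
    refine h.L_ne ?_ (h.AS_le hT hα) e
    obtain ⟨b, rfl | rfl⟩ := h.P_zero hx hp
    · rw [commutatorElement_eq_one_iff_commute.2 (c0 b).symm]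
      exact one_mem _
    · have : ⁅t * TT i φ x b, p'⁆ = TT i φ y a' := by
        calc _ = t * (TT i φ x b * p' * (TT i φ x b)⁻¹) * t⁻¹ * p'⁻¹ := by
              rw [commutatorElement_def]; group
          _ = t * (p' * t * p'⁻¹) := by rw [conj_of_comm (c0 b).symm, h.t_inv]; group
          _ = _ := by rw [hp'.1.2, ← mul_assoc, h.tt, one_mul]
      exact this ▸ h.c.TT_mem hy.1 _

section pt

variable {v : V} (hv : Pt B v)
include hv

theorem P_comm {p p' : G} {a a' : F} (hp : P i φ L t v p a) (hp' : P i φ L t v p' a') :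
    ∃ b, ⁅p, p'⁆ = TT i φ v b := by
  have := h.comm_AS hv hv (S := E ∙ v) (by simpa using h.totIso_pair hv.1 hv.1 hv.1)
    (Submodule.mem_span_singleton_self v) (Submodule.mem_span_singleton_self v) hp hp'
  rwa [h.c.AS_span, h.c.mem_ZV hv.1] at this

theorem P_mul {p p' : G} {a a' : F} (hp : P i φ L t v p a) (hp' : P i φ L t v p' a') :
    P i φ L t v (p * p') (a + a') := by
  obtain ⟨b, e⟩ := h.P_comm hv hp hp'
  obtain ⟨b1, e1⟩ := hp.2
  obtain ⟨b2, e2⟩ := hp'.2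
  refine ⟨h.D_mul hv.1 hp.1 hp'.1, b + b1 + b2, ?_⟩
  calc _ = ⁅p, p'⁆ * (p' * (p * p) * p'⁻¹) * (p' * p') := by rw [commutatorElement_def]; group
    _ = _ := by
      rw [e, e1, e2, conj_of_comm (h.cy_self hp'.1.1 hv.1 _), h.c.TT_add hv.1, h.c.TT_add hv.1]

theorem P_inv' {p : G} {a : F} (hp : P i φ L t v p a) : P i φ L t v p⁻¹ a := by
  obtain ⟨b, e⟩ := h.P_inv hv hp
  exact e ▸ h.P_T hv hp b

/-- The case of a field with more than two elements. -/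
theorem mul_big {n : F} (n0 : n ≠ 0) (n1 : n ≠ 1) (hn : ∀ a, a ≠ 0 → ∃ k : ℕ, a = n ^ k) {p0 : G}
    (hp0 : P i φ L t v p0 1) : ∃ c, (∃ p, Ht i φ L t c v p 1) ∧ ∀ p p' a a', Ht i φ L t c v p a →
      Ht i φ L t c v p' a' → Ht i φ L t c v (p * p') (a + a') := by
  obtain ⟨g, hg⟩ := h.exists_mv hv hv n0
  have gt := h.tL hg.1
  let X : G → F → Prop := fun q a => ∃ p a0 b, P i φ L t v p a0 ∧ a = a0 + n * a0 ∧
    q = p⁻¹ * (g * p * g⁻¹) * TT i φ v b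
  have x0 : ∀ {p a0}, P i φ L t v p a0 → P i φ L t v (p⁻¹ * (g * p * g⁻¹)) (a0 + n * a0) :=
    fun hp => h.P_mul hv (h.P_inv' hv hp) (h.P_mv hg hp)
  have x1 : ∀ {q a}, X q a → P i φ L t v q a := by
    rintro _ _ ⟨p, a0, b, hp, rfl, rfl⟩
    exact h.P_T hv (x0 hp) b
  have x2 : ∀ {q a} (b : F), X q a → X (q * TT i φ v b) a := by
    rintro _ _ b' ⟨p, a0, b, hp, rfl, rfl⟩
    exact ⟨p, a0, b + b', hp, rfl, by rw [h.c.TT_add hv.1, mul_assoc]⟩
  have x3 : ∀ {q a q' a'}, X q a → X q' a' → X (q * q') (a + a') := by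
    rintro _ _ _ _ ⟨p, a0, b, hp, rfl, rfl⟩ ⟨p', a0', b', hp', rfl, rfl⟩
    obtain ⟨d, hd⟩ := h.P_comm hv (h.P_inv' hv (x0 hp)) (h.P_inv' hv hp')
    refine ⟨p * p', a0 + a0', d + b + b', h.P_mul hv hp hp', by ring, ?_⟩
    have c := fun b => (h.cy_self (x0 hp').1.1 hv.1 b).eq
    have e : (p * p')⁻¹ * (g * (p * p') * g⁻¹) = p⁻¹ * (g * p * g⁻¹) *
        ⁅(p⁻¹ * (g * p * g⁻¹))⁻¹, p'⁻¹⁆ * (p'⁻¹ * (g * p' * g⁻¹)) := by
      rw [commutatorElement_def]; group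
    rw [e, hd, h.c.TT_add hv.1, h.c.TT_add hv.1]
    generalize p⁻¹ * (g * p * g⁻¹) = y at *
    generalize p'⁻¹ * (g * p' * g⁻¹) = y' at *
    calc _ = y * (TT i φ v d * TT i φ v d) * (TT i φ v b * y') * TT i φ v b' := by
          rw [h.c.TT_sq hv.1]; group
      _ = y * TT i φ v d * (TT i φ v d * y') * TT i φ v b * TT i φ v b' := by rw [← c]; group
      _ = _ := by rw [← c]; group
  have x4 : ∀ {q a}, X q a → X (g * q * g⁻¹) (n * a) := by
    rintro _ _ ⟨p, a0, b, hp, rfl, rfl⟩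
    exact ⟨g * p * g⁻¹, n * a0, n * b, h.P_mv hg hp, by ring, by rw [← hg.2.2]; group⟩
  have n2 : 1 + n ≠ 0 := fun e => n1 (by linear_combination e - h.addF 1)
  have x5 : ∀ {q}, X q 0 → ∃ b, q = TT i φ v b := by
    rintro _ ⟨p, a0, b, hp, e, rfl⟩
    obtain rfl : a0 = 0 := (mul_eq_zero.1 (by linear_combination -e : (1 + n) * a0 = 0)).resolve_left n2
    obtain ⟨d, rfl | rfl⟩ := h.P_zero hv hp
    · exact ⟨d + n * d + b, by rw [hg.2.2, h.T_inv hv.1, h.c.TT_add hv.1, h.c.TT_add hv.1]⟩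
    · refine ⟨d + n * d + b, ?_⟩
      calc _ = (TT i φ v d)⁻¹ * ((t⁻¹ * g * t⁻¹⁻¹) * TT i φ v d * g⁻¹) * TT i φ v b := by group
        _ = _ := by
          rw [conj_of_comm gt.symm.inv_left, hg.2.2, h.T_inv hv.1, h.c.TT_add hv.1, h.c.TT_add hv.1]
  have x6 : ∃ q, X q 1 := by
    obtain ⟨m, hm⟩ := h.exists_mv hv hv (inv_ne_zero n2)
    exact ⟨_, _, _, 0, h.P_mv hm hp0, by field_simp, rfl⟩
  obtain ⟨q, hq⟩ := x6
  obtain ⟨c, hc⟩ := (x1 hq).2
  have hq' : Ht i φ L t c v q 1 := h.Ht_ne hv (x1 hq).1 (by rwa [mul_one]) one_ne_zero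
  have x7 : ∀ a, ∃ r, X r a ∧ Ht i φ L t c v r a := fun a => by
    by_cases ha : a = 0
    · subst ha
      refine ⟨TT i φ v 0, ⟨1, 0, 0, h.P_one hv, by ring, by group⟩, h.Ht_x hv c 0⟩
    obtain ⟨k, rfl⟩ := hn a ha
    clear ha
    induction k with
    | zero => exact ⟨q, by simpa using hq, by simpa using hq'⟩
    | succ k ih =>
      obtain ⟨r, h1, h2⟩ := ih
      exact ⟨_, pow_succ' n k ▸ x4 h1, pow_succ' n k ▸ h.Ht_mv hg h2⟩
  refine ⟨c, ⟨q, hq'⟩, fun p p' a a' hp hp' => ?_⟩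
  obtain ⟨r, h1, h2⟩ := x7 a
  obtain ⟨r', h1', h2'⟩ := x7 a'
  obtain ⟨s, h3, h4⟩ := x7 (a + a')
  obtain ⟨b, rfl⟩ := h.Ht_uniq hv h2 hp
  obtain ⟨b', rfl⟩ := h.Ht_uniq hv h2' hp'
  obtain ⟨d, e⟩ := h.P_inv hv h4.p
  have h5 := x3 (x2 d h3) (x3 (x2 b h1) (x2 b' h1'))
  rw [h.addF, ← e] at h5
  obtain ⟨d', e'⟩ := x5 h5
  rw [inv_mul_eq_iff_eq_mul] at e'
  exact e' ▸ h.Ht_T hv h4 d'

/-- The case of the field with two elements. -/
theorem mul_two (h2 : ∀ a : F, a = 0 ∨ a = 1) {c : F} {p p' : G} {a a' : F}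
    (hp : Ht i φ L t c v p a) (hp' : Ht i φ L t c v p' a') : Ht i φ L t c v (p * p') (a + a') := by
  rcases h2 a' with rfl | rfl
  · obtain ⟨b, rfl⟩ := h.Ht_zero hv hp'
    simpa using h.Ht_T hv hp b
  rcases h2 a with rfl | rfl
  · obtain ⟨b, rfl⟩ := h.Ht_zero hv hp
    simpa [(h.cy_self hp'.1.1 hv.1 b).eq] using h.Ht_T hv hp' b
  obtain ⟨b, rfl⟩ := h.Ht_uniq hv hp hp'
  rw [← mul_assoc, hp.2.1, ← h.c.TT_add hv.1, h.addF]
  exact h.Ht_x hv c _

end pt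

end St

end Cfsg.Agent.H54V.H59.UHat
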