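import Cfsg.Agent.H54.VKit0
import Cfsg.Agent.H9.BaerSuzuki

/-!
# UM, piece KL: the doubled transvection groups act on the doubled Heisenberg group
-/

set_option autoImplicit false
set_option linter.unusedSectionVars false

namespace Cfsg.Agent.H54V.H1.UmKL

open Cfsg.Agent.H1

open Cfsg Cfsg.Agent.H63 Cfsg.Agent.H63.SL Cfsg.Agent.H34 Cfsg.Agent.H34.TW Cfsg.Agent.H34.UM
  Cfsg.Agent.H31 Subgroup Module
open scoped commutatorElement

universe u v

variable {F E V : Type v} [Field F] [Field E] [AddCommGroup V] [Module E V] {i : F →+* E}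
  {σ : E ≃+* E} {B : V →ₛₗ[(σ : E →+* E)] V →ₗ[E] E} {G : Type u} [Group G] {φ : sisom B →* G}
  {L : Subgroup G} {t : G} {A : Type v} [CommRing A] {j : F →+* A} {s : A ≃+* A} {y : V → A → G}

variable (i φ L t j s y) in
/-- All hypotheses. -/
structure Cx : Prop where
  c : UCtx i φ L
  ka : KitA i φ L
  kb : KitB i φ L
  tc : Tc L t
  r2 : R2 L t
  p : UPar i φ L t j s y
  l : ULine i B j y
  q : UQ i B j y

variable (B) in
/-- Isotropic vectors orthogonal to `v`. -/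
def Pv (v z : V) : Prop := B z z = 0 ∧ B v z = 0

open Classical in
/-- The element of `F` with a given image. -/
noncomputable def dn (i : F →+* E) (e : E) : F := if h : ∃ b, i b = e then h.choose else 0

theorem dn_eq {e : E} {b : F} (h : i b = e) : dn i e = b := by
  have h' : ∃ b, i b = e := ⟨b, h⟩
  rw [dn, dif_pos h']
  exact i.injective (h'.choose_spec.trans h.symm)

theorem Pv.smul {v z : V} (h : Pv B v z) (d : E) : Pv B v (d • z) :=
  ⟨by rw [sm_left, sm_right, h.1, mul_zero, mul_zero], by rw [sm_right, h.2, mul_zero]⟩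

namespace Cx

variable (h : Cx i φ L t j s y)
include h

theorem i_dn {e : E} (he : σ e = e) : i (dn i e) = e := by
  obtain ⟨b, rfl⟩ := (h.c.qf.fix e).1 he
  rw [dn_eq rfl]

theorem i_nm (e : E) : i (dn i (e * σ e)) = e * σ e :=
  h.i_dn (by rw [map_mul, h.c.qf.sq, mul_comm])

theorem i_tr (e : E) : i (dn i (e + σ e)) = e + σ e :=
  h.i_dn (by rw [map_add, h.c.qf.sq, add_comm])

theorem σ_i (a : F) : σ (i a) = i a := (h.c.qf.fix _).2 ⟨a, rfl⟩

theorem s_j (a : F) : s (j a) = j a := (h.p.fix _).2 ⟨a, rfl⟩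

theorem aa (a : A) : a + a = 0 := by rw [← two_mul, h.p.two, zero_mul]

theorem s_eq (a : A) : ∃ b, s a = a + j b := by
  obtain ⟨b, hb⟩ := (h.p.fix (a + s a)).1 (by rw [map_add, h.p.sq, add_comm])
  exact ⟨b, by rw [← hb, ← add_assoc, h.aa, zero_add]⟩

theorem y0 {z : V} (hz : B z z = 0) : y z 0 = 1 := by
  have e := h.p.add z hz 0 0
  rw [add_zero] at e
  exact mul_left_cancel (e.symm.trans (mul_one _).symm)

theorem ysq {z : V} (hz : B z z = 0) (a : A) : y z a * y z a = 1 := by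
  rw [← h.p.add z hz, h.aa, h.y0 hz]

theorem yinv {z : V} (hz : B z z = 0) (a : A) : (y z a)⁻¹ = y z a :=
  inv_eq_of_mul_eq_one_right (h.ysq hz a)

theorem pv_self {v : V} (hv : B v v = 0) : Pv B v v := ⟨hv, hv⟩

theorem iso_add {v z : V} (hv : B v v = 0) (hz : Pv B v z) : B (z + v) (z + v) = 0 :=
  h.c.iso_add hz.1 hv (h.c.flip hz.2)

/-- `y x` commutes with `BB y z v` if `x ⊥ z, v`. -/
theorem cyb {v z x : V} (hv : B v v = 0) (hz : Pv B v z) (hx : Pv B v x) (e : B x z = 0)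
    (a a' : A) : Commute (y x a) (BB y z v a') :=
  ((h.p.com x _ hx.1 (h.iso_add hv hz) (by rw [map_add, e, h.c.flip hx.2, add_zero]) a a').mul_right
    (h.p.com x z hx.1 hz.1 e a a')).mul_right (h.p.com x v hx.1 hv (h.c.flip hx.2) a a')

theorem cvb {v z : V} (hv : B v v = 0) (hz : Pv B v z) (a a' : A) :
    Commute (y v a) (BB y z v a') := h.cyb hv hz ⟨hv, hv⟩ hz.2 a a'

theorem cxv {v x : V} (hv : B v v = 0) (hx : Pv B v x) (a a' : A) : Commute (y x a) (y v a') :=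
  h.p.com x v hx.1 hv (h.c.flip hx.2) a a'

theorem bsymm {v z : V} (hv : B v v = 0) (hz : Pv B v z) (a : A) : BB y z v a = BB y v z a := by
  rw [BB, BB, add_comm, mul_assoc, mul_assoc, (h.cxv hv hz a a).eq]

theorem badd {v z : V} (hv : B v v = 0) (hz : Pv B v z) (a a' : A) :
    BB y z v (a + a') = BB y z v a * BB y z v a' := by
  have hzv := h.iso_add hv hz
  have c1 : Commute (y z a) (y (z + v) a') :=
    h.p.com z _ hz.1 hzv (by rw [map_add, hz.1, h.c.flip hz.2, add_zero]) a a'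
  have c2 : Commute (y v a) (y (z + v) a') :=
    h.p.com v _ hv hzv (by rw [map_add, hz.2, hv, add_zero]) a a'
  have c3 : Commute (y v a) (y z a') := (h.cxv hv hz a' a).symm
  rw [BB, BB, BB, h.p.add _ hzv, h.p.add _ hz.1, h.p.add _ hv]
  simp only [mul_assoc]
  rw [c2.left_comm, c1.left_comm, c3.left_comm]

theorem b0 {v z : V} (hv : B v v = 0) (hz : Pv B v z) : BB y z v 0 = 1 := by
  rw [BB, h.y0 (h.iso_add hv hz), h.y0 hz.1, h.y0 hv, mul_one, mul_one]

theorem bsq {v z : V} (hv : B v v = 0) (hz : Pv B v z) (a : A) : BB y z v a * BB y z v a = 1 := by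
  rw [← h.badd hv hz, h.aa, h.b0 hv hz]

theorem bz {v : V} (hv : B v v = 0) (a : A) : BB y 0 v a = 1 := by
  rw [BB, zero_add, h.p.zero, mul_one, h.ysq hv]

theorem baddz {v z z' : V} (hv : B v v = 0) (hz : Pv B v z) (hz' : Pv B v z') (e : B z z' = 0)
    (a : A) : BB y (z + z') v a = BB y z v a * BB y z' v a := by
  rw [h.bsymm hv hz, h.bsymm hv hz', h.bsymm hv ⟨h.c.iso_add hz.1 hz'.1 e,
    by rw [map_add, hz.2, hz'.2, add_zero]⟩]
  exact h.l.badd v z z' hv hz.1 hz'.1 hz.2 hz'.2 e a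

/-- The commutator relation. -/
theorem bb {v u w : V} (hv : B v v = 0) (hu : Pv B v u) (hw : Pv B v w) (a a' : A) :
    BB y u v a * BB y w v a' =
      y v (j (dn i (B u w + σ (B u w))) * a * a') * (BB y w v a' * BB y u v a) := by
  rw [← h.q.qcom v u w hv hu.1 hw.1 hu.2 hw.2 _ (h.i_tr _) a a', commutatorElement_def]
  group

theorem cbb {v u w : V} (hv : B v v = 0) (hu : Pv B v u) (hw : Pv B v w)
    (e : B u w + σ (B u w) = 0) (a a' : A) : Commute (BB y u v a) (BB y w v a') := by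
  have := h.bb hv hu hw a a'
  rw [e, dn_eq (map_zero i), map_zero, zero_mul, zero_mul, h.y0 hv, one_mul] at this
  exact this

theorem tb {v z : V} (hv : B v v = 0) (hz : Pv B v z) (a : A) :
    t * BB y z v a * t⁻¹ = BB y z v (s a) := by
  rw [BB, BB, ← h.p.conj _ (h.iso_add hv hz), ← h.p.conj _ hz.1, ← h.p.conj _ hv]
  group

theorem φb (g : sisom B) {v z : V} (hv : B v v = 0) (hz : Pv B v z) (a : A) :
    φ g * BB y z v a * (φ g)⁻¹ = BB y (g.1 z) (g.1 v) a := by
  rw [BB, BB, ← map_add, ← h.p.eqv g _ (h.iso_add hv hz), ← h.p.eqv g _ hz.1, ← h.p.eqv g _ hv]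
  group

end Cx

variable (y) in
/-- The left side. -/
def Lh (v x w : V) (a a' : A) : G := y x a * BB y w v a' * (y x a)⁻¹

variable (i B j y) in
/-- The right side. -/
noncomputable def Rh (v x w : V) (a a' : A) : G :=
  BB y w v a' * BB y (B x w • x) v (a * a') * y v (j (dn i (B x w * σ (B x w))) * a * a' ^ 2)

variable (i B j y) in
/-- The defect. -/
noncomputable def Df (v x w : V) (a a' : A) : G := (Rh i B j y v x w a a')⁻¹ * Lh y v x w a a'

namespace Cx

variable [FiniteDimensional E V] [Finite E] (h : Cx i φ L t j s y) {v x w : V}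
include h

/-- The case `a' ∈ F`. -/
theorem step1 (hv : B v v = 0) (hx : Pv B v x) (hw : Pv B v w) (a : A) (d : F) :
    Lh y v x w a (j d) = Rh i B j y v x w a (j d) := by
  have hwv := h.iso_add hv hw
  obtain ⟨s1, e1, f1⟩ := h.c.tt hwv d
  obtain ⟨s2, e2, f2⟩ := h.c.tt hw.1 d
  obtain ⟨s3, e3, f3⟩ := h.c.tt hv d
  have hb : BB y w v (j d) = φ (s1 * s2 * s3) := by
    rw [BB, h.p.res _ hwv, h.p.res _ hw.1, h.p.res _ hv, map_mul, map_mul, f1, f2, f3]
  have hs : (s1 * s2 * s3).1 x = x + (i d * B w x) • v := by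
    rw [mul_app, mul_app, e3, hx.2, mul_zero, zero_smul, add_zero, e2, e1]
    simp only [map_add, LinearMap.add_apply, map_smul, smul_eq_mul, hw.1, hx.2, hw.2, mul_zero,
      add_zero, smul_add]
    rw [add_assoc, ← add_assoc (_ • w), h.c.add_self, zero_add]
  have hi : (BB y w v (j d))⁻¹ = BB y w v (j d) := inv_eq_of_mul_eq_one_right (h.bsq hv hw _)
  have hd : Pv B v ((i d * B w x) • v) := (h.pv_self hv).smul _
  have e4 : BB y w v (j d) * y x a * (BB y w v (j d))⁻¹ = y (x + (i d * B w x) • v) a := by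
    rw [hb, h.p.eqv _ _ hx.1, hs]
  have e5 : BB y x ((i d * B w x) • v) a = BB y (B x w • x) v (a * j d) := by
    have e6 := h.l.bmov x v hx.1 hv (h.c.flip hx.2) (i d * B x w) a
    rw [map_mul, h.σ_i, h.c.symm] at e6
    rw [← e6, h.bsymm hv (hx.smul _), h.bsymm hv (hx.smul _), mul_smul,
      h.l.bsc v _ hv (hx.smul _).1 (hx.smul _).2, mul_comm]
  have e7 : y ((i d * B w x) • v) a = y v (j (dn i (B x w * σ (B x w))) * a * j d ^ 2) := by
    rw [h.p.smul v hv _ (dn i (B x w * σ (B x w)) * d ^ 2)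
      (by rw [map_mul, h.i_nm, map_mul, h.σ_i, h.c.symm, h.c.symm, map_pow]; ring), map_mul, map_pow]
    congr 1
    ring
  rw [Lh, Rh, ← e5, ← e7, BB.eq_def y x, ← e4, hi, h.yinv hx.1]
  simp only [mul_assoc]
  rw [h.ysq hd.1, mul_one, ← mul_assoc (BB y w v (j d)) (BB y w v (j d)), h.bsq hv hw, one_mul]

theorem c_wx (hv : B v v = 0) (hx : Pv B v x) (hw : Pv B v w) (a a' : A) :
    Commute (BB y (B x w • x) v a) (BB y w v a') :=
  h.cbb hv (hx.smul _) hw (by
    rw [sm_left, map_mul, h.c.qf.sq, mul_comm]; exact h.c.qf.add_self _) a a'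

theorem c_xx (hv : B v v = 0) (hx : Pv B v x) (d d' : E) (a a' : A) :
    Commute (BB y (d • x) v a) (BB y (d' • x) v a') :=
  h.cbb hv (hx.smul _) (hx.smul _) (by
    rw [sm_left, sm_right, hx.1, mul_zero, mul_zero, map_zero, add_zero]) a a'

theorem c_ww (hv : B v v = 0) (hw : Pv B v w) (a a' : A) :
    Commute (BB y w v a) (BB y w v a') :=
  h.cbb hv hw hw (by rw [hw.1, map_zero, add_zero]) a a'

theorem c_yx (hv : B v v = 0) (hx : Pv B v x) (d : E) (a a' : A) :
    Commute (y x a) (BB y (d • x) v a') :=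
  h.cyb hv (hx.smul _) hx (by rw [sm_right, hx.1, mul_zero]) a a'

theorem c_vL (hv : B v v = 0) (hx : Pv B v x) (hw : Pv B v w) (e a a' : A) :
    Commute (y v e) (Lh y v x w a a') :=
  ((h.cxv hv hx a e).symm.mul_right (h.cvb hv hw e a')).mul_right (h.cxv hv hx a e).symm.inv_right

theorem c_vR (hv : B v v = 0) (hx : Pv B v x) (hw : Pv B v w) (e a a' : A) :
    Commute (y v e) (Rh i B j y v x w a a') :=
  ((h.cvb hv hw e a').mul_right (h.cvb hv (hx.smul _) e _)).mul_right (h.cxv hv ⟨hv, hv⟩ e _)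

theorem c_vD (hv : B v v = 0) (hx : Pv B v x) (hw : Pv B v w) (e a a' : A) :
    Commute (y v e) (Df i B j y v x w a a') :=
  (h.c_vR hv hx hw e a a').inv_right.mul_right (h.c_vL hv hx hw e a a')

theorem L_add (hv : B v v = 0) (hw : Pv B v w) (a a' a'' : A) :
    Lh y v x w a (a' + a'') = Lh y v x w a a' * Lh y v x w a a'' := by
  rw [Lh, Lh, Lh, h.badd hv hw]
  group

theorem R_add (hv : B v v = 0) (hx : Pv B v x) (hw : Pv B v w) (a a' a'' : A) :
    Rh i B j y v x w a (a' + a'') = Rh i B j y v x w a a' * Rh i B j y v x w a a'' := by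
  have e : ∀ n : A, n * a * (a' + a'') ^ 2 = n * a * a' ^ 2 + n * a * a'' ^ 2 := fun n => by
    linear_combination (n * a * a' * a'') * h.p.two
  rw [Rh, Rh, Rh, h.badd hv hw, mul_add, h.badd hv (hx.smul _), e, h.p.add v hv]
  simp only [mul_assoc]
  rw [(h.cvb hv hw _ a'').left_comm, (h.cvb hv (hx.smul _) _ (a * a'')).left_comm,
    (h.c_wx hv hx hw (a * a') a'').left_comm]

theorem L_sq (hv : B v v = 0) (hw : Pv B v w) (a a' : A) :
    Lh y v x w a a' * Lh y v x w a a' = 1 := by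
  rw [← h.L_add hv hw, h.aa, Lh, h.b0 hv hw, mul_one, mul_inv_cancel]

theorem R_sq (hv : B v v = 0) (hx : Pv B v x) (hw : Pv B v w) (a a' : A) :
    Rh i B j y v x w a a' * Rh i B j y v x w a a' = 1 := by
  rw [← h.R_add hv hx hw, h.aa, Rh, mul_zero, h.b0 hv hw, h.b0 hv (hx.smul _),
    zero_pow two_ne_zero, mul_zero, h.y0 hv, mul_one, mul_one]

/-- The defect centralizes the generators of the Heisenberg group. -/
theorem c_Db (hv : B v v = 0) (hx : Pv B v x) (hw : Pv B v w) (a a' : A) {z : V}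
    (hz : Pv B v z) : Commute (Df i B j y v x w a a') (BB y z v 1) := by
  have e1 := h.step1 hv hx hz a 1
  rw [map_one, Lh, Rh, mul_one] at e1
  have k1 := h.bb hv hw hz a' 1
  have k2 := h.bb hv hw (hx.smul (B x z)) a' a
  have k3 := h.bb hv (hx.smul (B x w)) hz (a * a') 1
  have en : B (B x w • x) z = B w (B x z • x) := by
    rw [sm_left, sm_right, h.c.symm, mul_comm]
  rw [en, mul_one, mul_comm a a', ← mul_assoc (j _)] at k3
  set α := y v (j (dn i (B w z + σ (B w z))) * a' * 1) with hα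
  set β := y v (j (dn i (B w (B x z • x) + σ (B w (B x z • x)))) * a' * a) with hβ
  set γ := y v (j (dn i (B x z * σ (B x z))) * a * 1 ^ 2) with hγ
  have hg := h.ysq hx.1 a
  have hgi := h.yinv hx.1 a
  set g := y x a with hg0
  set b := BB y w v a' with hb
  set r := BB y z v 1 with hr
  set b2 := BB y (B x z • x) v a with hb2
  have cαg : Commute α g := (h.cxv hv hx _ _).symm
  have cβg : Commute β g := (h.cxv hv hx _ _).symm
  have cβr : Commute β r := h.cvb hv hz _ _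
  have cγb : Commute γ b := h.cvb hv hw _ _
  rw [hgi] at e1
  have eL : Lh y v x w a a' * r = α * β * r * Lh y v x w a a' := by
    rw [Lh, ← hg0, ← hb, hgi]
    have e2 : b * (g * r * g) = α * β * (g * r * g) * b := by
      rw [e1]
      calc b * (r * b2 * γ) = b * r * b2 * γ := by group
        _ = α * (r * (b * b2)) * γ := by rw [k1]; group
        _ = α * (r * β * b2 * (b * γ)) := by rw [k2]; group
        _ = α * β * (r * b2 * γ) * b := by rw [← cβr.eq, ← cγb.eq]; group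
    calc g * b * g * r = g * (b * (g * r * g)) * g := by
          simp only [mul_assoc]; rw [hg, mul_one]
      _ = g * (α * β) * (g * r * g) * b * g := by rw [e2]; group
      _ = α * β * (g * g) * r * (g * b * g) := by rw [← (cαg.mul_left cβg).eq]; group
      _ = α * β * r * (g * b * g) := by rw [hg, mul_one]
  have eR : Rh i B j y v x w a a' * r = α * β * r * Rh i B j y v x w a a' := by
    rw [Rh, ← hb, mul_comm a a']
    set b3 := BB y (B x w • x) v (a' * a)
    set δ := y v (j (dn i (B x w * σ (B x w))) * a * a' ^ 2)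
    have cδr : Commute δ r := h.cvb hv hz _ _
    have cβb : Commute β b := h.cvb hv hw _ _
    have cαβ : Commute α β := h.cxv hv ⟨hv, hv⟩ _ _
    calc b * b3 * δ * r = b * (b3 * r) * δ := by rw [mul_assoc _ δ, cδr.eq]; group
      _ = b * β * r * b3 * δ := by rw [k3]; group
      _ = β * (b * r) * b3 * δ := by rw [← cβb.eq]; group
      _ = β * α * r * (b * b3 * δ) := by rw [k1]; group
      _ = α * β * r * (b * b3 * δ) := by rw [cαβ.eq]
  have eR' : (Rh i B j y v x w a a')⁻¹ * (α * β * r) = r * (Rh i B j y v x w a a')⁻¹ := by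
    rw [inv_mul_eq_iff_eq_mul, ← mul_assoc, eR, mul_inv_cancel_right]
  change Df i B j y v x w a a' * r = r * Df i B j y v x w a a'
  rw [Df, mul_assoc, eL, ← mul_assoc, eR', mul_assoc]

theorem D_memC (hv : Pt B v) (hx : Pv B v x) (hw : Pv B v w) (a a' : A) :
    Df i B j y v x w a a' ∈ C[QV φ v] := by
  have : QV φ v ≤ C1[Df i B j y v x w a a'] := by
    rw [h.kb.qgen v hv]
    refine sup_le ((closure_le _).2 ?_) fun g hg => ?_
    · rintro g ⟨z, z1, z2, rfl⟩
      have e : BB (TT i φ) z v 1 = BB y z v 1 := by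
        rw [BB, BB, ← h.p.res _ (h.iso_add hv.1 ⟨z1, z2⟩), ← h.p.res _ z1, ← h.p.res _ hv.1, map_one]
      rw [e]
      exact mem_centralizer_singleton_iff.2 (h.c_Db hv.1 hx hw a a' ⟨z1, z2⟩).symm.eq
    · obtain ⟨d, rfl⟩ := (h.c.mem_ZV hv.1).1 hg
      rw [← h.p.res _ hv.1]
      exact mem_centralizer_singleton_iff.2 (h.c_vD hv.1 hx hw _ a a').eq
  exact mem_centralizer_iff.2 fun g hg => mem_centralizer_singleton_iff.1 (this hg)

theorem L_addw (hv : B v v = 0) (hw : Pv B v w) (d d' : E) (a a' : A) :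
    Lh y v x ((d + d') • w) a a' = Lh y v x (d • w) a a' * Lh y v x (d' • w) a a' := by
  rw [Lh, Lh, Lh, add_smul, h.baddz hv (hw.smul _) (hw.smul _)
    (by rw [sm_left, sm_right, hw.1, mul_zero, mul_zero])]
  group

theorem R_addw (hv : B v v = 0) (hx : Pv B v x) (hw : Pv B v w) (d d' : E) (a a' : A) :
    Rh i B j y v x ((d + d') • w) a a' =
      Rh i B j y v x (d • w) a a' * Rh i B j y v x (d' • w) a a' := by
  have k := h.bb hv (hx.smul (B x (d • w))) (hw.smul d') (a * a') a'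
  rw [sm_left] at k
  rw [Rh, Rh, Rh, add_smul, h.baddz hv (hw.smul _) (hw.smul _)
    (by rw [sm_left, sm_right, hw.1, mul_zero, mul_zero]), map_add, add_smul,
    h.baddz hv (hx.smul _) (hx.smul _)
      (by rw [sm_left, sm_right _ x x, hx.1, mul_zero, mul_zero])]
  set β := B x (d • w)
  set β' := B x (d' • w)
  have e : dn i ((β + β') * σ (β + β')) =
      dn i (σ β * β' + σ (σ β * β')) + (dn i (β * σ β) + dn i (β' * σ β')) :=
    dn_eq (by
      rw [map_add, map_add, h.i_tr, h.i_nm, h.i_nm, map_add, map_mul, h.c.qf.sq]; ring)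
  have e' : j (dn i ((β + β') * σ (β + β'))) * a * a' ^ 2 =
      j (dn i (σ β * β' + σ (σ β * β'))) * (a * a') * a' +
        (j (dn i (β * σ β)) * a * a' ^ 2 + j (dn i (β' * σ β')) * a * a' ^ 2) := by
    rw [e, map_add, map_add]; ring
  rw [e', h.p.add v hv, h.p.add v hv]
  simp only [mul_assoc]
  rw [(h.cvb hv (hw.smul d') _ a').left_comm, (h.cvb hv (hx.smul β') _ (a * a')).left_comm,
    ← mul_assoc (BB y (β • x) v (a * a')) (BB y (d' • w) v a'), k]
  simp only [mul_assoc]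
  rw [(h.cvb hv (hw.smul d') _ a').left_comm, (h.cvb hv (hx.smul β) _ (a * a')).left_comm,
    (h.cvb hv (hx.smul β') _ (a * a')).left_comm]

/-- A defect that lies in `y v` for all multiples of `w` is trivial. -/
theorem exact (hv : Pt B v) (hx : Pv B v x) (hw : Pv B v w) (hxw : B x w ≠ 0) (a a' : A)
    (hD : ∀ d : E, ∃ e, Df i B j y v x (d • w) a a' = y v e) :
    Lh y v x w a a' = Rh i B j y v x w a a' := by
  obtain ⟨ε, hε, hε1⟩ := h.c.qf.exists_norm_one
  have hε0 : ε ≠ 0 := fun e => by simp [e] at hε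
  have hσ : σ ε = ε⁻¹ := eq_inv_of_mul_eq_one_right hε
  have hx0 : x ∉ E ∙ v := fun e => by
    obtain ⟨d, rfl⟩ := Submodule.mem_span_singleton.1 e
    exact hxw (by rw [sm_left, hw.2, mul_zero])
  -- a frame
  have hf1 : B x ((B x w)⁻¹ • w) = 1 := by rw [sm_right, inv_mul_cancel₀ hxw]
  obtain ⟨v', hv'm, hv', hvv'⟩ := h.c.herm.toIsHermSymm.exists_hyperbolic_of_nondegOn
    (h.c.perp_pair hx.1 hf1).1 hv.1 hv.2
    (UCtx.mem_perp_pair.2 ⟨h.c.flip hx.2, h.c.flip (hw.smul _).2⟩)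
  obtain ⟨m1, m2⟩ := UCtx.mem_perp_pair.1 hv'm
  obtain ⟨g, g1, g2, g3, -, -⟩ := h.c.diag2 (e := x) (f := (B x w)⁻¹ • w) (e' := v) (f' := v')
    ⟨hx.1, (hw.smul _).1, hf1, hv.1, hv', hvv', h.c.flip hx.2, m1, h.c.flip (hw.smul _).2, m2⟩
    hε0 (inv_ne_zero hε0) (by rw [mul_inv_cancel₀ hε0, map_one])
  rw [hσ, inv_inv, map_smul, smul_comm] at g2
  have g4 : g.1 w = ε • w := smul_right_injective V (inv_ne_zero hxw) g2
  have y1 : ∀ {z : V}, B z z = 0 → ∀ {d : E}, d * σ d = 1 → ∀ e, y (d • z) e = y z e :=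
    fun hz d hd e => by rw [h.p.smul _ hz d 1 (by rw [map_one, hd]), map_one, one_mul]
  have hε' : ε⁻¹ * σ ε⁻¹ = 1 := by rw [map_inv₀, ← mul_inv, hε, inv_one]
  have cy : ∀ e, φ g * y v e * (φ g)⁻¹ = y v e := fun e => by
    rw [h.p.eqv g v hv.1, g3, y1 hv.1 hε']
  have cx : φ g * y x a * (φ g)⁻¹ = y x a := by rw [h.p.eqv g x hx.1, g1, y1 hx.1 hε]
  have cb : ∀ {z : V}, Pv B v z → g.1 z = ε • z → ∀ e,
      φ g * BB y z v e * (φ g)⁻¹ = BB y ((ε * ε) • z) v e := fun {z} hz e1 e => by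
    rw [h.φb g hv.1 hz, e1, g3, ← hσ, ← h.l.bmov _ v (hz.smul ε).1 hv.1 (h.c.flip (hz.smul ε).2),
      mul_smul]
  have cD : ∀ d : E, φ g * Df i B j y v x (d • w) a a' * (φ g)⁻¹ =
      Df i B j y v x ((ε * ε * d) • w) a a' := fun d => by
    have n1 : B x ((ε * ε * d) • w) * σ (B x ((ε * ε * d) • w)) =
        B x (d • w) * σ (B x (d • w)) := by
      simp only [sm_right, map_mul]
      linear_combination (d * B x w * σ d * σ (B x w) * (ε * σ ε + 1)) * hε
    have n2 : B x ((ε * ε * d) • w) • x = (ε * ε) • B x (d • w) • x := by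
      rw [sm_right, sm_right, smul_smul, mul_assoc]
    rw [Df, Df, Lh, Lh, Rh, Rh, n1, n2, mul_smul (ε * ε) d,
      ← cb (hw.smul d) (by rw [map_smul, g4, smul_comm]),
      ← cb (hx.smul _) (by rw [map_smul, g1, smul_comm])]
    conv_rhs => rw [← cx, ← cy]
    group
  have h1 : (1 + ε * ε) ≠ 0 := fun e => hε1 (h.c.qf.eq_one_of_pow (k := 1) (by
    linear_combination e - h.c.qf.two))
  obtain ⟨e, he⟩ := hD (1 + ε * ε)⁻¹
  have he' : Df i B j y v x ((ε * ε * (1 + ε * ε)⁻¹) • w) a a' = y v e := by rw [← cD, he, cy]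
  have hw' : w = ((1 + ε * ε)⁻¹ + ε * ε * (1 + ε * ε)⁻¹) • w := by
    rw [← one_add_mul, mul_inv_cancel₀ h1, one_smul]
  rw [Df, inv_mul_eq_iff_eq_mul] at he he'
  rw [hw', h.L_addw hv.1 hw, h.R_addw hv.1 hx hw, he, he', mul_assoc,
    (h.c_vR hv.1 hx (hw.smul _) e a a').left_comm, h.ysq hv.1, mul_one]

omit [FiniteDimensional E V] [Finite E] h in
theorem b_mem {z : V} (hz : Pv B v z) (a : A) : BB y z v a ∈ QH B y v :=
  subset_closure (Or.inl ⟨z, hz.1, hz.2, a, rfl⟩)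

/-- The case `a ∈ F`. -/
theorem step4 (hv : Pt B v) (hx : Pv B v x) (hw : Pv B v w) (hxw : B x w ≠ 0) (d : F) (a' : A) :
    Lh y v x w (j d) a' = Rh i B j y v x w (j d) a' := by
  refine h.exact hv hx hw hxw _ _ fun e => h.q.qh v hv _ ?_
    fun u u1 u2 => h.c_Db hv.1 hx (hw.smul e) _ _ ⟨u1, u2⟩
  obtain ⟨g, g1, g2⟩ := h.c.tt hx.1 d
  have g3 : g.1 v = v := by rw [g1, h.c.flip hx.2, mul_zero, zero_smul, add_zero]
  refine mul_mem (inv_mem (mul_mem (mul_mem (b_mem (hw.smul e) _) (b_mem (hx.smul _) _))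
    (subset_closure (Or.inr ⟨_, rfl⟩)))) ?_
  rw [Lh, h.p.res _ hx.1, ← g2, h.φb g hv.1 (hw.smul e), g3]
  refine b_mem ⟨by rw [iso_map, (hw.smul e).1], ?_⟩ _
  conv_lhs => rw [← g3]
  rw [iso_map, (hw.smul e).2]

theorem D_right (hv : B v v = 0) (hx : Pv B v x) (hw : Pv B v w) (a a' : A) (d : F) :
    Df i B j y v x w a (a' + j d) = Df i B j y v x w a a' := by
  have c1 : Rh i B j y v x w a (a' + j d) = Rh i B j y v x w a (j d) * Rh i B j y v x w a a' := by
    rw [add_comm, h.R_add hv hx hw]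
  have c2 : Lh y v x w a (a' + j d) = Lh y v x w a (j d) * Lh y v x w a a' := by
    rw [add_comm, h.L_add hv hw]
  rw [Df, Df, c1, c2, h.step1 hv hx hw]
  group

theorem D_left (hv : Pt B v) (hx : Pv B v x) (hw : Pv B v w) (hxw : B x w ≠ 0) (a a' : A) (d : F) :
    Df i B j y v x w (a + j d) a' = Df i B j y v x w a a' := by
  set K := BB y (B x w • x) v (j d * a') * y v (j (dn i (B x w * σ (B x w))) * j d * a' ^ 2)
    with hK
  have cbK : Commute (BB y w v a') K :=
    (h.c_wx hv.1 hx hw _ _).symm.mul_right (h.cvb hv.1 hw _ _).symm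
  have cgK : Commute (y x a) K := (h.c_yx hv.1 hx _ _ _).mul_right (h.cxv hv.1 hx _ _)
  have c1 : Rh i B j y v x w (a + j d) a' = K * Rh i B j y v x w a a' := by
    rw [Rh, Rh, ← mul_assoc, ← mul_assoc, ← cbK.eq, hK, add_comm a, add_mul, h.badd hv.1 (hx.smul _),
      mul_add, add_mul, h.p.add v hv.1]
    simp only [mul_assoc]
    rw [(h.cvb hv.1 (hx.smul _) _ (a * a')).left_comm]
  have c2 : Lh y v x w (a + j d) a' = K * Lh y v x w a a' := by
    have e := h.step4 hv hx hw hxw d a'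
    rw [Rh, mul_assoc, ← hK, cbK.eq, Lh] at e
    rw [Lh, Lh, h.p.add x hx.1]
    calc y x a * y x (j d) * BB y w v a' * (y x a * y x (j d))⁻¹
        = y x a * (y x (j d) * BB y w v a' * (y x (j d))⁻¹) * (y x a)⁻¹ := by group
      _ = y x a * K * BB y w v a' * (y x a)⁻¹ := by rw [e]; group
      _ = _ := by rw [cgK.eq]; group
  rw [Df, Df, c1, c2]
  group

theorem t_D (hv : Pt B v) (hx : Pv B v x) (hw : Pv B v w) (hxw : B x w ≠ 0) (a a' : A) :
    t * Df i B j y v x w a a' * t⁻¹ = Df i B j y v x w a a' := by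
  have e : t * Df i B j y v x w a a' * t⁻¹ = Df i B j y v x w (s a) (s a') := by
    have e1 : j (dn i (B x w * σ (B x w))) * s a * s a' ^ 2 =
        s (j (dn i (B x w * σ (B x w))) * a * a' ^ 2) := by
      rw [map_mul s, map_mul s, map_pow, h.s_j]
    rw [Df, Df, Rh, Rh, Lh, Lh, e1, ← map_mul s, ← h.tb hv.1 hw, ← h.tb hv.1 (hx.smul _),
      ← h.p.conj _ hv.1, ← h.p.conj _ hx.1]
    group
  obtain ⟨b, hb⟩ := h.s_eq a
  obtain ⟨b', hb'⟩ := h.s_eq a'
  rw [e, hb, hb', h.D_right hv.1 hx hw, h.D_left hv hx hw hxw]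

theorem odd_R (hv : B v v = 0) (hx : Pv B v x) (hw : Pv B v w) (a a' : A) {k : G} (hk : k ∈ C[L])
    (hkt : Commute k t) (ho : Odd (orderOf k)) : Commute k (Rh i B j y v x w a a') := by
  have c := h.p.odd k hk hkt ho
  have cb : ∀ {z : V}, Pv B v z → ∀ e, Commute k (BB y z v e) := fun hz e =>
    ((c _ (h.iso_add hv hz) e).mul_right (c _ hz.1 e)).mul_right (c _ hv e)
  exact ((cb hw _).mul_right (cb (hx.smul _) _)).mul_right (c _ hv _)

theorem D_mem [Finite G] [Finite F] (hv : Pt B v) (hx : Pv B v x) (hw : Pv B v w)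
    (hxw : B x w ≠ 0) (a a' : A) : ∃ e, Df i B j y v x w a a' = y v e := by
  have ct : Commute (Df i B j y v x w a a') t :=
    (mul_inv_eq_iff_eq_mul.1 (h.t_D hv hx hw hxw a a')).symm
  obtain ⟨d, k, hk, e⟩ := h.c.cQ h.ka hv (h.tc.cN (mem_centralizer_singleton_iff.2 ct.eq))
    (h.D_memC hv hx hw a a')
  rw [← h.p.res _ hv.1] at e
  have ek : k = y v (j d) * Df i B j y v x w a a' := by
    rw [e, ← mul_assoc, h.ysq hv.1, one_mul]
  have czt : Commute (y v (j d)) t := by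
    have := h.p.conj v hv.1 (j d)
    rw [h.s_j] at this
    exact (mul_inv_eq_iff_eq_mul.1 this).symm
  have ckt : Commute k t := ek ▸ czt.mul_left ct
  set R := Rh i B j y v x w a a' with hR
  have iR : R⁻¹ = R := inv_eq_of_mul_eq_one_right (h.R_sq hv.1 hx hw a a')
  have iL : (Lh y v x w a a')⁻¹ = Lh y v x w a a' :=
    inv_eq_of_mul_eq_one_right (h.L_sq hv.1 hw a a')
  have inv : R * k * R⁻¹ = k⁻¹ := by
    rw [ek, mul_inv_rev, h.yinv hv.1, ← (h.c_vD hv.1 hx hw _ a a').inv_right.eq, Df, ← hR,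
      mul_inv_rev, inv_inv, iL, ← mul_assoc, ← (h.c_vR hv.1 hx hw _ a a').eq, ← hR]
    simp only [mul_assoc]
    rw [mul_inv_cancel_left, iR]
  obtain ⟨n, hn⟩ := Cfsg.Agent.H9.exists_pow_two_pow_odd k
  have c1 := h.odd_R hv.1 hx hw a a' (pow_mem hk (2 ^ n)) (ckt.pow_left _) hn
  have c2 : R * k ^ 2 ^ n * R⁻¹ = (k ^ 2 ^ n)⁻¹ := by
    rw [← conj_pow, inv, inv_pow]
  rw [← c1.eq, mul_inv_cancel_right] at c2
  have c3 : k ^ 2 ^ n = 1 := by
    have : orderOf (k ^ 2 ^ n) ∣ 2 :=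
      orderOf_dvd_of_pow_eq_one (by rw [pow_two]; nth_rewrite 2 [c2]; exact mul_inv_cancel _)
    rcases (Nat.dvd_prime Nat.prime_two).1 this with e1 | e1
    · exact orderOf_eq_one_iff.1 e1
    · rw [e1] at hn; exact absurd hn (by decide)
  rcases h.r2 k hk ckt ⟨n, c3⟩ with e1 | e1
  · exact ⟨j d, by rw [e, e1, mul_one]⟩
  · exfalso
    obtain ⟨ω, hω⟩ := h.p.tr
    have c4 : Commute (y v ω) t := by
      rw [← e1, ek]
      exact (h.cxv hv.1 ⟨hv.1, hv.1⟩ _ _).mul_right (h.c_vD hv.1 hx hw _ a a')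
    have c5 := h.p.conj v hv.1 ω
    rw [← c4.eq, mul_inv_cancel_right, hω, h.p.add v hv.1, left_eq_mul, ← map_one j,
      h.p.res _ hv.1] at c5
    exact one_ne_zero (h.c.TT_eq_one hv c5)

theorem main [Finite G] [Finite F] : UKL i B j y := by
  intro v w x hv hw hx vw vx n hn a a'
  rw [← dn_eq hn]
  change Lh y v x w a a' = Rh i B j y v x w a a'
  by_cases hxw : B x w = 0
  · rw [Lh, Rh, (h.cyb hv ⟨hw, vw⟩ ⟨hx, vx⟩ hxw a a').eq, mul_inv_cancel_right, hxw, zero_smul,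
      h.bz hv, zero_mul, dn_eq (map_zero i), map_zero, zero_mul, zero_mul, h.y0 hv, mul_one, mul_one]
  by_cases hv0 : v = 0
  · subst hv0
    have e : ∀ {z : V}, Pv B 0 z → ∀ e, BB y z 0 e = 1 := fun hz e => by
      rw [BB, add_zero, h.ysq hz.1, h.p.zero, mul_one]
    rw [Lh, Rh, e ⟨hw, vw⟩, e (Pv.smul ⟨hx, vx⟩ _), h.p.zero, mul_one, mul_inv_cancel, mul_one,
      mul_one]
  refine h.exact ⟨hv, hv0⟩ ⟨hx, vx⟩ ⟨hw, vw⟩ hxw a a' fun d => ?_
  by_cases hd : d = 0
  · refine ⟨0, ?_⟩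
    rw [hd, zero_smul, Df, Lh, Rh, map_zero, zero_smul, h.bz hv, h.bz hv, zero_mul,
      dn_eq (map_zero i), map_zero, zero_mul, zero_mul, h.y0 hv]
    group
  · exact h.D_mem ⟨hv, hv0⟩ ⟨hx, vx⟩ (Pv.smul ⟨hw, vw⟩ d)
      (by rw [sm_right]; exact mul_ne_zero hd hxw) a a'

end Cx

theorem kl : KLStmt.{u, v} := by
  intro F E V _ _ _ _ _ _ _ _ i σ B G _ _ φ L c ka kb t A _ j s y tc r2 p l q
  exact Cx.main ⟨c, ka, kb, tc, r2, p, l, q⟩

end Cfsg.Agent.H54V.H1.UmKL
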