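import Cfsg.Agent.H54.VTri

/-!
Project UM: the piece LINE.
-/

set_option autoImplicit false
set_option linter.unusedSectionVars false

namespace Cfsg.Agent.H54V.H70.UM

open Cfsg.Agent.H70

open Cfsg Cfsg.Agent.H63 Cfsg.Agent.H63.SL Cfsg.Agent.H34 Cfsg.Agent.H34.TW Cfsg.Agent.H34.UM
  Cfsg.Agent.H31 Subgroup Module
open Cfsg.Agent.H27.End (mem_C comm_of_C conj_mem is2_of_sq mem_C1 mem_N_of_conj comm_mem_right)
open scoped commutatorElement

universe u v

section Add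

variable {V X : Type*} [AddCommGroup V] [AddCommGroup X] (Q : V → X)

/-- second difference -/
def b2 (u w : V) : X := Q (u + w) + Q u + Q w

/-- third difference -/
def d3 (u w w' : V) : X := b2 Q u (w + w') + b2 Q u w + b2 Q u w'

theorem d3_12 (h2 : ∀ x : X, x + x = 0) (u w w' : V) : d3 Q u w w' = d3 Q w u w' := by
  simp only [d3, b2]
  rw [add_left_comm u w w', add_comm u w]
  linear_combination (norm := abel) h2 (Q u) - h2 (Q w)

theorem d3_23 (u w w' : V) : d3 Q u w w' = d3 Q u w' w := by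
  simp only [d3]
  rw [add_comm w w']
  abel

theorem d4 (z z' v v' : V) : d3 Q (z + z') v v' + d3 Q z v v' + d3 Q z' v v' =
    d3 Q (v + v') z z' + d3 Q v z z' + d3 Q v' z z' := by
  simp only [d3, b2]
  rw [add_comm (v + v') (z + z'), add_comm (v + v') z, add_comm (v + v') z', add_comm v (z + z'),
    add_comm v z, add_comm v z', add_comm v' (z + z'), add_comm v' z, add_comm v' z']
  abel

theorem tri (h2 : ∀ x : X, x + x = 0) (f a b : V) :
    Q (f + b + a) + Q (f + b) + (Q (f + a) + Q f) = d3 Q f a b + b2 Q a b := by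
  simp only [d3, b2]
  rw [add_assoc f b a, add_comm b a]
  linear_combination (norm := abel) -h2 (Q f) - h2 (Q (a + b)) - h2 (Q a) - h2 (Q b)

end Add

theorem cm_swap' {G : Type u} [Group G] {M : Subgroup G} (hM : ∀ p ∈ M, ∀ q ∈ M, Commute p q)
    {n n' g : G} (hn : n ∈ N[M]) (hn' : n' ∈ N[M]) (hg : g ∈ M)
    (c : n * (n' * g * n'⁻¹) * n⁻¹ = n' * (n * g * n⁻¹) * n'⁻¹) :
    ⁅n, ⁅n', g⁆⁆ = ⁅n', ⁅n, g⁆⁆ := by
  have a := inv_mem (conj_mem hn hg)
  have b := inv_mem (conj_mem hn' hg)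
  have e : (n * g * n⁻¹)⁻¹ * g * (n' * g * n'⁻¹)⁻¹ = (n' * g * n'⁻¹)⁻¹ * g * (n * g * n⁻¹)⁻¹ := by
    rw [(hM _ (mul_mem a hg) _ b).eq, (hM _ a _ hg).eq]
    exact (mul_assoc _ _ _).symm
  calc ⁅n, ⁅n', g⁆⁆ = n * (n' * g * n'⁻¹) * n⁻¹ *
        ((n * g * n⁻¹)⁻¹ * g * (n' * g * n'⁻¹)⁻¹) := by simp only [commutatorElement_def]; group
    _ = _ := by rw [e, c]; simp only [commutatorElement_def]; group

variable {F E V : Type v} [Field F] [Field E] [AddCommGroup V] [Module E V] {i : F →+* E}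
  {σ : E ≃+* E} {B : V →ₛₗ[(σ : E →+* E)] V →ₗ[E] E} {G : Type u} [Group G] {φ : sisom B →* G}
  {L : Subgroup G} {A : Type v} [CommRing A] {j : F →+* A} {s : A ≃+* A} {y : V → A → G} {t : G}

variable (y) in
/-- the group generated by the doubled transvections with centre in `S` -/
def MS (S : Submodule E V) : Subgroup G := closure {g | ∃ x ∈ S, ∃ a, g = y x a}

variable (y) in
/-- the failure of additivity -/
def D3 (a : A) (u w w' : V) : G := BB y u (w + w') a * BB y u w a * BB y u w' a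

theorem y_mem {S : Submodule E V} {x : V} (hx : x ∈ S) (a : A) : y x a ∈ MS y S :=
  subset_closure ⟨x, hx, a, rfl⟩

theorem BB_mem {S : Submodule E V} {u w : V} (hu : u ∈ S) (hw : w ∈ S) (a : A) :
    BB y u w a ∈ MS y S :=
  mul_mem (mul_mem (y_mem (S.add_mem hu hw) a) (y_mem hu a)) (y_mem hw a)

theorem D3_mem {S : Submodule E V} {u w w' : V} (hu : u ∈ S) (hw : w ∈ S) (hw' : w' ∈ S) (a : A) :
    D3 y a u w w' ∈ MS y S :=
  mul_mem (mul_mem (BB_mem hu (S.add_mem hw hw') a) (BB_mem hu hw a)) (BB_mem hu hw' a)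

section Par

variable (h : UPar i φ L t j s y)
include h

theorem y_zero {v : V} (hv : B v v = 0) : y v 0 = 1 := by
  have := h.add v hv 0 0
  rw [add_zero] at this
  exact mul_eq_left.1 this.symm

theorem y_sq {v : V} (hv : B v v = 0) (a : A) : y v a * y v a = 1 := by
  rw [← h.add v hv, show a + a = 0 by linear_combination a * h.two, y_zero h hv]

theorem y_inv {v : V} (hv : B v v = 0) (a : A) : (y v a)⁻¹ = y v a :=
  inv_eq_of_mul_eq_one_right (y_sq h hv a)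

theorem exists_lam (a : A) : ∃ ν : F, ∀ v, B v v = 0 → ⁅t, y v a⁆ = TT i φ v ν := by
  obtain ⟨ν, e⟩ := (h.fix (s a + a)).1 (by rw [map_add, h.sq, add_comm])
  exact ⟨ν, fun v hv => by
    rw [commutatorElement_def, h.conj v hv, y_inv h hv, ← h.add v hv, e, h.res v hv]⟩

theorem BB_zero_left {w : V} (hw : B w w = 0) (a : A) : BB y 0 w a = 1 := by
  rw [BB, zero_add, h.zero, mul_one, y_sq h hw]

theorem BB_zero_right {u : V} (hu : B u u = 0) (a : A) : BB y u 0 a = 1 := by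
  rw [BB, add_zero, h.zero, mul_one, y_sq h hu]

variable {S : Submodule E V} (hS : TotIso B S)
include hS

theorem MS_gen : ∀ p ∈ {g | ∃ x ∈ S, ∃ a, g = y x a}, ∀ q ∈ {g | ∃ x ∈ S, ∃ a, g = y x a},
    Commute p q := by
  rintro _ ⟨x, hx, a, rfl⟩ _ ⟨z, hz, b, rfl⟩
  exact h.com x z (hS x hx x hx) (hS z hz z hz) (hS x hx z hz) a b

theorem MS_ab : ∀ p ∈ MS y S, ∀ q ∈ MS y S, Commute p q := comm_closure (MS_gen h hS)

theorem MS_sq {p : G} (hp : p ∈ MS y S) : p * p = 1 := by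
  rw [← sq]
  refine pow_closure (MS_gen h hS) ?_ hp
  rintro _ ⟨x, hx, a, rfl⟩
  rw [sq, y_sq h (hS x hx x hx)]

theorem MS_cR : MS y S ≤ C[RS φ S] := by
  refine (closure_le _).2 ?_
  rintro _ ⟨x, hx, a, rfl⟩
  refine mem_C ?_
  rintro _ ⟨r, hr, rfl⟩
  exact (mul_inv_eq_iff_eq_mul.1 ((h.eqv r x (hS x hx x hx) a).trans (by rw [hr.1 x hx]))).symm

theorem AS_le_MS : AS i φ S ≤ MS y S := by
  refine (closure_le _).2 ?_
  rintro _ ⟨x, hx, a, rfl⟩
  exact h.res x (hS x hx x hx) a ▸ y_mem hx _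

theorem t_notMem [Finite F] {f : V} (hf : f ∈ S) (f0 : f ≠ 0) : t ∉ MS y S := fun hm => by
  obtain ⟨ω, hω⟩ := h.tr
  have h1 := h.conj f (hS f hf f hf) ω
  rw [(MS_ab h hS t hm _ (y_mem hf ω)).eq, mul_inv_cancel_right, hω, h.add f (hS f hf f hf)] at h1
  have : Subsingleton A := subsingleton_of_zero_eq_one
    (h.inj f ⟨hS f hf f hf, f0⟩ 1 (mul_eq_left.1 h1.symm)).symm
  have h2 := h.card
  rw [Nat.card_of_subsingleton (0 : A)] at h2
  have h3 : 1 < Nat.card F := Finite.one_lt_card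
  nlinarith

theorem t_mem_N [Finite G] : t ∈ N[MS y S] := by
  refine mem_N_closure ?_
  rintro _ ⟨x, hx, a, rfl⟩
  exact h.conj x (hS x hx x hx) a ▸ y_mem hx _

theorem mem_N_MS [Finite G] (g : sisom B) (hg : ∀ x ∈ S, g.1 x ∈ S) : φ g ∈ N[MS y S] := by
  refine mem_N_closure ?_
  rintro _ ⟨x, hx, a, rfl⟩
  exact h.eqv g x (hS x hx x hx) a ▸ y_mem (hg x hx) _

theorem model (a : A) : ∃ (X : Type u) (_ : AddCommGroup X) (ι : X → G) (Q : V → X),
    (∀ x x', ι (x + x') = ι x * ι x') ∧ (∀ x : X, x + x = 0) ∧ (∀ z ∈ S, y z a = ι (Q z)) ∧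
    (∀ u ∈ S, ∀ w ∈ S, BB y u w a = ι (b2 Q u w)) ∧
    ∀ u ∈ S, ∀ w ∈ S, ∀ w' ∈ S, D3 y a u w w' = ι (d3 Q u w w') := by
  obtain ⟨X, _, ι, h1, h2, h3, h4⟩ := exists_model (MS_ab h hS)
  have h5 : ∀ z : V, ∃ x : X, z ∈ S → y z a = ι x := fun z => by
    by_cases hz : z ∈ S
    · exact (h4 _ (y_mem hz a)).imp fun x e _ => e.symm
    · exact ⟨0, fun e => absurd e hz⟩
  choose Q hQ using h5
  have h6 : ∀ u ∈ S, ∀ w ∈ S, BB y u w a = ι (b2 Q u w) := fun u hu w hw => by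
    rw [BB, b2, h2, h2, hQ _ (S.add_mem hu hw), hQ u hu, hQ w hw]
  have h0 : ι 0 = 1 := mul_eq_left.1 ((h2 0 0).symm.trans (by rw [add_zero]))
  exact ⟨X, inferInstance, ι, Q, h2, fun x => h1 (by rw [h2, MS_sq h hS (h3 x), h0]), hQ, h6,
    fun u hu w hw w' hw' => by
      rw [D3, d3, h2, h2, h6 u hu _ (S.add_mem hw hw'), h6 u hu w hw, h6 u hu w' hw']⟩

variable {u w w' : V} (hu : u ∈ S) (hw : w ∈ S)
include hu hw

theorem BB_conj (g : sisom B) (a : A) :
    φ g * BB y u w a * (φ g)⁻¹ = BB y (g.1 u) (g.1 w) a := by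
  have h1 := S.add_mem hu hw
  rw [BB, BB, ← map_add, ← h.eqv g _ (hS _ h1 _ h1), ← h.eqv g _ (hS _ hu _ hu),
    ← h.eqv g _ (hS _ hw _ hw)]
  group

theorem BB_smul {d : E} {n : F} (e : i n = d * σ d) (a : A) :
    BB y (d • u) (d • w) a = BB y u w (j n * a) := by
  have h1 := S.add_mem hu hw
  rw [BB, BB, ← smul_add, h.smul _ (hS _ h1 _ h1) d n e, h.smul _ (hS _ hu _ hu) d n e,
    h.smul _ (hS _ hw _ hw) d n e]

theorem BB_one {d : E} (e : d * σ d = 1) (a : A) : BB y (d • u) (d • w) a = BB y u w a := by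
  rw [BB_smul h hS hu hw (n := 1) (by rw [map_one, e]), map_one, one_mul]

theorem BB_lam [Finite G] {a : A} {ν : F} (e : ∀ v, B v v = 0 → ⁅t, y v a⁆ = TT i φ v ν) :
    ⁅t, BB y u w a⁆ = BB (TT i φ) u w ν := by
  have h1 := S.add_mem hu hw
  rw [BB, cm_mul (MS_ab h hS) (t_mem_N h hS) (mul_mem (y_mem h1 a) (y_mem hu a)) (y_mem hw a),
    cm_mul (MS_ab h hS) (t_mem_N h hS) (y_mem h1 a) (y_mem hu a), e _ (hS _ h1 _ h1),
    e _ (hS _ hu _ hu), e _ (hS _ hw _ hw), BB]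

variable (hw' : w' ∈ S)
include hw'

theorem D3_12 (a : A) : D3 y a u w w' = D3 y a w u w' := by
  obtain ⟨X, _, ι, Q, -, h2, -, -, h3⟩ := model h hS a
  rw [h3 u hu w hw w' hw', h3 w hw u hu w' hw', d3_12 Q h2]

theorem D3_23 (a : A) : D3 y a u w w' = D3 y a u w' w := by
  obtain ⟨X, _, ι, Q, -, -, -, -, h3⟩ := model h hS a
  rw [h3 u hu w hw w' hw', h3 u hu w' hw' w hw, d3_23 Q]

theorem D3_iff (a : A) : D3 y a u w w' = 1 ↔ BB y u (w + w') a = BB y u w a * BB y u w' a := by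
  rw [D3, mul_assoc, mul_eq_one_iff_eq_inv, inv_eq_of_mul_eq_one_right
    (MS_sq h hS (mul_mem (BB_mem hu hw a) (BB_mem hu hw' a)))]

theorem D3_conj (g : sisom B) (a : A) :
    φ g * D3 y a u w w' * (φ g)⁻¹ = D3 y a (g.1 u) (g.1 w) (g.1 w') := by
  rw [D3, D3, ← map_add, ← BB_conj h hS hu (S.add_mem hw hw'), ← BB_conj h hS hu hw,
    ← BB_conj h hS hu hw']
  group

theorem D3_one {d : E} (e : d * σ d = 1) (a : A) :
    D3 y a (d • u) (d • w) (d • w') = D3 y a u w w' := by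
  rw [D3, D3, ← smul_add, BB_one h hS hu (S.add_mem hw hw') e, BB_one h hS hu hw e,
    BB_one h hS hu hw' e]

theorem D4 {z : V} (hz : z ∈ S) (a : A) :
    D3 y a (z + u) w w' * D3 y a z w w' * D3 y a u w w' =
      D3 y a (w + w') z u * D3 y a w z u * D3 y a w' z u := by
  obtain ⟨X, _, ι, Q, h1, -, -, -, h3⟩ := model h hS a
  rw [h3 _ (S.add_mem hz hu) w hw w' hw', h3 z hz w hw w' hw', h3 u hu w hw w' hw',
    h3 _ (S.add_mem hw hw') z hz u hu, h3 w hw z hz u hu, h3 w' hw' z hz u hu, ← h1, ← h1, ← h1,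
    ← h1, d4]

theorem TRI (a : A) : y (u + w' + w) a * y (u + w') a * (y (u + w) a * y u a) =
    D3 y a u w w' * BB y w w' a := by
  obtain ⟨X, _, ι, Q, h1, h2, h3, h4, h5⟩ := model h hS a
  rw [h5 u hu w hw w' hw', h4 w hw w' hw', h3 _ (S.add_mem (S.add_mem hu hw') hw),
    h3 _ (S.add_mem hu hw'), h3 _ (S.add_mem hu hw), h3 u hu, ← h1, ← h1, ← h1, ← h1, tri Q h2]

end Par

section Main

variable [FiniteDimensional E V] [Finite E] [Finite F] [Finite G] (c : UCtx i φ L)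
  (h : UPar i φ L t j s y)
include c h

theorem BB_line {v : V} (hv : B v v = 0) (d e : E) {n : F} (hn : i n = σ d * e + σ e * d) (a : A) :
    BB y (d • v) (e • v) a = y v (j n * a) := by
  obtain ⟨n1, h1⟩ := c.qf.exists_norm (d + e)
  obtain ⟨n2, h2⟩ := c.qf.exists_norm d
  obtain ⟨n3, h3⟩ := c.qf.exists_norm e
  have h4 : n1 + n2 + n3 = n := i.injective (by
    rw [map_add, map_add, h1, h2, h3, hn, map_add]
    linear_combination (d * σ d + e * σ e) * c.qf.two)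
  rw [BB, ← add_smul, h.smul v hv _ _ h1, h.smul v hv _ _ h2, h.smul v hv _ _ h3, ← h.add v hv,
    ← h.add v hv, ← h4, map_add, map_add, add_mul, add_mul]

theorem exists_n (d e : E) : ∃ n : F, i n = σ d * e + σ e * d := by
  obtain ⟨n, hn⟩ := c.qf.exists_trace (σ d * e)
  exact ⟨n, by rw [hn, map_mul, c.qf.sq, mul_comm d]⟩

theorem D3_line {v : V} (hv : B v v = 0) {u w w' : V} (hu : u ∈ E ∙ v) (hw : w ∈ E ∙ v)
    (hw' : w' ∈ E ∙ v) (a : A) : D3 y a u w w' = 1 := by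
  obtain ⟨d, rfl⟩ := Submodule.mem_span_singleton.1 hu
  obtain ⟨e, rfl⟩ := Submodule.mem_span_singleton.1 hw
  obtain ⟨e', rfl⟩ := Submodule.mem_span_singleton.1 hw'
  obtain ⟨n, h1⟩ := exists_n c h d e
  obtain ⟨n', h2⟩ := exists_n c h d e'
  rw [D3, ← add_smul, BB_line c h hv d (e + e') (n := n + n') (by
    rw [map_add, h1, h2, map_add]; ring), BB_line c h hv d e h1, BB_line c h hv d e' h2, map_add,
    add_mul, mul_assoc, ← h.add v hv, y_sq h hv]

variable (k : KitA i φ L) (ht : Tc L t) (hr : R2 L t)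
include k ht hr

/-- the third difference lies in `A_D` -/
theorem D3_mem_AS {D : Submodule E V} (hD : TotIso B D) {f a b : V} (hf : B f f = 0)
    (hfD : ∀ x ∈ D, B f x = 0) (hn : f ∉ D) (ha : a ∈ D) (hb : b ∈ D) (a0 : A) :
    D3 y a0 f a b ∈ AS i φ D := by
  have hS := totIso_sup c hD hf hfD
  have fS : f ∈ (E ∙ f) ⊔ D := Submodule.mem_sup_left (Submodule.mem_span_singleton_self f)
  have le : D ≤ (E ∙ f) ⊔ D := le_sup_right
  by_cases z : a = 0
  · rw [z, D3, zero_add, BB_zero_right h hf, mul_one, MS_sq h hS (BB_mem fS (le hb) a0)]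
    exact one_mem _
  obtain ⟨f', h1, h2, h3⟩ := exists_dual c hf hfD hn
  obtain ⟨ν, hν⟩ := exists_lam h a0
  have uu : ∀ b ∈ D, ∃ r : sisom B, (∀ x ∈ (E ∙ f) ⊔ D, r.1 x = x + B f' x • b) ∧
      φ r = EE φ f' b 0 := by
    intro b hb
    obtain ⟨r, k1, k2⟩ := c.ee (d := 0) h1 (h3 b hb) (by rw [map_zero, add_zero, hD b hb b hb])
    exact ⟨r, fun x hx => by rw [k1, hS b (le hb) x hx]; simp, k2⟩
  have uy : ∀ b ∈ D, ∀ x ∈ (E ∙ f) ⊔ D,
      EE φ f' b 0 * y x a0 * (EE φ f' b 0)⁻¹ = y (x + B f' x • b) a0 := fun b hb x hx => by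
    obtain ⟨r, k1, k2⟩ := uu b hb
    rw [← k2, h.eqv r x (hS x hx x hx), k1 x hx]
  have uc : ∀ b ∈ D, ∀ x ∈ D, Commute (EE φ f' b 0) (y x a0) := fun b hb x hx =>
    mul_inv_eq_iff_eq_mul.1 (by rw [uy b hb x (le hx), h3 x hx, zero_smul, add_zero])
  have cf : Cfg i φ t ((E ∙ f) ⊔ D) D f f' (MS y ((E ∙ f) ⊔ D)) (y f a0) ν 0 :=
    ⟨hS, le, fS, h1, h2, h3, MS_ab h hS, fun p hp => is2_of_sq (MS_sq h hS hp), MS_cR h hS,
      AS_le_MS h hS, t_notMem h hS fS fun e => hn (e ▸ D.zero_mem), t_mem_N h hS,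
      fun b hb => by
        obtain ⟨r, k1, k2⟩ := uu b hb
        rw [← k2]
        exact mem_N_MS h hS r fun x hx => by
          rw [k1 x hx]
          exact Submodule.add_mem _ hx (Submodule.smul_mem _ _ (le hb)),
      y_mem fS a0, hν f hf, by rw [y_sq h hf, UCtx.TT_zero],
      fun z hz => ⟨y z a0, y_mem (le hz) a0, hν z (hD z hz z hz), fun b hb => uc b hb z hz⟩⟩
  have fb := Submodule.add_mem _ fS (le hb)
  obtain ⟨r, k1, k2, k3⟩ := cf.rep c k ht hr ha hb (r := D3 y a0 f a b) (BB_mem (le ha) (le hb) a0)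
    (BB_lam h hS (le ha) (le hb) hν)
    (fun e he => ((uc e he _ (D.add_mem ha hb)).mul_right (uc e he a ha)).mul_right (uc e he b hb))
    (by
      rw [commutatorElement_def _ (y f a0), uy b hb f fS, h2, one_smul, y_inv h hf,
        cm_mul cf.ab (cf.uN a ha) (y_mem fb a0) (y_mem fS a0), commutatorElement_def,
        commutatorElement_def, uy a ha _ fb, uy a ha f fS, map_add, h2, h3 b hb, add_zero, one_smul,
        y_inv h hf, y_inv h (hS _ fb _ fb), TRI h hS fS (le ha) (le hb)])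
  have k4 := cf.n_zero c k ht hr rfl ha hb z k3
  refine (mem_AS c k hD).2 ⟨r, k1, fun x => ?_⟩
  have k5 := herm_of c hS k2 f' x
  obtain ⟨_, m1, d, hd, e⟩ := Submodule.mem_sup.1 (k2 x)
  obtain ⟨α, rfl⟩ := Submodule.mem_span_singleton.1 m1
  rw [k4, zero_left, ← e, map_add, sm_right, h2, h3 d hd, add_zero, mul_one] at k5
  rw [← e, ← k5, zero_smul, zero_add]
  exact hd

variable {S : Submodule E V} (hS : TotIso B S)
include hS

theorem D3_mem_line {z v a b : V} (hz : z ∈ S) (hv : v ∈ S) (ha : a ∈ E ∙ v) (hb : b ∈ E ∙ v)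
    (a0 : A) : D3 y a0 z a b ∈ AS i φ (E ∙ v) := by
  have le : (E ∙ v) ≤ S := (Submodule.span_singleton_le_iff_mem _ _).2 hv
  by_cases hn : z ∈ E ∙ v
  · rw [D3_line c h (hS v hv v hv) hn ha hb]
    exact one_mem _
  · exact D3_mem_AS c h k ht hr (fun x hx x' hx' => hS x (le hx) x' (le hx')) (hS z hz z hz)
      (fun x hx => hS z hz x (le hx)) hn ha hb a0

/-- additivity on a line -/
theorem D3_eq_one_line {z v : V} (hz : z ∈ S) (hv : v ∈ S) (α β : E) (a0 : A) :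
    D3 y a0 z (α • v) (β • v) = 1 := by
  have mv : ∀ (x : V) (d : E), d • x ∈ E ∙ x := fun x d =>
    Submodule.smul_mem _ _ (Submodule.mem_span_singleton_self x)
  have ti : ∀ x ∈ S, TotIso B (E ∙ x) := fun x hx =>
    totIso_span (by simpa using hS x hx x hx)
  by_cases hn : z ∈ E ∙ v
  · exact D3_line c h (hS v hv v hv) hn (mv v α) (mv v β) a0
  by_cases v0 : v = 0
  · rw [v0, smul_zero, smul_zero, D3, add_zero, BB_zero_right h (hS z hz z hz), one_mul, one_mul]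
  have a1 := S.smul_mem α hv
  have b1 := S.smul_mem β hv
  have add : ∀ γ γ' : E, D3 y a0 (γ • z + γ' • z) (α • v) (β • v) * D3 y a0 (γ • z) (α • v) (β • v) *
      D3 y a0 (γ' • z) (α • v) (β • v) = 1 := fun γ γ' => by
    have g1 := S.smul_mem γ hz
    have g2 := S.smul_mem γ' hz
    refine AS_bot (S := (E ∙ v) ⊓ (E ∙ z)) (fun x hx => ?_) (AS_inf c k (ti v hv) (ti z hz) ?_ ?_)
    · obtain ⟨d, rfl⟩ := Submodule.mem_span_singleton.1 hx.2
      by_contra d0
      exact hn ((Submodule.smul_mem_iff _ (left_ne_zero_of_smul d0)).1 hx.1)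
    · exact mul_mem (mul_mem (D3_mem_line c h k ht hr hS (S.add_mem g1 g2) hv (mv v α) (mv v β) a0)
        (D3_mem_line c h k ht hr hS g1 hv (mv v α) (mv v β) a0))
        (D3_mem_line c h k ht hr hS g2 hv (mv v α) (mv v β) a0)
    · rw [D4 h hS g2 a1 b1 g1]
      exact mul_mem (mul_mem (D3_mem_line c h k ht hr hS (S.add_mem a1 b1) hz (mv z γ) (mv z γ') a0)
        (D3_mem_line c h k ht hr hS a1 hz (mv z γ) (mv z γ') a0))
        (D3_mem_line c h k ht hr hS b1 hz (mv z γ) (mv z γ') a0)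
  obtain ⟨f, f', fr⟩ := c.exists_fr2' ⟨hS v hv v hv, v0⟩ (hS z hz z hz) (hS v hv z hz) hn
  obtain ⟨ε, e1, e2⟩ := c.qf.exists_norm_one
  have ε0 : ε ≠ 0 := left_ne_zero_of_mul_eq_one e1
  obtain ⟨τ, t1, -, t2, -⟩ := c.diag2 fr (a := σ ε) (b := ε) (right_ne_zero_of_mul_eq_one e1) ε0
    (by rw [mul_comm, e1, map_one])
  have inv : ∀ γ : E, D3 y a0 ((γ * ε ^ 2) • z) (α • v) (β • v) =
      D3 y a0 (γ • z) (α • v) (β • v) := fun γ => by
    have g1 := S.smul_mem γ hz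
    have m := D3_mem_line c h k ht hr hS g1 hv (mv v α) (mv v β) a0
    rw [c.AS_span, c.mem_ZV (hS v hv v hv)] at m
    obtain ⟨r, m⟩ := m
    have m1 := D3_conj h hS g1 a1 b1 τ a0
    rw [m, c.TT_conj τ (hS v hv v hv), t1, UCtx.TT_smul v (n := 1) (by
      rw [map_one, c.qf.sq, mul_comm, e1]), one_mul, ← m, map_smul, map_smul, map_smul, t1, t2,
      ← D3_one h hS (S.smul_mem γ (S.smul_mem ε hz)) (S.smul_mem α (S.smul_mem _ hv))
        (S.smul_mem β (S.smul_mem _ hv)) e1] at m1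
    rw [m1]
    simp only [smul_smul]
    rw [mul_left_comm ε α, mul_left_comm ε β, e1, mul_one, mul_one, mul_left_comm ε γ, sq]
  have ne : 1 + ε ^ 2 ≠ 0 := fun e => e2 (c.qf.eq_one_of_pow (k := 1) (by
    linear_combination e - c.qf.two))
  have fin := add (1 + ε ^ 2)⁻¹ ((1 + ε ^ 2)⁻¹ * ε ^ 2)
  rwa [inv, mul_assoc, MS_sq h hS (D3_mem (S.smul_mem _ hz) a1 b1 a0), mul_one, ← add_smul,
    ← mul_one_add, inv_mul_cancel₀ ne, one_smul] at fin

theorem D3_dep {u w w' : V} (hu : u ∈ S) (hw : w ∈ S) (hd : w' ∈ Submodule.span E {u, w})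
    (a0 : A) : D3 y a0 u w w' = 1 := by
  obtain ⟨α, β, rfl⟩ := Submodule.mem_span_pair.1 hd
  have a1 := S.smul_mem α hu
  have b1 := S.smul_mem β hw
  have h1 : ∀ z ∈ S, BB y u (z + α • u) a0 = BB y u z a0 * BB y u (α • u) a0 := fun z hz => by
    rw [← D3_iff h hS hu hz a1, D3_12 h hS hu hz a1, ← D3_eq_one_line c h k ht hr hS hz hu 1 α a0,
      one_smul]
  have h2 : BB y u (w + β • w) a0 = BB y u w a0 * BB y u (β • w) a0 := by
    rw [← D3_iff h hS hu hw b1, ← D3_eq_one_line c h k ht hr hS hu hw 1 β a0, one_smul]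
  rw [D3_iff h hS hu hw (S.add_mem a1 b1), add_comm (α • u), ← add_assoc, h1 _ (S.add_mem hw b1),
    h2, h1 _ b1, mul_assoc]

theorem D3_eq_one {u w w' : V} (hu : u ∈ S) (hw : w ∈ S) (hw' : w' ∈ S) (a0 : A) :
    D3 y a0 u w w' = 1 := by
  by_cases h1 : w' ∈ Submodule.span E {u, w}
  · exact D3_dep c h k ht hr hS hu hw h1 a0
  by_cases h2 : w ∈ Submodule.span E {u, w'}
  · rw [D3_23 h hS hu hw hw']
    exact D3_dep c h k ht hr hS hu hw' h2 a0
  by_cases h3 : u ∈ Submodule.span E {w, w'}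
  · rw [D3_12 h hS hu hw hw', D3_23 h hS hw hu hw']
    exact D3_dep c h k ht hr hS hw hw' h3 a0
  have ti : ∀ x ∈ S, ∀ x' ∈ S, TotIso B (Submodule.span E {x, x'}) := fun x hx x' hx' z hz z' hz' =>
    hS z (span_pair_le hx hx' hz) z' (span_pair_le hx hx' hz')
  have key : ∀ f ∈ S, ∀ a ∈ S, ∀ b ∈ S, f ∉ Submodule.span E {a, b} →
      D3 y a0 f a b ∈ AS i φ (Submodule.span E {a, b}) := fun f hf a ha b hb hn =>
    D3_mem_AS c h k ht hr (ti a ha b hb) (hS f hf f hf)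
      (fun x hx => hS f hf x (span_pair_le ha hb hx)) hn (Submodule.subset_span (by simp))
      (Submodule.subset_span (by simp)) a0
  have k1 := key u hu w hw w' hw' h3
  have k2 := key w hw u hu w' hw' h2
  have k3 := key w' hw' u hu w hw h1
  rw [← D3_12 h hS hu hw hw'] at k2
  rw [← D3_12 h hS hu hw' hw, ← D3_23 h hS hu hw hw'] at k3
  refine AS_bot (fun x hx => ?_) (AS_inf c k
    (S := Submodule.span E {w, w'} ⊓ Submodule.span E {u, w'})
    (fun x hx x' hx' => ti w hw w' hw' x hx.1 x' hx'.1) (ti u hu w hw)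
    (AS_inf c k (ti w hw w' hw') (ti u hu w' hw') k1 k2) k3)
  obtain ⟨⟨m1, m2⟩, m3⟩ := hx
  obtain ⟨α, β, rfl⟩ := Submodule.mem_span_pair.1 m3
  have α0 : α = 0 := by
    by_contra α0
    exact h3 ((Submodule.smul_mem_iff _ α0).1 ((Submodule.add_mem_iff_left _
      (Submodule.smul_mem _ β (Submodule.subset_span (by simp)))).1 m1))
  rw [α0, zero_smul, zero_add] at m2 ⊢
  by_contra β0
  exact h2 ((Submodule.smul_mem_iff _ (left_ne_zero_of_smul β0)).1 m2)

theorem badd {u w w' : V} (hu : u ∈ S) (hw : w ∈ S) (hw' : w' ∈ S) (a : A) :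
    BB y u (w + w') a = BB y u w a * BB y u w' a :=
  (D3_iff h hS hu hw hw' a).1 (D3_eq_one c h k ht hr hS hu hw hw' a)

end Main

section Scal

variable [FiniteDimensional E V] [Finite E] [Finite F] [Finite G] (c : UCtx i φ L)
  (h : UPar i φ L t j s y) (k : KitA i φ L) (ht : Tc L t) (hr : R2 L t)
include c h k ht hr

/-- scalars of the small field move from one argument to the other -/
theorem bF {u w : V} (hu : B u u = 0) (hw : B w w = 0) (huw : B u w = 0) {x : F} (x0 : x ≠ 0)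
    (a : A) : BB y (i x • u) w a = BB y u (i x • w) a := by
  by_cases u0 : u = 0
  · rw [u0, smul_zero, BB_zero_left h hw, BB_zero_left h (by simp [hw])]
  by_cases hn : w ∈ E ∙ u
  · obtain ⟨d, rfl⟩ := Submodule.mem_span_singleton.1 hn
    obtain ⟨n, h1⟩ := exists_n c h (i x) d
    rw [BB_line c h hu _ _ h1, smul_smul, ← BB_line c h hu 1 (i x * d) (n := n) (by
      rw [h1, map_mul, map_one, c.qf.σ_i]; ring), one_smul]
  obtain ⟨f, f', fr⟩ := c.exists_fr2' ⟨hu, u0⟩ hw huw hn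
  obtain ⟨ε, e1, e2⟩ := c.qf.exists_norm_one
  have ε0 : ε ≠ 0 := left_ne_zero_of_mul_eq_one e1
  obtain ⟨τ, t1, -, t2, -⟩ := c.diag2 fr (a := ε) (b := σ ε) ε0 (right_ne_zero_of_mul_eq_one e1)
    (by rw [e1, map_one])
  obtain ⟨r, rfl⟩ := c.qf.sqrt x
  have r0 : i r ≠ 0 := (map_ne_zero i).2 fun e => x0 (by rw [e, sq, zero_mul])
  obtain ⟨η, n1, -, n2, -⟩ := c.diag2 fr (a := i r) (b := (i r)⁻¹) r0 (inv_ne_zero r0)
    (by rw [mul_inv_cancel₀ r0, map_one])
  obtain ⟨S, eS⟩ : ∃ S, S = Submodule.span E {u, w} := ⟨_, rfl⟩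
  have hS : TotIso B S := eS ▸ totIso_span (by simp [hu, hw, huw, c.flip huw])
  have uS : u ∈ S := eS ▸ Submodule.subset_span (by simp)
  have wS : w ∈ S := eS ▸ Submodule.subset_span (by simp)
  have nN : ∀ (g : sisom B) (d e : E), g.1 u = d • u → g.1 w = e • w → φ g ∈ N[MS y S] :=
    fun g d e g1 g2 => mem_N_MS h hS g fun z hz => by
      obtain ⟨α, β, rfl⟩ := Submodule.mem_span_pair.1 (eS ▸ hz)
      rw [map_add, map_smul, map_smul, g1, g2]
      exact S.add_mem (S.smul_mem _ (S.smul_mem _ uS)) (S.smul_mem _ (S.smul_mem _ wS))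
  have τN := nN τ _ _ t1 t2
  have ηN := nN η _ _ n1 n2
  have ab := MS_ab h hS
  have tB : ∀ (g : sisom B) (α γ : E) (ν : F), φ g * BB (TT i φ) (α • u) (γ • w) ν * (φ g)⁻¹ =
      BB (TT i φ) (α • g.1 u) (γ • g.1 w) ν := fun g α γ ν => by
    have a1 := S.smul_mem α uS
    have b1 := S.smul_mem γ wS
    have ab1 := S.add_mem a1 b1
    rw [BB, BB, ← map_smul, ← map_smul, ← map_add, ← c.TT_conj g (hS _ ab1 _ ab1),
      ← c.TT_conj g (hS _ a1 _ a1), ← c.TT_conj g (hS _ b1 _ b1)]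
    group
  have eB : ∀ (α γ : E) (ν : F), BB (TT i φ) (α • u) (γ • w) ν = EE φ w ((σ γ * i ν * α) • u) 0 :=
    fun α γ ν => by
      rw [c.BB_TT (by simp [hu]) (by simp [hw]) (by simp [c.flip huw]), c.EE_smul, zero_mul,
        smul_smul, smul_smul]
  have ηB : ∀ (α γ : E) (ν : F), Commute (φ η) (BB (TT i φ) (α • u) (γ • w) ν) := fun α γ ν =>
    mul_inv_eq_iff_eq_mul.1 (by
      rw [tB, n1, n2, smul_smul, smul_smul, eB, eB, map_mul, map_inv₀, c.qf.σ_i]
      congr 2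
      field_simp)
  have τT : ∀ (z : V) (d : E) (ν : F), B z z = 0 → τ.1 z = d • z → d * σ d = 1 →
      ⁅φ τ, TT i φ z ν⁆ = 1 := fun z d ν hz e e' => by
    rw [commutatorElement_def, c.TT_conj τ hz, e, UCtx.TT_smul z (n := 1) (by rw [map_one, e']),
      one_mul, mul_inv_cancel]
  have hA : ∀ q ∈ AS i φ S, ⁅φ η, ⁅φ τ, q⁆⁆ = 1 := by
    have le := AS_le_MS h hS
    intro q hq
    induction hq using closure_induction with
    | mem q hq =>
      obtain ⟨z, hz, ν, rfl⟩ := hq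
      obtain ⟨α, γ, rfl⟩ := Submodule.mem_span_pair.1 (eS ▸ hz)
      have a1 := S.smul_mem α uS
      have b1 := S.smul_mem γ wS
      have m1 := le (TT_mem_AS hz ν)
      have m2 := le (TT_mem_AS a1 ν)
      have m3 := le (TT_mem_AS b1 ν)
      have e : ⁅φ τ, BB (TT i φ) (α • u) (γ • w) ν⁆ = ⁅φ τ, TT i φ (α • u + γ • w) ν⁆ := by
        rw [BB, cm_mul ab τN (mul_mem m1 m2) m3, cm_mul ab τN m1 m2,
          τT _ ε ν (hS _ a1 _ a1) (by rw [map_smul, t1, smul_comm]) e1,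
          τT _ (σ ε) ν (hS _ b1 _ b1) (by rw [map_smul, t2, smul_comm])
            (by rw [c.qf.sq, mul_comm, e1]), mul_one, mul_one]
      rw [← e, commutatorElement_def (φ τ), tB, t1, t2, smul_smul, smul_smul]
      exact ((ηB _ _ ν).mul_right (ηB _ _ ν).inv_right).commutator_eq
    | one => rw [commutatorElement_one_right, commutatorElement_one_right]
    | mul q q' hq hq' e e' =>
      rw [cm_mul ab τN (le hq) (le hq'), cm_mul ab ηN (comm_mem_right τN (le hq))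
        (comm_mem_right τN (le hq')), e, e', mul_one]
    | inv q hq e => rw [cm_inv ab τN (le hq), cm_inv ab ηN (comm_mem_right τN (le hq)), e, inv_one]
  have bm : ∀ γ : E, BB y u (γ • w) a ∈ MS y S := fun γ => BB_mem uS (S.smul_mem γ wS) a
  have hR : ∀ γ : E, ⁅φ η, BB y u (γ • w) a⁆ ∈ AS i φ S := fun γ => by
    obtain ⟨ν, hν⟩ := exists_lam h a
    refine ker_AS c k ht hr hS (fun e => u0 ((Submodule.mem_bot E).1 (e ▸ uS)))
      (fun p hp => is2_of_sq (MS_sq h hS hp)) (MS_cR h hS) (AS_le_MS h hS) (t_notMem h hS uS u0)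
      (comm_mem_right ηN (bm γ)) (commutatorElement_eq_one_iff_commute.1 ?_).symm
    rw [cm_swap ab (t_mem_N h hS) ηN (comm_of_C ht.tc (c.mem η)) (bm γ),
      BB_lam h hS uS (S.smul_mem γ wS) hν, ← one_smul E u]
    exact (ηB _ _ ν).commutator_eq
  have e3 : σ ε * σ (σ ε) = 1 := by rw [c.qf.sq, mul_comm, e1]
  have hτ : ∀ γ : E, ⁅φ τ, BB y u (γ • w) a⁆ = BB y u ((γ * (σ ε ^ 2 + 1)) • w) a := fun γ => by
    rw [commutatorElement_def, BB_conj h hS uS (S.smul_mem γ wS), map_smul, t1, t2,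
      ← BB_one h hS (S.smul_mem ε uS) (S.smul_mem γ (S.smul_mem _ wS)) e3,
      inv_eq_of_mul_eq_one_right (MS_sq h hS (bm γ)), smul_smul, mul_comm (σ ε), e1, one_smul,
      ← badd c h k ht hr hS uS (S.smul_mem _ (S.smul_mem γ (S.smul_mem _ wS))) (S.smul_mem γ wS)]
    congr 1
    module
  have ne : σ ε ^ 2 + 1 ≠ 0 := fun e => e2 (by
    have h1 : σ ε = 1 := c.qf.eq_one_of_pow (k := 1) (by linear_combination e - c.qf.two)
    rwa [h1, mul_one] at e1)
  have hη : ∀ γ : E, ⁅φ η, ⁅φ η, BB y u (γ • w) a⁆⁆ = 1 := fun γ => by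
    obtain ⟨γ', rfl⟩ : ∃ γ', γ = γ' * (σ ε ^ 2 + 1) := ⟨γ / (σ ε ^ 2 + 1), by field_simp⟩
    rw [← hτ, cm_swap' ab ηN τN (bm γ'), hA _ (hR γ')]
    have b1 := S.smul_mem γ' wS
    rw [BB_conj h hS uS b1, BB_conj h hS uS b1, map_smul, map_smul, t1, t2, n1, n2,
      BB_conj h hS (S.smul_mem _ uS) (S.smul_mem _ (S.smul_mem _ wS)),
      BB_conj h hS (S.smul_mem _ uS) (S.smul_mem _ (S.smul_mem _ wS))]
    simp only [map_smul, t1, t2, n1, n2]
    rw [smul_comm ε, smul_comm (σ ε)]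
  have fin : ∀ γ : E, φ η * (φ η * BB y u (γ • w) a * (φ η)⁻¹) * (φ η)⁻¹ = BB y u (γ • w) a :=
    fun γ => by
      have h1 := (commutatorElement_eq_one_iff_commute.1 (hη γ)).eq
      have h2 := MS_sq h hS (comm_mem_right ηN (bm γ))
      obtain ⟨b, e⟩ : ∃ b, b = BB y u (γ • w) a := ⟨_, rfl⟩
      rw [← e] at h1 h2 ⊢
      calc φ η * (φ η * b * (φ η)⁻¹) * (φ η)⁻¹ = φ η * ⁅φ η, b⁆ * b * (φ η)⁻¹ := by
            simp only [commutatorElement_def]; group
        _ = ⁅φ η, b⁆ * ⁅φ η, b⁆ * b := by rw [h1]; simp only [commutatorElement_def]; group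
        _ = b := by rw [h2, one_mul]
  rw [← fin, BB_conj h hS uS (S.smul_mem _ wS), map_smul, n1, n2,
    BB_conj h hS (S.smul_mem _ uS) (S.smul_mem _ (S.smul_mem _ wS))]
  simp only [map_smul, n1, n2, smul_smul]
  rw [map_pow, sq]
  congr 1
  rw [eq_comm]
  convert one_smul E w
  field_simp

end Scal

theorem line : LineStmt.{u, v} := by
  intro F E V _ _ _ _ _ _ _ _ i σ B G _ _ φ L c k _ t A _ j s y ht hr h
  have ti : ∀ u w : V, B u u = 0 → B w w = 0 → B u w = 0 → TotIso B (Submodule.span E {u, w}) :=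
    fun u w hu hw huw => totIso_span (by simp [hu, hw, huw, c.flip huw])
  have m1 : ∀ u w : V, u ∈ Submodule.span E {u, w} := fun u w => Submodule.subset_span (by simp)
  have m2 : ∀ u w : V, w ∈ Submodule.span E {u, w} := fun u w => Submodule.subset_span (by simp)
  refine ⟨fun u w w' h1 h2 h3 h4 h5 h6 a => ?_, fun u w h1 h2 h3 x a => ?_,
    fun u w h1 h2 h3 d a => ?_, fun u hu d n hn a => ?_⟩
  · exact badd c h k ht hr (S := Submodule.span E {u, w, w'})
      (totIso_span (by simp [h1, h2, h3, h4, h5, h6, c.flip h4, c.flip h5, c.flip h6]))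
      (Submodule.subset_span (by simp)) (Submodule.subset_span (by simp))
      (Submodule.subset_span (by simp)) a
  · obtain ⟨r, rfl⟩ := c.qf.sqrt x
    by_cases r0 : r = 0
    · rw [r0, sq, zero_mul, map_zero, map_zero, zero_smul, zero_mul, BB_zero_right h h1, BB,
        y_zero h h1, y_zero h h2, y_zero h (c.iso_add h1 h2 h3), one_mul, one_mul]
    · rw [← BB_smul h (ti u w h1 h2 h3) (m1 u w) (m2 u w) (d := i r) (n := r ^ 2)
        (by rw [c.qf.σ_i, map_pow, sq]), bF c h k ht hr h1 (by simp [h2]) (by simp [h3]) r0,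
        smul_smul, map_pow, sq]
  · by_cases d0 : d = 0
    · rw [d0, map_zero, zero_smul, zero_smul, BB_zero_left h h2, BB_zero_right h h1]
    obtain ⟨x, ε, x0, e1, rfl⟩ := c.qf.polar d0
    rw [mul_smul, bF c h k ht hr (by simp [h1]) h2 (by simp [h3]) x0,
      ← BB_one h (ti u w h1 h2 h3) (Submodule.smul_mem _ ε (m1 u w))
        (Submodule.smul_mem _ (i x) (m2 u w)) (d := σ ε) (by rw [c.qf.sq, mul_comm, e1]),
      smul_smul, mul_comm (σ ε), e1, one_smul, smul_smul, map_mul, c.qf.σ_i, mul_comm]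
  · rw [← BB_line c h hu 1 d (n := n) (by rw [hn, map_one, one_mul, mul_one]), one_smul]

end Cfsg.Agent.H54V.H70.UM
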