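import Mathlib
import Cfsg.Agent.H54.VKit0
import Cfsg.Agent.H34.TwAsm1

/-!
# Coordinates on the doubled transvection groups (piece U-PAR of S3128, S3137)
-/

set_option autoImplicit false

namespace Cfsg.Agent.H54V.H14.UPar

open Cfsg.Agent.H14

open Cfsg Cfsg.Agent.H63 Cfsg.Agent.H63.SL Cfsg.Agent.H34 Cfsg.Agent.H34.TW Cfsg.Agent.H34.UM
  Cfsg.Agent.H31 Subgroup Module
open Cfsg.Agent.H27.End (mem_C comm_of_C)

universe u v

/-- an equivariant additive section, by averaging -/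
theorem avg {A : Type*} [AddCommGroup A] (h2 : ∀ a : A, a + a = 0) {F : Type*} [Field F]
    [Finite F] (hF : (2 : F) = 0) (l : A →+ F) (hl : Function.Surjective l) (H : Fˣ → A →+ A)
    (hm : ∀ x y a, H (x * y) a = H x (H y a)) (hH : ∀ x a, l (H x a) = x ^ 2 * l a) :
    ∃ p : F →+ A, (∀ a, l (p a) = a) ∧ ∀ x a, H x (p a) = p (x ^ 2 * a) := by
  classical
  have := Fintype.ofFinite F
  have : Fact (Nat.Prime 2) := ⟨Nat.prime_two⟩
  letI : Module (ZMod 2) A := AddCommGroup.zmodModule fun a => by rw [two_nsmul, h2]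
  letI : Module (ZMod 2) F := AddCommGroup.zmodModule fun a => by
    rw [two_nsmul, ← two_mul, hF, zero_mul]
  obtain ⟨s, hs⟩ := (l.toZModLinearMap 2).exists_rightInverse_of_surjective
    (LinearMap.range_eq_top.2 hl)
  have hs' : ∀ a, l (s a) = a := fun a => LinearMap.congr_fun hs a
  refine ⟨AddMonoidHom.mk' (fun a => ∑ x : Fˣ, H x⁻¹ (s (x ^ 2 * a))) fun a b => by
    simp only [mul_add, map_add, Finset.sum_add_distrib], fun a => ?_, fun y a => ?_⟩
  · have e : ∀ x : Fˣ, l (H x⁻¹ (s (x ^ 2 * a))) = a := fun x => by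
      rw [hH, hs', ← mul_assoc, ← mul_pow, Units.inv_mul, one_pow, one_mul]
    simp only [AddMonoidHom.mk'_apply, map_sum, e, Finset.sum_const, Finset.card_univ,
      nsmul_eq_mul]
    rw [Fintype.card_units, Nat.cast_pred Fintype.card_pos, FiniteField.cast_card_eq_zero]
    linear_combination (-a) * hF
  · simp only [AddMonoidHom.mk'_apply, map_sum]
    rw [← Equiv.sum_comp (Equiv.mulRight y)]
    refine Finset.sum_congr rfl fun x _ => ?_
    rw [← hm]
    simp only [Equiv.coe_mulRight, mul_inv_rev, mul_inv_cancel_left, Units.val_mul, mul_pow,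
      mul_assoc]

variable {F E V : Type v} [Field F] [Field E] [AddCommGroup V] [Module E V] {i : F →+* E}
  {σ : E ≃+* E} {B : V →ₛₗ[(σ : E →+* E)] V →ₗ[E] E} {G : Type u} [Group G] {φ : sisom B →* G}
  {L : Subgroup G} [Finite F] [Finite E] [FiniteDimensional E V] {t : G} {Xh : V → Subgroup G}

theorem mem_hat (c : UCtx i φ L) (h : UHat i φ L t 0 Xh) {v : V} (hv : Pt B v) {p : G} :
    p ∈ Xh v ↔ p ∈ HatZ L (ZV i φ v) t := by
  rw [h.mem v hv]
  simp only [HatC, HatZ, Set.mem_ofPred_eq, zero_mul, UCtx.TT_zero, c.mem_ZV hv.1]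
  refine and_congr_right fun _ => ⟨fun ⟨⟨a, h1, h2⟩, h3⟩ => ⟨h2, ⟨_, ⟨a, rfl⟩, h1⟩, ?_⟩,
    fun ⟨h2, ⟨_, ⟨a, rfl⟩, h1⟩, h3⟩ => ⟨⟨a, h1, h2⟩, fun ⟨a, e⟩ => h3 ⟨_, ⟨a, rfl⟩, e⟩⟩⟩
  rintro ⟨_, ⟨a, rfl⟩, e⟩
  exact h3 ⟨a, e⟩

theorem conj_mem (c : UCtx i φ L) (hT : Tc L t) (h : UHat i φ L t 0 Xh) {v : V} (hv : Pt B v)
    (s : sisom B) {p : G} (hp : p ∈ Xh v) : φ s * p * (φ s)⁻¹ ∈ Xh (s.1 v) := by
  rw [mem_hat c h (hv.map s), ← c.ZV_conj s hv.1]
  exact hat_conj (le_normalizer (c.mem s)) (comm_of_C hT.tc (c.mem s)).symm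
    ((mem_hat c h hv).1 hp)

theorem wd (c : UCtx i φ L) (h : UHat i φ L t 0 Xh) {v : V} (hv : Pt B v) {s s' : sisom B}
    {ε : E} (hε : ε * σ ε = 1) (e : s.1 v = ε • s'.1 v) {p : G} (hp : p ∈ Xh v) :
    φ s * p * (φ s)⁻¹ = φ s' * p * (φ s')⁻¹ := by
  have h1 : φ (s'⁻¹ * s) ∈ C[ZV i φ v] := mem_C fun z hz => by
    obtain ⟨a, rfl⟩ := (c.mem_ZV hv.1).1 hz
    apply mul_inv_eq_iff_eq_mul.1
    rw [c.TT_conj _ hv.1, mul_app, e, map_smul, inv_app,
      UCtx.TT_smul v (n := 1) (by rw [hε, map_one]), one_mul]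
  have h2 := (h.cent v hv _ ⟨c.mem _, h1⟩ p hp).eq
  rw [map_mul, map_inv] at h2
  calc φ s * p * (φ s)⁻¹ = φ s' * ((φ s')⁻¹ * φ s * p) * (φ s)⁻¹ := by group
    _ = _ := by rw [h2]; group

theorem lam_conj (c : UCtx i φ L) (hT : Tc L t) {v : V} (hv : Pt B v) (s : sisom B) {p : G}
    {a : F} (e : p * t * p⁻¹ = t * TT i φ v a) :
    φ s * p * (φ s)⁻¹ * t * (φ s * p * (φ s)⁻¹)⁻¹ = t * TT i φ (s.1 v) a := by
  have h1 := (comm_of_C hT.tc (c.mem s)).eq
  calc _ = φ s * (p * ((φ s)⁻¹ * (t * φ s)) * p⁻¹) * (φ s)⁻¹ := by group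
    _ = φ s * (p * t * p⁻¹) * (φ s)⁻¹ := by rw [h1]; group
    _ = φ s * t * TT i φ v a * (φ s)⁻¹ := by rw [e]; group
    _ = _ := by rw [← h1, ← c.TT_conj s hv.1]; group

theorem exists_p0 (c : UCtx i φ L) (hT : Tc L t) (h : UHat i φ L t 0 Xh) {v : V} (hv : Pt B v) :
    ∃ P : F → G, (∀ a, P a ∈ Xh v ∧ P a * t * (P a)⁻¹ = t * TT i φ v a) ∧
      (∀ a b, P (a + b) = P a * P b) ∧ ∀ (s : sisom B) (d : E) (n : F), s.1 v = d • v →
        i n = d * σ d → ∀ a, φ s * P a * (φ s)⁻¹ = P (n * a) := by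
  letI : CommGroup (Xh v) := { (inferInstance : Group (Xh v)) with
    mul_comm := fun a b => Subtype.ext (h.com v v hv hv hv.1 a a.2 b b.2).eq }
  have hex : ∀ p : Xh v, ∃ a, p * t * (p : G)⁻¹ = t * TT i φ v a := fun p =>
    ((h.mem v hv p).1 p.2).2.1.imp fun _ h => h.1
  choose lam hlam using hex
  have hu : ∀ (p : Xh v) a, p * t * (p : G)⁻¹ = t * TT i φ v a → lam p = a := fun p a e => by
    have h1 := mul_left_cancel ((hlam p).symm.trans e)
    have h2 := c.TT_eq_one hv (a := lam p + a) (by rw [c.TT_add hv.1, h1, c.TT_sq hv.1])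
    linear_combination h2 - a * c.qf.twoF
  have hs : ∀ x : Fˣ, ∃ s : sisom B, s.1 v = i x • v := fun x =>
    c.trans hv (hv.smul ((map_ne_zero i).2 x.ne_zero))
  choose s hs using hs
  have hx : ∀ (x : Fˣ) p, p ∈ Xh v → φ (s x) * p * (φ (s x))⁻¹ ∈ Xh v := fun x p hp => by
    have := conj_mem c hT h hv (s x) hp
    rwa [hs, mem_hat c h (hv.smul ((map_ne_zero i).2 x.ne_zero)),
      c.ZV_smul hv.1 ((map_ne_zero i).2 x.ne_zero), ← mem_hat c h hv] at this
  obtain ⟨p, h1, h2⟩ := avg (A := Additive (Xh v))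
    (fun a => Subtype.ext ((mem_hat c h hv).1 a.toMul.2).2.1) c.qf.twoF
    (AddMonoidHom.mk' (fun a => lam a.toMul) fun a b => hu _ _ (by
      have := (h.com v v hv hv hv.1 _ a.toMul.2 _ (h.le v hv (TT_mem_ZV v (lam b.toMul)))).eq
      rw [toMul_add, coe_mul, c.TT_add hv.1]
      calc _ = a.toMul * (b.toMul * t * (b.toMul : G)⁻¹) * (a.toMul : G)⁻¹ := by group
        _ = a.toMul * t * (a.toMul : G)⁻¹ * (a.toMul * TT i φ v (lam b.toMul)) *
            (a.toMul : G)⁻¹ := by rw [hlam]; group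
        _ = _ := by rw [this, hlam]; group))
    (fun a => by
      obtain ⟨p, hp, e⟩ := h.surj v hv a
      exact ⟨.ofMul ⟨p, hp⟩, hu _ _ e⟩)
    (fun x => AddMonoidHom.mk' (fun a => .ofMul ⟨_, hx x _ a.toMul.2⟩) fun a b =>
      Subtype.ext (by
        show φ (s x) * (a.toMul * b.toMul) * (φ (s x))⁻¹ =
          φ (s x) * a.toMul * (φ (s x))⁻¹ * (φ (s x) * b.toMul * (φ (s x))⁻¹)
        group))
    (fun x y a => Subtype.ext (by
      have := wd c h hv (s := s (x * y)) (s' := s x * s y) (ε := 1) (by simp)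
        (by rw [mul_app, hs, hs, map_smul, hs, one_smul, smul_smul, Units.val_mul, map_mul,
          mul_comm]) a.toMul.2
      refine this.trans ?_
      show _ = φ (s x) * (φ (s y) * a.toMul * (φ (s y))⁻¹) * (φ (s x))⁻¹
      rw [map_mul]; group))
    (fun x a => hu _ _ (by
      refine (lam_conj c hT hv (s x) (hlam a.toMul)).trans ?_
      rw [hs, UCtx.TT_smul v (n := (x : F) ^ 2) (by rw [c.qf.σ_i, map_pow, sq])]
      rfl))
  refine ⟨fun a => (p a).toMul, fun a => ⟨(p a).toMul.2, ?_⟩, fun a b => by simp only [map_add]; rfl,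
    fun r d n hr hn a => ?_⟩
  · have := hlam (p a).toMul
    rwa [show lam (p a).toMul = a from h1 a] at this
  · have hd : d ≠ 0 := fun e => (hv.map r).2 (by rw [hr, e, zero_smul])
    obtain ⟨x, ε, hx0, hε, rfl⟩ := c.qf.polar hd
    have e : n = x ^ 2 := i.injective (by
      rw [hn, map_mul, c.qf.σ_i, map_pow]; linear_combination (i x) ^ 2 * hε)
    rw [wd c h hv (s' := s (Units.mk0 x hx0)) hε (by rw [hr, hs, smul_smul, mul_comm]; rfl)
      (p a).toMul.2, e]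
    exact congrArg (fun z : Additive (Xh v) => (z.toMul : G)) (h2 (Units.mk0 x hx0) a)

theorem exists_P (c : UCtx i φ L) (hT : Tc L t) (h : UHat i φ L t 0 Xh) :
    ∃ P : V → F → G, (∀ a, P 0 a = 1) ∧
      (∀ v, Pt B v → ∀ a, P v a ∈ Xh v ∧ P v a * t * (P v a)⁻¹ = t * TT i φ v a) ∧
      (∀ v a b, P v (a + b) = P v a * P v b) ∧
      (∀ (g : sisom B) v, Pt B v → ∀ a, φ g * P v a * (φ g)⁻¹ = P (g.1 v) a) ∧
      ∀ v, Pt B v → ∀ (d : E) n, d ≠ 0 → i n = d * σ d → ∀ a, P (d • v) a = P v (n * a) := by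
  classical
  obtain ⟨v0, h0⟩ := c.exists_pt
  obtain ⟨P, h1, h2, h3⟩ := exists_p0 c hT h h0
  choose s hs using fun (w : V) (hw : Pt B w) => c.trans h0 hw
  let Q : V → F → G := fun w a =>
    if hw : Pt B w then φ (s w hw) * P a * (φ (s w hw))⁻¹ else 1
  have hQ : ∀ (r : sisom B) a, Q (r.1 v0) a = φ r * P a * (φ r)⁻¹ := fun r a =>
    (dif_pos (h0.map r)).trans (wd c h h0 (ε := 1) (by simp) (by rw [hs, one_smul]) (h1 a).1)
  refine ⟨Q, fun a => dif_neg fun h => h.2 rfl, fun v hv a => ?_, fun v a b => ?_,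
    fun g v hv a => ?_, fun v hv d n hd hn a => ?_⟩
  · obtain ⟨r, rfl⟩ := c.trans h0 hv
    rw [hQ]
    exact ⟨conj_mem c hT h h0 r (h1 a).1, lam_conj c hT h0 r (h1 a).2⟩
  · by_cases hv : Pt B v
    · obtain ⟨r, rfl⟩ := c.trans h0 hv
      rw [hQ, hQ, hQ, h2]; group
    · simp only [Q, dif_neg hv, one_mul]
  · obtain ⟨r, rfl⟩ := c.trans h0 hv
    rw [← mul_app, hQ, hQ, map_mul]; group
  · obtain ⟨r, rfl⟩ := c.trans h0 hv
    obtain ⟨r', hr'⟩ := c.trans h0 (h0.smul hd)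
    rw [← map_smul, ← hr', ← mul_app, hQ, hQ, ← h3 r' d n hr' hn, map_mul]; group

theorem par : ParStmt.{u, v} := by
  intro F E V _ _ _ _ _ _ _ _ i σ B G _ _ φ L c _ _ t hT _ Xh h
  obtain ⟨P, p0, p1, p2, p3, p4⟩ := exists_P c hT h
  obtain ⟨ω, hω⟩ := c.qf.tr
  choose a b hab using c.qf.exists_coord hω
  have hu : ∀ β x y, β = i x + i y * ω → a β = x ∧ b β = y := fun β x y e => by
    have e1 := (hab β).symm.trans e
    have e2 := congrArg σ e1
    simp only [map_add, map_mul, c.qf.σ_i, hω] at e2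
    have e3 : b β = y := i.injective (by linear_combination e2 - e1)
    rw [e3] at e1
    exact ⟨i.injective (add_right_cancel e1), e3⟩
  have pz : ∀ v, P v 0 = 1 := fun v => by
    have := p2 v 0 0
    rwa [add_zero, left_eq_mul] at this
  have hc : ∀ v, B v v = 0 → v = 0 ∨ Pt B v := fun v hv => (em (v = 0)).imp id fun h => ⟨hv, h⟩
  have y0 : ∀ β, TT i φ 0 (a β) * P 0 (b β) = 1 := fun β => by
    rw [UCtx.TT_zero_left, p0, one_mul]
  have hm : ∀ v, Pt B v → ∀ β, TT i φ v (a β) * P v (b β) ∈ Xh v := fun v hv β =>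
    mul_mem (h.le v hv (TT_mem_ZV _ _)) (p1 v hv _).1
  have ht : t⁻¹ = t := inv_eq_of_mul_eq_one_right (by rw [← sq, ← hT.t2, pow_orderOf_eq_one])
  refine ⟨fun v β => TT i φ v (a β) * P v (b β), c.qf.two, c.qf.sq, c.qf.fix, c.qf.tr, c.qf.card,
    y0, fun v hv α β => ?_, fun v hv β e => ?_, fun v hv x => ?_, fun v hv β => ?_,
    fun v hv d n hn β => ?_, fun g v hv β => ?_, fun v w hv hw e α β => ?_, fun v hv p => ?_,
    fun k hk hkt ho v hv β => ?_⟩
  · rcases hc v hv with rfl | hp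
    · simp only [y0, one_mul]
    obtain ⟨e1, e2⟩ := hu (α + β) (a α + a β) (b α + b β) (by
      rw [map_add, map_add]; linear_combination hab α + hab β)
    have := (h.com v v hp hp hv _ (h.le v hp (TT_mem_ZV v (a β))) _ (p1 v hp (b α)).1).eq
    simp only [e1, e2, c.TT_add hv, p2]
    rw [mul_assoc, ← mul_assoc (TT i φ v (a β)), this]; group
  · have e1 : P v (b β) = (TT i φ v (a β))⁻¹ := eq_inv_of_mul_eq_one_right e
    have e2 := (p1 v hv (b β)).2
    rw [e1, ← (comm_of_C hT.tc (inv_mem (c.TT_mem hv.1 _))).eq, mul_inv_cancel_right,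
      left_eq_mul] at e2
    have e3 := c.TT_eq_one hv e2
    simp only [e3, pz, mul_one] at e
    rw [hab β, e3, c.TT_eq_one hv e]; simp
  · obtain ⟨e1, e2⟩ := hu (i x) x 0 (by simp)
    simp only [e1, e2, pz, mul_one]
  · rcases hc v hv with rfl | hp
    · simp only [y0, mul_one, mul_inv_cancel]
    obtain ⟨e1, e2⟩ := hu (σ β) (a β + b β) (b β) (by
      conv_lhs => rw [hab β]
      simp only [map_add, map_mul, c.qf.σ_i, hω]; ring)
    simp only [e1, e2, c.TT_add hv]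
    calc _ = t * TT i φ v (a β) * (P v (b β) * t * (P v (b β))⁻¹) * P v (b β) := by
          rw [ht]; group
      _ = TT i φ v (a β) * (t * t⁻¹) * TT i φ v (b β) * P v (b β) := by
          rw [(p1 v hp _).2, (comm_of_C hT.tc (c.TT_mem hv _)).eq, ht]; group
      _ = _ := by group
  · rcases hc v hv with rfl | hp
    · simp only [smul_zero, y0]
    obtain ⟨e1, e2⟩ := hu (i n * β) (n * a β) (n * b β) (by
      rw [map_mul, map_mul]; linear_combination i n * hab β)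
    simp only [e1, e2, UCtx.TT_smul v hn]
    by_cases hd : d = 0
    · have : n = 0 := i.injective (by rw [hn, hd, zero_mul, map_zero])
      rw [hd, zero_smul, p0, this, zero_mul, zero_mul, pz]
    · rw [p4 v hp d n hd hn]
  · rcases hc v hv with rfl | hp
    · simp only [map_zero, y0, mul_one, mul_inv_cancel]
    simp only [← c.TT_conj g hv, ← p3 g v hp]; group
  · rcases hc v hv with rfl | hp
    · simp only [y0]; exact Commute.one_left _
    rcases hc w hw with rfl | hp'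
    · simp only [y0]; exact Commute.one_right _
    exact h.com v w hp hp' e _ (hm v hp α) _ (hm w hp' β)
  · rw [← mem_hat c h hv]
    refine ⟨fun hp => ?_, fun ⟨β, e⟩ => e ▸ hm v hv β⟩
    obtain ⟨y, hy, -⟩ := ((h.mem v hv p).1 hp).2.1
    obtain ⟨x, hx⟩ := (c.mem_ZV hv.1).1 (h.fix v hv ((P v y)⁻¹ * p)
      (mul_mem (inv_mem (p1 v hv y).1) hp) (by
        apply mul_inv_eq_iff_eq_mul.1
        calc _ = (P v y)⁻¹ * (p * t * p⁻¹) * P v y := by group
          _ = t := by rw [hy, ← (p1 v hv y).2]; group))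
    obtain ⟨e1, e2⟩ := hu _ x y rfl
    refine ⟨i x + i y * ω, ?_⟩
    simp only [e1, e2]
    rw [(h.com v v hv hv hv.1 _ (h.le v hv (TT_mem_ZV v x)) _ (p1 v hv y).1).eq, ← hx]; group
  · rcases hc v hv with rfl | hp
    · simp only [y0]; exact Commute.one_right _
    exact h.odd k hk hkt ho v hp _ (hm v hp β)

end Cfsg.Agent.H54V.H14.UPar
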