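import Cfsg.Agent.H54.VQh1

/-! Project UM: the commutator map of the doubled Heisenberg group. -/

set_option autoImplicit false
set_option linter.unusedSectionVars false

namespace Cfsg.Agent.H54V.H87.UQh

open Cfsg.Agent.H87

open Cfsg Cfsg.Agent.H63 Cfsg.Agent.H63.SL Cfsg.Agent.H34 Cfsg.Agent.H34.TW Cfsg.Agent.H34.UM
  Cfsg.Agent.H31 Subgroup Module
open Cfsg.Agent.H27.End (mem_C comm_of_C eq_one_of_is2 is2_of_sq mem_C1)
open scoped commutatorElement

universe u v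

variable {F E V : Type v} [Field F] [Field E] [AddCommGroup V] [Module E V] {i : F →+* E}
  {σ : E ≃+* E} {B : V →ₛₗ[(σ : E →+* E)] V →ₗ[E] E} {G : Type u} [Group G] {φ : sisom B →* G}
  {L : Subgroup G} {t : G} {A : Type v} [CommRing A] {j : F →+* A} {s : A ≃+* A} {y : V → A → G}
  {v u w u' w' : V} {ω : A}

/-- All hypotheses. -/
structure Cx (i : F →+* E) (φ : sisom B →* G) (L : Subgroup G) (t : G) (j : F →+* A)
    (s : A ≃+* A) (y : V → A → G) (ω : A) : Prop where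
  c : UCtx i φ L
  ka : KitA i φ L
  ht : Tc L t
  r2 : R2 L t
  P : UPar i φ L t j s y
  U : ULine i B j y
  hω : s ω = ω + 1

/-- An isotropic vector orthogonal to `v`. -/
structure Ad (B : V →ₛₗ[(σ : E →+* E)] V →ₗ[E] E) (v u : V) : Prop where
  iso : B u u = 0
  o : B v u = 0

theorem Ad.smul (h : Ad B v u) (d : E) : Ad B v (d • u) :=
  ⟨isotropic_smul h.iso d, by rw [sm_right, h.o, mul_zero]⟩

theorem Ad.map (h : Ad B v u) (g : sisom B) : Ad B (g.1 v) (g.1 u) :=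
  ⟨by rw [iso_map, h.iso], by rw [iso_map, h.o]⟩

/-- The basic commutator. -/
def KK (y : V → A → G) (ω : A) (v u w : V) : G := ⁅BB y u v ω, BB y w v ω⁆

variable [FiniteDimensional E V] [Finite E] [Finite G] (X : Cx i φ L t j s y ω)
include X

namespace Cx

theorem cm (hv : Pt B v) (hu : Ad B v u) (hw : Ad B v w) (a a' : A) :
    ∃ γ, ⁅BB y u v a, BB y w v a'⁆ = y v γ := by
  obtain ⟨n, hn⟩ := X.c.qf.exists_trace (B u w)
  obtain ⟨b, hb⟩ := exists_tr X.P a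
  obtain ⟨b', hb'⟩ := exists_tr X.P a'
  exact (comm_mem X.c X.P X.U X.ka X.ht X.r2 hv hu.iso hu.o hw.iso hw.o hn a a' hb hb').imp
    fun _ h => h.1

theorem cc (hv : Pt B v) (hu : Ad B v u) (hw : Ad B v w) (hu' : Ad B v u') (a a' a'' : A) :
    Commute (BB y u' v a'') ⁅BB y u v a, BB y w v a'⁆ := by
  obtain ⟨γ, e⟩ := X.cm hv hu hw a a'
  exact e ▸ b_y X.c X.P hv.1 hu'.iso hu'.o _ _

theorem K_s (hv : Pt B v) (hu : Ad B v u) (hw : Ad B v w) {n : F} (hn : i n = B u w + σ (B u w))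
    {γ : A} (e : KK y ω v u w = y v γ) : s γ = γ + j n := by
  obtain ⟨γ', e1, e2⟩ := comm_mem X.c X.P X.U X.ka X.ht X.r2 hv hu.iso hu.o hw.iso hw.o hn ω ω
    (b := 1) (b' := 1) (by rw [map_one, X.hω]) (by rw [map_one, X.hω])
  rw [yinj X.P hv (e.symm.trans e1), e2, X.hω, map_one]
  linear_combination j n * ω * X.P.two

theorem K_symm (hv : Pt B v) (hu : Ad B v u) (hw : Ad B v w) : KK y ω v u w = KK y ω v w u := by
  obtain ⟨γ, e⟩ := X.cm hv hu hw ω ω
  rw [KK, KK, ← commutatorElement_inv (BB y u v ω), e, yinv X.P hv.1]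

theorem K_add (hv : Pt B v) (hu : Ad B v u) (hw : Ad B v w) (hw' : Ad B v w') (h : B w w' = 0) :
    KK y ω v u (w + w') = KK y ω v u w * KK y ω v u w' := by
  rw [KK, b_addl X.c X.P X.U hv.1 hw.iso hw.o hw'.iso hw'.o h, mulR (X.cc hv hu hw' hw _ _ _)]
  rfl

theorem K_eqv (g : sisom B) (hv : B v v = 0) (hu : Ad B v u) (hw : Ad B v w) :
    φ g * KK y ω v u w * (φ g)⁻¹ = KK y ω (g.1 v) (g.1 u) (g.1 w) := by
  rw [KK, conj_comm, b_eqv X.c X.P g hv hu.iso hu.o, b_eqv X.c X.P g hv hw.iso hw.o, KK]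

theorem K_fix (g : sisom B) (hv : Pt B v) (hg : g.1 v = v) (hu : Ad B v u) (hw : Ad B v w) :
    KK y ω v (g.1 u) (g.1 w) = KK y ω v u w := by
  obtain ⟨γ, e⟩ := X.cm hv hu hw ω ω
  have := X.K_eqv g hv.1 hu hw
  rw [KK, e, X.P.eqv g v hv.1, hg] at this
  rw [← this, KK, e]

theorem K_mov (hv : B v v = 0) (hu : Ad B v u) (hw : Ad B v w) (d : E) :
    KK y ω (d • v) u w = KK y ω v (σ d • u) (σ d • w) := by
  rw [KK, KK, b_mov X.c X.P X.U hv hu.iso hu.o, b_mov X.c X.P X.U hv hw.iso hw.o]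

theorem frame {v' e f : V} (h : Fr2 B v v' e f) : ∃ μ, s μ = μ + 1 ∧ ∀ (α β : E) (n : F),
    i n = σ α * β + σ (σ α * β) → KK y ω v (α • e) (β • f) = y v (j n * μ) := by
  have q := X.c.qf
  have hv : Pt B v := ⟨h.ee, fun e0 => by simpa [e0] using h.ef⟩
  have he : Ad B v e := ⟨h.ee', h.o1⟩
  have hf : Ad B v f := ⟨h.ff', h.o2⟩
  choose g hg using fun α β : E => X.cm hv (he.smul α) (hf.smul β) ω ω
  replace hg : ∀ α β, KK y ω v (α • e) (β • f) = y v (g α β) := hg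
  have diag : ∀ a b : E, a ≠ 0 → b ≠ 0 → σ (a * b) = a * b → ∀ m, i m = a * σ a → ∀ α β,
      g (σ a * b * α) (σ a * (σ b)⁻¹ * β) = j m * g α β := fun a b ha hb hab m hm α β => by
    obtain ⟨r, r1, -, r2, r3, -⟩ := X.c.diag2 h ha hb hab
    have := X.K_eqv r hv.1 (he.smul α) (hf.smul β)
    rw [hg, X.P.eqv r v hv.1, map_smul, map_smul, r1, r2, r3, X.P.smul v hv.1 a m hm,
      X.K_mov hv.1 ((he.smul _).smul _) ((hf.smul _).smul _), smul_smul, smul_smul, smul_smul,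
      smul_smul, hg] at this
    rw [yinj X.P hv this]
    congr 1 <;> ring
  have add : ∀ α β β', g α (β + β') = g α β + g α β' := fun α β β' => yinj X.P hv (by
    rw [X.P.add v hv.1, ← hg, ← hg, ← hg, add_smul, X.K_add hv (he.smul _) (hf.smul _) (hf.smul _)
      (by rw [sm_left, sm_right, h.ff', mul_zero, mul_zero])])
  have zero : ∀ α, g α 0 = 0 := fun α => by simpa using add α 0 0
  have swap : ∀ α β, g α β = g β α := fun α β => yinj X.P hv (by
    obtain ⟨r, r1, r2, r3⟩ := X.c.swap1 h.ee' h.ff' h.ef'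
    rw [← hg, ← hg, ← X.K_fix r hv (r3 v (X.c.flip h.o1) (X.c.flip h.o2)) (he.smul _) (hf.smul _),
      map_smul, map_smul, r1, r2, X.K_symm hv (hf.smul _) (he.smul _)])
  have lin : ∀ x β, g 1 (i x * β) = j x * g 1 β := fun x β => by
    obtain ⟨r, rfl⟩ := q.sqrt x
    rcases eq_or_ne r 0 with rfl | r0
    · simp [zero]
    have r1 : i r ≠ 0 := by simpa using r0
    rw [← diag (i r) (i r)⁻¹ r1 (inv_ne_zero r1) (by rw [mul_inv_cancel₀ r1, map_one]) (r ^ 2)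
      (by rw [q.σ_i, map_pow, pow_two]) 1 β, map_inv₀, q.σ_i, inv_inv, mul_inv_cancel₀ r1, one_mul,
      map_pow, pow_two]
  have red : ∀ α β, g α β = g 1 (σ α * β) := fun α β => by
    obtain ⟨κ, rfl⟩ := H35.NF.exists_sqrt q.two α
    rcases eq_or_ne κ 0 with rfl | k0
    · rw [mul_zero, swap, zero, map_zero, zero_mul, zero]
    have k1 : σ κ ≠ 0 := by simpa using k0
    obtain ⟨m, hm⟩ := q.exists_norm κ
    have := diag (σ κ) κ k1 k0 (by rw [map_mul, q.sq, mul_comm]) m (by rw [hm, q.sq, mul_comm]) 1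
      (σ κ * κ⁻¹ * β)
    rw [← lin, q.sq, hm] at this
    convert this using 2
    · ring
    · field_simp
    · rw [map_mul]; field_simp
  have tr0 : ∀ x, g 1 (i x) = 0 := fun x => by
    obtain ⟨β, hβ⟩ := q.exists_tr x
    rw [← hβ, add, swap 1 β, red β 1, mul_one, aself X.P]
  obtain ⟨ω₀, h₀⟩ := q.tr
  refine ⟨g 1 ω₀, ?_, fun α β n hn => ?_⟩
  · rw [X.K_s hv (he.smul 1) (hf.smul ω₀) (n := 1) (by
      rw [one_smul, sm_right, h.ef', mul_one, h₀, map_one, ← add_assoc, q.add_self, zero_add])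
      (hg 1 ω₀), map_one]
  · obtain ⟨x, z, e⟩ := q.exists_coord h₀ (σ α * β)
    have : z = n := i.injective (by
      rw [hn, e, map_add, map_mul, q.σ_i, q.σ_i, h₀]
      linear_combination -(i x + i z * ω₀) * q.two)
    rw [hg, red, e, add, tr0, lin, zero_add, this]

omit [Finite G] in
theorem eichler (hu : Ad B v u) (hw : Ad B v w) (hw' : Ad B v w') (h0 : B u w ≠ 0)
    (h : B u w = B u w') : ∃ g : sisom B, g.1 v = v ∧ g.1 u = u ∧ g.1 w = w' := by
  have c := X.c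
  have h1 : σ (B u w) ≠ 0 := by simpa using h0
  have h2 : B u ((B u w)⁻¹ • (w' + w)) = 0 := by
    rw [sm_right, map_add, ← h, c.qf.add_self, mul_zero]
  obtain ⟨g, hg, -⟩ := c.ee (w := (B u w)⁻¹ • (w' + w)) (d := B w' w / (B u w * σ (B u w))) hu.iso h2
    (by
      simp only [sm_left, sm_right, map_add, LinearMap.add_apply, hw.iso, hw'.iso, map_div₀,
        map_mul, map_inv₀, c.qf.sq, c.symm w' w]
      field_simp
      ring)
  refine ⟨g, ?_, ?_, ?_⟩
  · simp [hg, c.flip hu.o, c.flip hw.o, c.flip hw'.o]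
  · rw [hg, hu.iso, c.flip h2]; simp
  · rw [hg, smul_smul, mul_inv_cancel₀ h0, one_smul, sm_left, map_add, LinearMap.add_apply, hw.iso,
      add_zero, map_inv₀, show B w' w / (B u w * σ (B u w)) * B u w = (σ (B u w))⁻¹ * B w' w by
        field_simp, add_assoc, c.add_self, add_zero, add_left_comm, c.add_self, add_zero]

theorem at_pt (hv : Pt B v) : ∃ μ, s μ = μ + 1 ∧ ∀ u w, Ad B v u → Ad B v w → ∀ n : F,
    i n = B u w + σ (B u w) → KK y ω v u w = y v (j n * μ) := by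
  have c := X.c
  obtain ⟨v', h1, h2⟩ := c.hyp hv
  obtain ⟨e, f, h⟩ := c.exists_fr2 hv.1 h1 h2
  obtain ⟨μ, hμ, k⟩ := X.frame h
  have he : Ad B v e := ⟨h.ee', h.o1⟩
  have hf : Ad B v f := ⟨h.ff', h.o2⟩
  let OK : V → V → Prop := fun u w => ∀ n : F, i n = B u w + σ (B u w) →
    KK y ω v u w = y v (j n * μ)
  have sym : ∀ u w, Ad B v u → Ad B v w → OK u w → OK w u := fun u w hu hw h n hn => by
    rw [X.K_symm hv hw hu, h n (by rw [hn, c.symm, c.symm, add_comm])]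
  have zer : ∀ u w, Ad B v u → Ad B v w → B u w = 0 → OK u w := fun u w hu hw h n hn => by
    rw [h, map_zero, add_zero, map_eq_zero] at hn
    rw [hn, map_zero, zero_mul, y0 X.P hv.1]
    exact (b_com c X.P hv.1 hu.iso hu.o hw.iso hw.o h _ _).commutator_eq
  let good : V → Prop := fun u => ∀ (α : E) w, Ad B v w → OK (α • u) w
  have step : ∀ u x, Ad B v u → Ad B v x → B u x ≠ 0 → (∀ α β : E, OK (α • u) (β • x)) → good u :=
    fun u x hu hx h0 h α w hw => by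
      rcases eq_or_ne (B u w) 0 with e0 | e0
      · exact zer _ _ (hu.smul α) hw (by rw [sm_left, e0, mul_zero])
      have e1 : B u w = B u ((B u w / B u x) • x) := by rw [sm_right, div_mul_cancel₀ _ h0]
      obtain ⟨g, g1, g2, g3⟩ := X.eichler hu hw (hx.smul _) e0 e1
      intro n hn
      rw [← X.K_fix g hv g1 (hu.smul α) hw, map_smul, g2, g3]
      exact h _ _ n (by rw [hn, sm_left, sm_left, ← e1])
  have nxt : ∀ u w, Ad B v u → Ad B v w → B u w ≠ 0 → good u → good w := fun u w hu hw h0 h =>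
    step w u hw hu (fun e => h0 (c.flip e)) fun α β =>
      sym _ _ (hu.smul β) (hw.smul α) (h β _ (hw.smul α))
  have ge : good e := step e f he hf (by rw [h.ef']; exact one_ne_zero) fun α β n hn =>
    k α β n (by rw [hn, sm_left, sm_right, h.ef', mul_one])
  have gf : good f := nxt e f he hf (by rw [h.ef']; exact one_ne_zero) ge
  refine ⟨μ, hμ, fun u w hu hw => ?_⟩
  have l : good u → OK u w := fun h => by simpa using h 1 w hw
  have r : good w → OK u w := fun h => sym _ _ hw hu (by simpa using h 1 u hu)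
  by_cases e0 : B u w = 0
  · exact zer u w hu hw e0
  by_cases e1 : B e u = 0
  swap; · exact l (nxt e u he hu e1 ge)
  by_cases e2 : B f u = 0
  swap; · exact l (nxt f u hf hu e2 gf)
  by_cases e3 : B e w = 0
  swap; · exact r (nxt e w he hw e3 ge)
  have hx : Ad B v (e + u) := ⟨c.iso_add he.iso hu.iso e1, by simp [he.o, hu.o]⟩
  exact r (nxt _ w hx hw (by simpa [e3] using e0)
    (nxt f _ hf hx (by simp [e2, c.flip1 h.ef']) gf))

theorem all : ∃ μ, s μ = μ + 1 ∧ ∀ v, Pt B v → ∀ u w, Ad B v u → Ad B v w → ∀ n : F,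
    i n = B u w + σ (B u w) → KK y ω v u w = y v (j n * μ) := by
  obtain ⟨v₀, h₀⟩ := X.c.exists_pt
  obtain ⟨μ, hμ, k⟩ := X.at_pt h₀
  refine ⟨μ, hμ, fun v hv u w hu hw n hn => ?_⟩
  obtain ⟨g, hg⟩ := X.c.trans hv h₀
  have := X.K_eqv g hv.1 hu hw
  rw [hg, k _ _ (hg ▸ hu.map g) (hg ▸ hw.map g) n (by rw [iso_map, hn]), ← hg,
    ← X.P.eqv g v hv.1] at this
  simpa using this

theorem gen_comm {μ : A} (k : ∀ v, Pt B v → ∀ u w, Ad B v u → Ad B v w → ∀ n : F,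
    i n = B u w + σ (B u w) → KK y ω v u w = y v (j n * μ)) (hv : Pt B v) (hu : Ad B v u)
    (hw : Ad B v w) {n : F} (hn : i n = B u w + σ (B u w)) (x z x' z' : F) :
    ⁅BB y u v (j x + j z * ω), BB y w v (j x' + j z' * ω)⁆ =
      y v (j n * (j x * j x' + (j x * j z' + j z * j x') * ω + j z * j z' * μ)) := by
  have c := X.c
  have h1 := k v hv _ _ (hu.smul (i z)) (hw.smul (i z')) (n * z * z') (by
    rw [sm_left, sm_right, map_mul, map_mul, map_mul, map_mul, hn, c.qf.σ_i, c.qf.σ_i, c.qf.σ_i]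
    ring)
  rw [KK, b_sc c X.P X.U hv.1 hu.iso hu.o, b_sc c X.P X.U hv.1 hw.iso hw.o] at h1
  rw [b_add c X.P hv.1 hw.iso hw.o, mulR (X.cc hv hu hw hw _ _ _),
    cR c X.P X.U hv.1 hu.iso hu.o hw.iso hw.o hn, b_add c X.P hv.1 hu.iso hu.o,
    mulL (X.cc hv hu hw hu _ _ _), h1, cL c X.P X.U hv.1 hu.iso hu.o hw.iso hw.o hn,
    ← X.P.add v hv.1, ← X.P.add v hv.1, map_mul, map_mul]
  congr 1
  ring

theorem qh_y (hv : Pt B v) {d : G} (hd : d ∈ QH B y v) (a : A) : Commute d (y v a) := by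
  induction hd using closure_induction with
  | mem g h =>
    rcases h with ⟨u, h1, h2, a', rfl⟩ | ⟨a', rfl⟩
    exacts [b_y X.c X.P hv.1 h1 h2 _ _, yy X.P hv.1 _ _]
  | one => exact Commute.one_left _
  | mul _ _ _ _ h h' => exact h.mul_left h'
  | inv _ _ h => exact h.inv_left

theorem y_qh (a : A) : y v a ∈ QH B y v := subset_closure (.inr ⟨a, rfl⟩)

theorem qh_b (hv : Pt B v) (hu : Ad B v u) (a : A) {d : G} (hd : d ∈ QH B y v) :
    ∃ γ, ⁅d, BB y u v a⁆ = y v γ := by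
  induction hd using closure_induction with
  | mem g h =>
    rcases h with ⟨w, h1, h2, a', rfl⟩ | ⟨a', rfl⟩
    · exact X.cm hv ⟨h1, h2⟩ hu _ _
    · exact ⟨0, by rw [y0 X.P hv.1, (b_y X.c X.P hv.1 hu.iso hu.o _ _).symm.commutator_eq]⟩
  | one => exact ⟨0, by rw [y0 X.P hv.1, commutatorElement_one_left]⟩
  | mul p q hp _ h h' =>
    obtain ⟨γ, e⟩ := h
    obtain ⟨γ', e'⟩ := h'
    exact ⟨γ' + γ, by rw [mulL (e' ▸ X.qh_y hv hp γ'), e, e', X.P.add v hv.1]⟩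
  | inv p hp h =>
    obtain ⟨γ, e⟩ := h
    refine ⟨γ, ?_⟩
    calc ⁅p⁻¹, BB y u v a⁆ = p⁻¹ * ⁅p, BB y u v a⁆⁻¹ * p := by
          simp only [commutatorElement_def]; group
      _ = _ := by rw [e, yinv X.P hv.1, (X.qh_y hv hp γ).inv_left.eq, inv_mul_cancel_right]

theorem qh_qh (hv : Pt B v) {d d' : G} (hd : d ∈ QH B y v) (hd' : d' ∈ QH B y v) :
    ∃ γ, ⁅d, d'⁆ = y v γ := by
  induction hd' using closure_induction with
  | mem g h =>
    rcases h with ⟨w, h1, h2, a', rfl⟩ | ⟨a', rfl⟩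
    · exact X.qh_b hv ⟨h1, h2⟩ _ hd
    · exact ⟨0, by rw [y0 X.P hv.1, (X.qh_y hv hd _).commutator_eq]⟩
  | one => exact ⟨0, by rw [y0 X.P hv.1, commutatorElement_one_right]⟩
  | mul p q hp _ h h' =>
    obtain ⟨γ, e⟩ := h
    obtain ⟨γ', e'⟩ := h'
    exact ⟨γ + γ', by rw [mulR (e' ▸ X.qh_y hv hp γ'), e, e', X.P.add v hv.1]⟩
  | inv p hp h =>
    obtain ⟨γ, e⟩ := h
    refine ⟨γ, ?_⟩
    calc ⁅d, p⁻¹⁆ = p⁻¹ * ⁅d, p⁆⁻¹ * p := by simp only [commutatorElement_def]; group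
      _ = _ := by rw [e, yinv X.P hv.1, (X.qh_y hv hp γ).inv_left.eq, inv_mul_cancel_right]

theorem qh_sq (hv : Pt B v) {d : G} (hd : d ∈ QH B y v) : ∃ γ, d * d = y v γ := by
  induction hd using closure_induction with
  | mem g h =>
    rcases h with ⟨w, h1, h2, a', rfl⟩ | ⟨a', rfl⟩
    · exact ⟨0, by rw [y0 X.P hv.1, b_sq X.c X.P hv.1 h1 h2]⟩
    · exact ⟨0, by rw [y0 X.P hv.1, y2 X.P hv.1]⟩
  | one => exact ⟨0, by rw [y0 X.P hv.1, mul_one]⟩
  | mul p q hp hq h h' =>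
    obtain ⟨γ, e⟩ := h
    obtain ⟨γ', e'⟩ := h'
    obtain ⟨δ, e''⟩ := X.qh_qh hv (inv_mem hp) hq
    refine ⟨γ + δ + γ', ?_⟩
    rw [X.P.add v hv.1, X.P.add v hv.1, ← e, ← e', ← e'', commutatorElement_def]
    group
  | inv p hp h =>
    obtain ⟨γ, e⟩ := h
    exact ⟨γ, by rw [← mul_inv_rev, e, yinv X.P hv.1]⟩

theorem qh_is2 (hv : Pt B v) {d : G} (hd : d ∈ QH B y v) : Is2 d := by
  obtain ⟨γ, e⟩ := X.qh_sq hv hd
  exact ⟨2, by rw [show (2 : ℕ) ^ 2 = 2 * 2 from rfl, pow_mul, pow_two, pow_two, e, y2 X.P hv.1]⟩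

theorem Q_le (kb : KitB i φ L) (hv : Pt B v) : QV φ v ≤ QH B y v := by
  rw [kb.qgen v hv]
  refine sup_le ((closure_le _).2 ?_) fun g hg => ?_
  · rintro _ ⟨x, h1, h2, rfl⟩
    exact subset_closure (.inl ⟨x, h1, h2, j 1, (b_res X.c X.P hv.1 h1 h2 1).symm⟩)
  · obtain ⟨a, rfl⟩ := (X.c.mem_ZV hv.1).1 hg
    exact X.P.res v hv.1 a ▸ X.y_qh _

theorem qh_t (kb : KitB i φ L) (hv : Pt B v) {d : G} (hd : d ∈ QH B y v) :
    ∃ g ∈ QV φ v, ∃ γ, ⁅d, t⁆ = g * y v γ := by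
  have cj : ∀ p ∈ QH B y v, ∀ g ∈ QV φ v, ∀ γ, ∃ δ, p * (g * y v γ) * p⁻¹ = g * y v δ :=
    fun p hp g hg γ => by
      obtain ⟨δ, e⟩ := X.qh_qh hv hp (X.Q_le kb hv hg)
      refine ⟨δ + γ, ?_⟩
      calc _ = ⁅p, g⁆ * g * (p * y v γ * p⁻¹) := by simp only [commutatorElement_def]; group
        _ = _ := by
          rw [e, (X.qh_y hv hp γ).eq, mul_inv_cancel_right, ← (Q_y X.c X.P hv hg δ).eq, mul_assoc,
            X.P.add v hv.1]
  induction hd using closure_induction with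
  | mem g h =>
    rcases h with ⟨w, h1, h2, a, rfl⟩ | ⟨a, rfl⟩
    · obtain ⟨b, hb⟩ := exists_tr X.P a
      refine ⟨_, b_Q X.c X.P hv h1 h2 b, 0, ?_⟩
      rw [commutatorElement_def, b_inv X.c X.P hv.1 h1 h2, mul_assoc, mul_assoc, ← mul_assoc t,
        b_t X.c X.P hv.1 h1 h2, hb, ← b_add X.c X.P hv.1 h1 h2, ← add_assoc, aself X.P, zero_add,
        y0 X.P hv.1, mul_one]
    · refine ⟨1, one_mem _, a + s a, ?_⟩
      rw [commutatorElement_def, yinv X.P hv.1, mul_assoc, mul_assoc, ← mul_assoc t,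
        X.P.conj v hv.1, X.P.add v hv.1, one_mul]
  | one => exact ⟨1, one_mem _, 0, by rw [y0 X.P hv.1, commutatorElement_one_left, mul_one]⟩
  | mul p q hp _ h h' =>
    obtain ⟨g, hg, γ, e⟩ := h
    obtain ⟨g', hg', γ', e'⟩ := h'
    obtain ⟨δ, e''⟩ := cj p hp g' hg' γ'
    refine ⟨g' * g, mul_mem hg' hg, δ + γ, ?_⟩
    calc ⁅p * q, t⁆ = p * ⁅q, t⁆ * p⁻¹ * ⁅p, t⁆ := by simp only [commutatorElement_def]; group
      _ = g' * (y v δ * g) * y v γ := by rw [e', e'', e]; group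
      _ = _ := by rw [← (Q_y X.c X.P hv hg δ).eq, X.P.add v hv.1]; group
  | inv p hp h =>
    obtain ⟨g, hg, γ, e⟩ := h
    obtain ⟨δ, e'⟩ := cj p⁻¹ (inv_mem hp) g⁻¹ (inv_mem hg) γ
    refine ⟨g⁻¹, inv_mem hg, δ, ?_⟩
    calc ⁅p⁻¹, t⁆ = p⁻¹ * ⁅p, t⁆⁻¹ * p⁻¹⁻¹ := by simp only [commutatorElement_def]; group
      _ = _ := by rw [e, mul_inv_rev, yinv X.P hv.1, ← (Q_y X.c X.P hv (inv_mem hg) γ).eq, e']

theorem qh_cent (kb : KitB i φ L) (hv : Pt B v) {d : G} (hd : d ∈ QH B y v)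
    (h : ∀ u, B u u = 0 → B v u = 0 → Commute d (BB y u v 1)) : ∃ a, d = y v a := by
  have c := X.c
  have t2 : t * t = 1 := by rw [← pow_two, ← X.ht.t2, pow_orderOf_eq_one]
  have ti : t⁻¹ = t := inv_eq_of_mul_eq_one_right t2
  have hQ : d ∈ C[QV φ v] := by
    have : QV φ v ≤ C1[d] := by
      rw [kb.qgen v hv]
      refine sup_le ((closure_le _).2 ?_) fun g hg => ?_
      · rintro _ ⟨x, h1, h2, rfl⟩
        have := h x h1 h2
        rw [← map_one j, b_res c X.P hv.1 h1 h2] at this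
        exact mem_C1.2 this.symm
      · obtain ⟨a, rfl⟩ := (c.mem_ZV hv.1).1 hg
        exact mem_C1.2 (X.P.res v hv.1 a ▸ (X.qh_y hv hd _).symm)
    exact mem_C fun g hg => (mem_C1.1 (this hg)).symm
  have tQ : t ∈ C[QV φ v] := mem_C fun g hg => comm_of_C X.ht.tc (c.QV_le v hg)
  have one : ∀ k ∈ QH B y v, k ∈ C[L] → Commute k t → k = 1 := fun k h1 h2 h3 =>
    r1 c X.P X.r2 hv h2 h3 (X.qh_is2 hv h1) (X.qh_y hv h1)
  obtain ⟨g, hg, γ, e⟩ := X.qh_t kb hv hd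
  have h1 : g ∈ C[QV φ v] := by
    rw [← mul_inv_eq_iff_eq_mul.2 e]
    exact mul_mem (mul_mem (mul_mem (mul_mem hQ tQ) (inv_mem hQ)) (inv_mem tQ))
      (inv_mem (mem_C fun g hg => (Q_y c X.P hv hg _).symm))
  obtain ⟨x, k, hk, e1⟩ := c.cQ X.ka hv (le_normalizer (c.QV_le v hg)) h1
  have h2 : k ∈ QV φ v := by
    rw [← inv_mul_eq_iff_eq_mul.2 e1]
    exact mul_mem (inv_mem (T_Q c hv x)) hg
  rw [one k (X.Q_le kb hv h2) hk (comm_of_C X.ht.tc (c.QV_le v h2)).symm, mul_one,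
    ← X.P.res v hv.1] at e1
  rw [e1, ← X.P.add v hv.1] at e
  obtain ⟨z, hz⟩ := (X.P.fix (j x + γ)).1 (yinj X.P hv (by
    rw [← X.P.conj v hv.1]
    conv_rhs => rw [← yinv X.P hv.1]
    rw [← e, commutatorElement_inv, commutatorElement_def, commutatorElement_def, ti]
    calc _ = t * d * t * d⁻¹ * (t * t) := by group
      _ = _ := by rw [t2, mul_one]))
  rw [hz, X.P.res v hv.1] at e
  obtain ⟨a, k, k1, k2, e2⟩ := r0 c X.P X.ka X.ht hv hQ (b := z) (by
    rw [(comm_of_C X.ht.tc (c.TT_mem hv.1 z)).eq, ← e, commutatorElement_def, inv_mul_cancel_right])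
  have k3 : k ∈ QH B y v := by
    rw [← inv_mul_eq_iff_eq_mul.2 e2]
    exact mul_mem (inv_mem (X.y_qh a)) hd
  exact ⟨a, by rw [e2, one k k3 k1 k2, mul_one]⟩

end Cx

omit X in
theorem qh : QHStmt.{u, v} := by
  intro F E V _ _ _ _ _ _ _ _ i σ B G _ _ φ L c ka kb t A _ j s y ht r2 P U
  obtain ⟨ω, hω⟩ := P.tr
  have X : Cx i φ L t j s y ω := ⟨c, ka, ht, r2, P, U, hω⟩
  obtain ⟨μ, hμ, k⟩ := X.all
  obtain ⟨m, hm⟩ := (P.fix (μ + ω)).1 (by rw [map_add, hμ, hω]; linear_combination P.two)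
  have f2 := c.qf.twoF
  have hA : 1 < Nat.card A := by
    rw [P.card]
    exact Nat.one_lt_pow two_ne_zero Finite.one_lt_card
  haveI : Finite A := Nat.finite_of_card_ne_zero (by omega)
  haveI : Nontrivial A := Finite.one_lt_card_iff_nontrivial.1 hA
  let e : QuadraticAlgebra F m 1 → A := fun a => j a.re + j a.im * ω
  have he : ∀ a, e a = j a.re + j a.im * ω := fun _ => rfl
  have esurj : ∀ a, ∃ a', e a' = a := fun a => by
    obtain ⟨x, z, h⟩ := coord P hω a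
    exact ⟨⟨x, z⟩, h.symm⟩
  have eadd : ∀ a b, e (a + b) = e a + e b := fun a b => by simp only [he]; simp; ring
  have esm : ∀ (n : F) a, e (algebraMap F _ n * a) = j n * e a := fun n a => by
    simp only [he]; simp; ring
  have est : ∀ a, e (star a) = s (e a) := fun a => by
    simp only [he, map_add, map_mul, s_j P, hω]
    simp
    linear_combination -(j a.im * ω) * P.two
  have hBB : ∀ u w a, BB (fun v a => y v (e a)) u w a = BB y u w (e a) := fun _ _ _ => rfl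
  refine ⟨QuadraticAlgebra F m 1, inferInstance, algebraMap F _, starRingAut, fun v a => y v (e a),
    ⟨?_, fun a => star_star a, fun a => ⟨fun h => ⟨a.re, ?_⟩, ?_⟩, ⟨⟨0, 1⟩, ?_⟩, ?_,
      fun a => P.zero _, fun v hv a b => by rw [eadd, P.add v hv], fun v hv a h => ?_,
      fun v hv a => ?_, fun v hv a => (P.conj v hv _).trans (congrArg _ (est a).symm),
      fun v hv d n hn a => by rw [P.smul v hv d n hn, esm], fun g v hv a => P.eqv g v hv _,
      fun v w h1 h2 h3 a b => P.com v w h1 h2 h3 _ _, fun v hv p => (P.hat v hv p).trans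
        ⟨fun ⟨a, h⟩ => (esurj a).imp fun _ h' => by rw [h', h], fun ⟨a, h⟩ => ⟨_, h⟩⟩,
      fun k h1 h2 h3 v hv a => P.odd k h1 h2 h3 v hv _⟩,
    fun v u w hv hu hw h1 h2 n hn a a' => ?_, fun v hv d hd h => ?_⟩
  · ext
    · exact f2
    · rfl
  · have := congrArg QuadraticAlgebra.re h
    ext
    · simp
    · simpa using this
  · rintro ⟨b, rfl⟩
    ext <;> simp
  · ext
    · simp [QuadraticAlgebra.re_one]
    · simp [QuadraticAlgebra.im_one]
      linear_combination -f2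
  · rw [Nat.card_congr (QuadraticAlgebra.equivProd m 1), Nat.card_prod, pow_two]
  · have h1 := P.inj v hv _ h
    have h2 := congrArg s h1
    rw [he] at h1 h2
    rw [map_add, map_mul, s_j P, s_j P, hω, map_zero] at h2
    have h3 : a.im = 0 := j.injective (by rw [map_zero]; linear_combination h2 - h1)
    rw [h3, map_zero, zero_mul, add_zero, map_eq_zero] at h1
    ext
    exacts [h1, h3]
  · rw [← P.res v hv, he]
    simp
  · rcases eq_or_ne v 0 with rfl | v0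
    · simp only [BB, add_zero, P.zero, y2 P hu, mul_one, commutatorElement_one_left]
    rw [hBB, hBB, he, he, X.gen_comm k ⟨hv, v0⟩ ⟨hu, h1⟩ ⟨hw, h2⟩ hn, mul_assoc (algebraMap F _ n), esm, he]
    congr 2
    simp
    linear_combination (j a.im * j a'.im) * hm - (j a.im * j a'.im * ω) * P.two
  · have hd' : d ∈ QH B y v := by
      refine closure_mono ?_ hd
      rintro _ (⟨u, h1, h2, a, rfl⟩ | ⟨a, rfl⟩)
      exacts [.inl ⟨u, h1, h2, _, rfl⟩, .inr ⟨_, rfl⟩]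
    obtain ⟨a, rfl⟩ := X.qh_cent kb hv hd' fun u h1 h2 => by
      have := h u h1 h2
      rwa [hBB, show e 1 = 1 by simp [he, QuadraticAlgebra.re_one, QuadraticAlgebra.im_one]] at this
    exact (esurj a).imp fun _ h' => by rw [h']

end Cfsg.Agent.H54V.H87.UQh
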