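import Cfsg.Agent.H54.VDefs
import Cfsg.Agent.H54.VKit0

/-!
# Project UM, piece SPLIT: the two factors in the split case
-/

set_option autoImplicit false
set_option linter.style.haveILetI false
set_option linter.unusedSectionVars false

namespace Cfsg.Agent.H54V.H19.UmSplit

open Cfsg.Agent.H19

open Cfsg Cfsg.Agent.H63 Cfsg.Agent.H63.SL Cfsg.Agent.H34 Cfsg.Agent.H34.TW Cfsg.Agent.H31
  Cfsg.Agent.H34.UM Subgroup Module
open Cfsg.Agent.H27.End (mem_C comm_of_C mem_C1)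
open Cfsg.Agent.H67 (cj_le_iff)
open Cfsg.Agent.H63.WR (Hat)
open scoped commutatorElement

universe u v

variable {F E V : Type v} [Field F] [Field E] [AddCommGroup V] [Module E V] [Finite E]
  [FiniteDimensional E V] {i : F →+* E} {σ : E ≃+* E} {B : V →ₛₗ[(σ : E →+* E)] V →ₗ[E] E}
  {G : Type u} [Group G] [Finite G] {φ : sisom B →* G} {L : Subgroup G} {t : G}
  {A : Type v} [CommRing A] {j : F →+* A} {s : A ≃+* A} {y : V → A → G}
  (c : UCtx i φ L) (e : UPar i φ L t j s y)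
include c e

omit c in
theorem y_zero {v : V} (hv : B v v = 0) : y v 0 = 1 := by simpa using e.add v hv 0 0

theorem BB_zero {u w : V} (hu : B u u = 0) (hw : B w w = 0) (h : B u w = 0) : BB y u w 0 = 1 := by
  rw [BB, y_zero e (c.iso_add hu hw h), y_zero e hu, y_zero e hw, one_mul, one_mul]

omit c in
theorem BB_symm {u w : V} (hu : B u u = 0) (hw : B w w = 0) (h : B u w = 0) (a : A) :
    BB y u w a = BB y w u a := by
  rw [BB, BB, add_comm u w, mul_assoc, mul_assoc, (e.com u w hu hw h a a).eq]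

omit e in
/-- A doubled transvection is a commutator in the doubled Heisenberg group. -/
theorem y_comm (uq : UQ i B j y) {w u1 u2 : V} (hw : B w w = 0) (h1 : B u1 u1 = 0)
    (h2 : B u2 u2 = 0) (h12 : B u1 u2 = 1) (k1 : B w u1 = 0) (k2 : B w u2 = 0) :
    ∃ u, B u u = 0 ∧ B w u = 0 ∧ (∀ x, B x u2 = 0 → B x u = 0) ∧
      ∀ a a', ⁅BB y u1 w a, BB y u w a'⁆ = y w (a * a') := by
  obtain ⟨ω, hω⟩ := c.qf.tr
  have h3 : ∀ x, B x u2 = 0 → B x (ω • u2) = 0 := fun x hx => by rw [sm_right, hx, mul_zero]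
  refine ⟨ω • u2, isotropic_smul h2 ω, h3 w k2, h3, fun a a' => ?_⟩
  rw [uq.qcom w u1 (ω • u2) hw h1 (isotropic_smul h2 ω) k1 (h3 w k2) 1 (by
    rw [sm_right, h12, mul_one, hω, map_one]; linear_combination (-ω) * c.qf.two), map_one, one_mul]

/-- Elements over the two ideals commute. -/
theorem comm_ideal (uq : UQ i B j y) (kl : UKL i B j y) {ε ε' : A} (h0 : ε * ε' = 0)
    (h1 : ε' * ε' = ε') {x w : V} (hx : B x x = 0) (hw : B w w = 0) (a b : A) :
    Commute (y x (ε * a)) (y w (ε' * b)) := by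
  by_cases h : B x w = 0
  · exact e.com x w hx hw h _ _
  have k : ∀ u, B u u = 0 → B w u = 0 → B x u = 0 → ∀ b,
      Commute (y x (ε * a)) (BB y u w (ε' * b)) := fun u hu k1 k2 b => by
    obtain ⟨n, hn⟩ := c.qf.exists_norm (B x w)
    have := kl u w x hu hw hx (c.flip k1) (c.flip k2) n hn (ε * a) (ε' * b)
    rw [show ε * a * (ε' * b) = 0 by linear_combination a * b * h0,
      show j n * (ε * a) * (ε' * b) ^ 2 = 0 by linear_combination j n * a * ε' * b ^ 2 * h0,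
      y_zero e hu, BB_zero c e (isotropic_smul hx _) hu (by rw [sm_left, k2, mul_zero]), mul_one,
      mul_one] at this
    rw [BB_symm e hu hw (c.flip k1)]
    exact mul_inv_eq_iff_eq_mul.1 this
  obtain ⟨u1, u2, fr⟩ := c.exists_fr2 hx (isotropic_smul hw (B x w)⁻¹)
    (by rw [sm_right, inv_mul_cancel₀ h])
  have k0 : ∀ u, B ((B x w)⁻¹ • w) u = 0 → B w u = 0 := fun u hu => by
    rw [sm_left] at hu
    exact (mul_eq_zero.1 hu).resolve_left (by simpa using h)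
  obtain ⟨u, hu, k1, k2, k3⟩ := y_comm c uq hw fr.ee' fr.ff' fr.ef' (k0 _ fr.o3) (k0 _ fr.o4)
  rw [show ε' * b = ε' * b * (ε' * 1) by linear_combination (-b) * h1, ← k3, commutatorElement_def]
  have c1 := k u1 fr.ee' (k0 _ fr.o3) fr.o1 b
  have c2 := k u hu k1 (k2 x fr.o2) 1
  exact ((c1.mul_right c2).mul_right c1.inv_right).mul_right c2.inv_right

/-- The two factors. -/
theorem usp (hT : Tc L t) (r2 : R2 L t) (uq : UQ i B j y) (kl : UKL i B j y) {ε : A}
    (h0 : ε * s ε = 0) (h1 : ε + s ε = 1) :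
    Sp L (closure {g | ∃ v, B v v = 0 ∧ ∃ a, g = y v (ε * a)}) t := by
  set L1 : Subgroup G := closure {g | ∃ v, B v v = 0 ∧ ∃ a, g = y v (ε * a)} with hL1
  have m : ∀ v, B v v = 0 → ∀ a, y v (ε * a) ∈ L1 := fun v hv a => subset_closure ⟨v, hv, a, rfl⟩
  have com : ∀ a ∈ L1, ∀ b ∈ L1, Commute a (t * b * t⁻¹) := fun a ha b hb => by
    refine (mem_C1.1 ((closure_le C1[_]).2 ?_ ha))
    rintro _ ⟨x, hx, a, rfl⟩
    refine mem_C1.2 (mem_C1.1 (cj_le_iff.1 (show cj t L1 ≤ C1[_] from ?_) b hb)).symm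
    rw [hL1, H67.cj_closure, closure_le]
    rintro _ ⟨_, ⟨w, hw, b, rfl⟩, rfl⟩
    refine mem_C1.2 ?_
    simp only
    rw [e.conj w hw, map_mul]
    exact (comm_ideal c e uq kl h0 (by linear_combination (s ε) * h1 - h0) hx hw _ _).symm
  have gen : ∀ v, B v v = 0 → ∀ a, y v (ε * a) * (t * y v (ε * a) * t⁻¹) =
      y v (ε * a + s (ε * a)) := fun v hv a => by rw [e.conj v hv, ← e.add v hv]
  have mB : ∀ u w, B u u = 0 → B w w = 0 → B w u = 0 → ∀ a, BB y u w (ε * a) ∈ L1 :=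
    fun u w hu hw h a => mul_mem (mul_mem (m _ (c.iso_add hu hw (c.flip h)) a) (m u hu a)) (m w hw a)
  refine ⟨hT, r2, c.mod.qs, le_antisymm (commutator_le.2 fun a ha b hb =>
    mul_mem (mul_mem (mul_mem ha hb) (inv_mem ha)) (inv_mem hb)) ((closure_le _).2 ?_), com,
    fun l => ⟨fun hl => ?_, ?_⟩⟩
  · rintro _ ⟨w, hw, a, rfl⟩
    rcases eq_or_ne w 0 with rfl | w0
    · rw [e.zero]; exact one_mem _
    obtain ⟨w', k1, k2⟩ := c.hyp ⟨hw, w0⟩
    obtain ⟨u1, u2, fr⟩ := c.exists_fr2 hw k1 k2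
    obtain ⟨u, hu, k3, -, k4⟩ := y_comm c uq hw fr.ee' fr.ff' fr.ef' fr.o1 fr.o2
    have := commutator_mem_commutator (mB u1 w fr.ee' hw fr.o1 a) (mB u w hu hw k3 1)
    rwa [k4, show ε * a * (ε * 1) = ε * a by linear_combination (ε * a) * h1 - a * h0] at this
  · obtain ⟨n, hn⟩ : l ∈ (dg com).range := by
      refine c.gen (fun v hv a => ?_) hl
      refine ⟨⟨_, m v hv.1 (j a)⟩, (gen v hv.1 (j a)).trans ?_⟩
      rw [map_mul, (e.fix _).2 ⟨a, rfl⟩, ← add_mul, h1, one_mul (j a), e.res v hv.1]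
    exact ⟨n, n.2, hn.symm⟩
  · rintro ⟨n, hn, rfl⟩
    induction hn using closure_induction with
    | one => simp
    | mul a b ha hb h1 h2 =>
      exact (congrArg (· ∈ L) (map_mul (dg com) ⟨a, ha⟩ ⟨b, hb⟩)).mpr (mul_mem h1 h2)
    | inv a ha h1 => exact (congrArg (· ∈ L) (map_inv (dg com) ⟨a, ha⟩)).mpr (inv_mem h1)
    | mem k hk =>
      obtain ⟨v, hv, a, rfl⟩ := hk
      obtain ⟨b, hb⟩ := (e.fix (ε * a + s (ε * a))).1 (by rw [map_add, e.sq, add_comm])
      rw [gen v hv, hb, e.res v hv]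
      exact c.TT_mem hv b

omit c e in
/-- **U-SPLIT** -/
theorem split (h : H54V.HeisStmt.{u, v}) : H54V.SplitStmt.{u, v} := by
  intro F E V _ _ _ _ _ _ _ _ i σ B G _ _ φ L c ka kb t A _ j s y hT r2 e _ uq kl pf ε h0 h1
  have sp := usp c e hT r2 uq kl h0 h1
  obtain ⟨v, hv⟩ := c.exists_pt
  obtain ⟨W, _, _, p, B', Qf, -, fy⟩ := h i σ B φ L c ka kb v hv
  obtain ⟨S, hS, hSZ⟩ := fy.syl
  have m : ∀ a, y v (ε * a) ∈ closure {g | ∃ v, B v v = 0 ∧ ∃ a, g = y v (ε * a)} :=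
    fun a => subset_closure ⟨v, hv.1, a, rfl⟩
  refine ⟨_, sp, sp.hat (c.ZV_le hv.1) pf hS (m 1) (fun k => ?_) ?_ ?_ fy.cU fun q hq => ?_⟩
  · have h2 : ε = 0 := by simpa using e.inj v hv _ k
    rw [h2, map_zero, add_zero] at h1
    exact one_ne_zero (c.TT_eq_one hv (a := 1) (by rw [← e.res v hv.1, map_one, ← h1, y_zero e hv.1]))
  · rw [← e.add v hv.1, ← two_mul, e.two, zero_mul, y_zero e hv.1]
  · rw [e.conj v hv.1, ← e.add v hv.1, mul_one, h1, ← map_one j, e.res v hv.1]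
    exact le_centralizer_iff.1 hSZ (TT_mem_ZV v 1)
  · obtain ⟨a, rfl⟩ := (e.hat v hv q).1 hq
    rw [show a = ε * a + s (ε * s a) by rw [map_mul, e.sq, ← add_mul, h1, one_mul], e.add v hv.1,
      ← e.conj v hv.1]
    exact mul_mem (mem_sup_left (m _)) (mem_sup_right (conj_mem_cj (m _)))

end Cfsg.Agent.H54V.H19.UmSplit
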