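import Cfsg.Agent.H54.VKit0
import Cfsg.Agent.H79.InvolU

/-!
# Unitary groups in characteristic two: the property `ZC`
-/

set_option autoImplicit false
set_option linter.unusedSectionVars false

namespace Cfsg.Agent.H54V.H98.UZc

open Cfsg.Agent.H98

open Cfsg Cfsg.Agent.H63 Cfsg.Agent.H63.SL Cfsg.Agent.H34 Cfsg.Agent.H34.TW Cfsg.Agent.H34.UM
  Cfsg.Agent.H31 Subgroup Module
open Cfsg.Agent.H27.End (mem_C comm_of_C is2_of_sq)
open Cfsg.Agent.H79 (SelfAdj nil nil_apply apply_eq_add_nil selfAdj_nil nil_nil nil_eq_zero_iff rk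
  isConj_sisom_iff)

universe u v

variable {F E V : Type v} [Field F] [Field E] [AddCommGroup V] [Module E V] {i : F →+* E}
  {σ : E ≃+* E} {B : V →ₛₗ[(σ : E →+* E)] V →ₗ[E] E} {G : Type u} [Group G] {φ : sisom B →* G}
  {L : Subgroup G} (c : UCtx i φ L) {M M' : V →ₗ[E] V}
include c

theorem h_symm (hM : SelfAdj B M) (x y : V) : σ (B x (M y)) = B y (M x) := by
  rw [c.symm, hM]

theorem h_expand (x y : V) (t : E) : B (x + t • y) (M (x + t • y)) =
    B x (M x) + t * B x (M y) + σ t * B y (M x) + t * σ t * B y (M y) := by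
  simp only [map_add, map_smul, LinearMap.add_apply, sm_left, smul_eq_mul]
  ring

theorem trace (a : E) (h : σ a = a) : ∃ b, b + σ b = a := c.qf.invol.exists_trace_eq h

/-- The eigenvalue is the same on all isotropic vectors. -/
theorem const (hM : SelfAdj B M) (hk : ∀ x, M x = 0 → M' x = 0)
    (hi : ∀ x, B x (M x) = 0 → ∃ a : F, M' x = i a • M x) {e : V} (he : B e (M e) = 0)
    (h0 : M e ≠ 0) {a : F} (ha : M' e = i a • M e) {y : V} (hy : B y (M y) = 0) :
    M' y = i a • M y := by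
  obtain ⟨b, hb⟩ := hi y hy
  obtain ⟨t, t0, ht⟩ : ∃ t : E, t ≠ 0 ∧ B (e + t • y) (M (e + t • y)) = 0 := by
    rcases eq_or_ne (B e (M y)) 0 with h | h
    · exact ⟨1, one_ne_zero, by rw [h_expand c, he, hy, ← h_symm c hM e y, h]; simp⟩
    · refine ⟨(B e (M y))⁻¹, inv_ne_zero h, ?_⟩
      rw [h_expand c, he, hy, ← h_symm c hM e y, ← map_mul, inv_mul_cancel₀ h, map_one]
      linear_combination c.qf.two
  obtain ⟨d, hd⟩ := hi _ ht
  rw [map_add, map_add, map_smul, map_smul, ha, hb] at hd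
  rcases eq_or_ne (i a) (i d) with h | h
  · rw [hb]
    rw [← h, smul_add, add_right_inj, smul_comm (i a) t] at hd
    exact smul_right_injective _ t0 hd
  · have h1 : M e = ((i a - i d)⁻¹ * (t * (i d - i b))) • M y := by
      rw [mul_smul, eq_inv_smul_iff₀ (sub_ne_zero.2 h)]
      linear_combination (norm := module) hd
    have h2 := hk (e - ((i a - i d)⁻¹ * (t * (i d - i b))) • y) (by rw [map_sub, map_smul, ← h1, sub_self])
    rw [map_sub, map_smul, hb, smul_comm, ← h1, ha, ← sub_smul, smul_eq_zero, sub_eq_zero] at h2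
    rw [hb, h2.resolve_right h0]

theorem lin [Finite E] (hM : SelfAdj B M) (hM' : SelfAdj B M') (hk : ∀ x, M x = 0 → M' x = 0)
    (hr : ∀ x, ∃ y, M y = M' x) (hi : ∀ x, B x (M x) = 0 → ∃ a : F, M' x = i a • M x) :
    ∃ a : F, ∀ x, M' x = i a • M x := by
  by_cases h : ∃ e, B e (M e) = 0 ∧ M e ≠ 0
  · obtain ⟨e, he, h0⟩ := h
    obtain ⟨a, ha⟩ := hi e he
    have k : ∀ v, B v (M e) ≠ 0 → M' v = i a • M v := fun v hv => by
      obtain ⟨u, hu⟩ := trace c _ (h_symm c hM v v)
      have h1 := const c hM hk hi he h0 ha (y := v + (u / B v (M e)) • e) (by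
        rw [h_expand c, he, ← h_symm c hM v e, ← map_mul, div_mul_cancel₀ _ hv]
        linear_combination hu + B v (M v) * c.qf.two)
      rw [map_add, map_add, map_smul, map_smul, ha, smul_add, smul_comm (i a) (u / _)] at h1
      exact add_right_cancel h1
    refine ⟨a, fun v => ?_⟩
    by_cases hv : B v (M e) = 0
    · obtain ⟨w, hw⟩ := c.herm.exists_eq_one h0
      have h1 : B w (M e) ≠ 0 := by rw [c.flip1 hw]; exact one_ne_zero
      have h2 := k (v + w) (by rwa [map_add, LinearMap.add_apply, hv, zero_add])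
      rw [map_add, map_add, k w h1, smul_add] at h2
      exact add_right_cancel h2
    · exact k v hv
  · push Not at h
    by_cases h0 : ∀ x, M x = 0
    · exact ⟨0, fun x => by rw [hk x (h0 x), h0, smul_zero]⟩
    push Not at h0
    obtain ⟨x, hx⟩ := h0
    have n0 : B x (M x) ≠ 0 := fun e => hx (h x e)
    have k : ∀ y, ∃ t : E, M y = t • M x := fun y => by
      have h1 : B x (M (y - (B x (M y) / B x (M x)) • x)) = 0 := by
        rw [map_sub, map_sub, map_smul, map_smul, smul_eq_mul, div_mul_cancel₀ _ n0, sub_self]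
      generalize hz : y - (B x (M y) / B x (M x)) • x = z at h1
      obtain ⟨m, hm⟩ := (c.qf.fix (B z (M z) / B x (M x))).1 (by
        rw [map_div₀, h_symm c hM, h_symm c hM])
      obtain ⟨t, ht⟩ := c.qf.norm_surj m
      have h2 := h (z + t • x) (by
        rw [h_expand c, ← h_symm c hM x z, h1, ht, ← hm, div_mul_cancel₀ _ n0, map_zero]
        linear_combination B z (M z) * c.qf.two)
      rw [← hz, map_add, map_sub, map_smul, map_smul] at h2
      exact ⟨B x (M y) / B x (M x) - t, by linear_combination (norm := module) h2⟩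
    obtain ⟨y, hy⟩ := hr x
    obtain ⟨t, ht⟩ := k y
    rw [hy] at ht
    have h1 := h_symm c hM' x x
    rw [ht, sm_right, map_mul, h_symm c hM] at h1
    obtain ⟨a, rfl⟩ := (c.qf.fix t).1 (mul_right_cancel₀ n0 h1)
    refine ⟨a, fun z => ?_⟩
    obtain ⟨d, hd⟩ := k z
    have h2 := hk (z - d • x) (by rw [map_sub, map_smul, hd, sub_self])
    rw [map_sub, map_smul, sub_eq_zero] at h2
    rw [h2, hd, ht, smul_comm]

theorem sq_of {S : Submodule E V} {t : sisom B} (h1 : ∀ x, t.1 x - x ∈ S) (h2 : ∀ x ∈ S, t.1 x = x) :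
    t * t = 1 := s_ext fun x => by
  have h := h2 _ (h1 x)
  rw [map_sub, sub_eq_iff_eq_add, c.sub_eq, add_right_comm, c.add_self, zero_add] at h
  exact h

theorem mem_perp_range (hM : SelfAdj B M) {x : V} : x ∈ perp B (LinearMap.range M) ↔ M x = 0 := by
  refine ⟨fun h => c.herm.nondeg _ fun y => ?_, fun h => ?_⟩
  · rw [hM]; exact c.flip (h _ ⟨y, rfl⟩)
  · rintro _ ⟨y, rfl⟩
    rw [hM, h, map_zero]

theorem r0 {S : Submodule E V} {r : sisom B} (hr : r ∈ R0 B S) :
    (∀ x, r.1 x - x ∈ perp B S) ∧ Is2 r := by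
  have h1 : ∀ x, r.1 x - x ∈ perp B S := fun x u hu => by
    rw [map_sub, ← iso_map r u x, hr.1 u hu, sub_self]
  refine ⟨h1, 2, ?_⟩
  rw [show 2 ^ 2 = 2 + 2 from rfl, pow_add, pow_two]
  refine sq_of c (S := S) (fun x => ?_) fun x hx => by rw [mul_app, hr.1 x hx, hr.1 x hx]
  have h2 := hr.2 _ (h1 x)
  rw [map_sub, c.sub_eq, c.sub_eq, c.sub_eq] at h2
  rw [mul_app, c.sub_eq]
  convert h2 using 1
  linear_combination (norm := module) -c.add_self (r.1 x)

variable [FiniteDimensional E V] [Finite E]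

/-- The eigenvector property. -/
theorem eig (hM : SelfAdj B M) (hM' : SelfAdj B M') (MM : ∀ x, M (M x) = 0)
    (hk : ∀ x, M x = 0 → M' x = 0) (hr : ∀ x, ∃ y, M y = M' x)
    (hc : ∀ r : sisom B, r * r = 1 → (∀ x, r.1 (M x) = M (r.1 x)) → ∀ x, r.1 (M' x) = M' (r.1 x))
    (x : V) (hx : B x (M x) = 0) : ∃ a : F, M' x = i a • M x := by
  rcases eq_or_ne (M x) 0 with h0 | h0
  · exact ⟨0, by rw [hk x h0, h0, smul_zero]⟩
  have iso : ∀ y z, B (M y) (M z) = 0 := fun y z => by rw [hM, MM, map_zero]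
  obtain ⟨y, hy⟩ := c.herm.exists_eq_one h0
  obtain ⟨u, hu⟩ := trace c _ (c.symm x x)
  obtain ⟨e, e1, e2, e3⟩ : ∃ e, B e e = 0 ∧ M e = M x ∧ M' e = M' x := by
    refine ⟨x + u • M y, ?_, by rw [map_add, map_smul, MM, smul_zero, add_zero],
      by rw [map_add, map_smul, hk _ (MM y), smul_zero, add_zero]⟩
    have h1 : B x (M y) = 1 := by rw [← hM, hy]
    simp only [map_add, LinearMap.add_apply, sm_left, sm_right, iso, h1, c.flip1 h1]
    linear_combination hu + B x x * c.qf.two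
  have h1 : B (M e) e = 0 := by
    rw [hM, ← c.symm, e2, hM, e2, hx, map_zero]
  have h2 := c.flip h1
  rw [← e2] at hy
  rw [← e2, ← e3]
  obtain ⟨r, h, -⟩ := c.ee (v := M e) (w := e) (d := 0) (iso e e) h1 (by rw [e1]; simp)
  simp only [zero_mul, zero_smul, add_zero] at h
  have h3 := hc r (s_ext fun z => by
    rw [mul_app, h, h]
    simp only [map_add, map_smul, smul_eq_mul, h1, h2, e1, iso, mul_zero, add_zero]
    change _ = z
    linear_combination (norm := module) c.add_self (B (M e) z • e + B e z • M e)) (fun z => by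
    rw [h, h]
    simp only [map_add, map_smul, MM, iso, zero_smul, smul_zero, add_zero]
    rw [hM]) y
  obtain ⟨w, hw⟩ := hr y
  have h4 : B (M e) (M' y) = 0 := by rw [← hw, iso]
  rw [h, h] at h3
  simp only [map_add, map_smul, hk _ (MM e), h4, hy, zero_smul, smul_zero, add_zero, one_smul,
    add_right_inj] at h3
  have h5 : B e (M' y) = σ (B e (M' y)) := by
    conv_lhs => rw [← hM', ← h3, sm_left, hy, mul_one]
  obtain ⟨a, ha⟩ := (c.qf.fix _).1 h5.symm
  exact ⟨a, by rw [← h3, ha]⟩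

theorem line (hM : SelfAdj B M) (MM : ∀ x, M (M x) = 0) (a : F) :
    ∃ t : sisom B, ∀ x, t.1 x = x + i a • M x := by
  let f : V →ₗ[E] V := LinearMap.id + i a • M
  have hf : ∀ x, f x = x + i a • M x := fun _ => rfl
  refine c.mk2 f (fun x y => ?_) (k := 1) (LinearMap.ext fun x => ?_)
  · simp only [hf, map_add, LinearMap.add_apply, sm_left, sm_right, hM _ _, MM, c.qf.σ_i, map_zero]
    linear_combination (i a * B x (M y)) * c.qf.two
  · change f (f x) = x
    rw [hf, hf, map_add, map_smul, MM, smul_zero, add_zero, add_assoc, c.add_self, add_zero]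

omit c in
/-- **U-ZC** -/
theorem zc : H54V.ZCStmt.{u, v} := by
  intro F E V _ _ _ _ _ _ _ _ i σ B G _ _ φ L c kA _ b hb ho
  have b2 : b * b = 1 := by rw [← pow_two, ← ho, pow_orderOf_eq_one]
  have b1 : b ≠ 1 := by rintro rfl; simp at ho
  obtain ⟨s, ⟨k, hk⟩, rfl⟩ := c.lift2 hb (is2_of_sq b2)
  have ss : s * s = 1 := c.one ⟨k, by rw [← pow_two, ← pow_mul, mul_comm, pow_mul, hk, one_pow]⟩
    (by rw [map_mul, b2]; exact one_mem _)
  have s1 : s.1 ≠ 1 := fun e => b1 (by rw [show s = 1 from Subtype.ext e, map_one])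
  have ss' : s.1 * s.1 = 1 := congrArg Subtype.val ss
  have hM : SelfAdj B (nil s.1) := selfAdj_nil (iso_map s) ss'
  have MM := nil_nil c.qf.two ss'
  choose τ hτ using line c hM MM
  have τa : ∀ a a', τ (a + a') = τ a * τ a' := fun a a' => s_ext fun x => by
    rw [mul_app, hτ, hτ, hτ, map_add (nil s.1), map_smul, MM, map_add]
    module
  have τ0 : τ 0 = 1 := s_ext fun x => by rw [hτ, map_zero, zero_smul, add_zero]; rfl
  have τ2 : ∀ a, τ a * τ a = 1 := fun a => by rw [← τa, ← two_mul, c.qf.twoF, zero_mul, τ0]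
  let Zb : Subgroup G :=
    { carrier := Set.range fun a => φ (τ a)
      one_mem' := ⟨0, by simp only [τ0, map_one]⟩
      mul_mem' := by
        rintro _ _ ⟨a, rfl⟩ ⟨a', rfl⟩
        exact ⟨a + a', by simp only [τa, map_mul]⟩
      inv_mem' := by
        rintro _ ⟨a, rfl⟩
        exact ⟨a, eq_inv_of_mul_eq_one_left (by rw [← map_mul, τ2, map_one])⟩ }
  refine ⟨Zb, by rintro _ ⟨a, rfl⟩; exact c.mem _, Nat.card_le_card_of_surjective
    (fun a => (⟨φ (τ a), a, rfl⟩ : Zb)) (by rintro ⟨_, a, rfl⟩; exact ⟨a, rfl⟩), ?_, fun g g1 _ hg => ?_⟩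
  · rintro _ ⟨a, rfl⟩ h1
    have a0 : i a ≠ 0 := fun e => h1 (by
      rw [show a = 0 from i.injective (e.trans (map_zero i).symm)]
      simp only [τ0, map_one])
    obtain ⟨l, hl⟩ := isConj_iff.1 ((isConj_sisom_iff c.qf.two c.herm s (τ a) ss' s1
      (congrArg Subtype.val (τ2 a))).2 (by
        rw [rk, rk, show nil (τ a).1 = i a • nil s.1 from LinearMap.ext fun x => by
          rw [nil_apply, hτ, add_sub_cancel_left]; rfl, LinearMap.range_smul _ _ a0]))
    exact ⟨φ l, c.mem l, by simp only [← hl, map_mul, map_inv]⟩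
  have cm : ∀ r t : sisom B, (∀ x, r.1 (nil t.1 x) = nil t.1 (r.1 x)) ↔ Commute r t := fun r t =>
    H79.nil_intertwine_iff.trans ⟨fun e => Subtype.ext e, fun e => congrArg Subtype.val e⟩
  have hS : TotIso B (LinearMap.range (nil s.1)) := fun _ hx _ hy =>
    H79.nil_isotropic c.qf.two (iso_map s) ss' hx hy
  have h := kA.fs _ hS (fun e => s1 (nil_eq_zero_iff.1 (LinearMap.range_eq_bot.1 e))) g ⟨g1, mem_C (by
    rintro _ ⟨r, hr, rfl⟩
    refine (hg _ (c.mem r) ?_ (((cm r s).1 fun x => ?_).map φ)).symm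
    · obtain ⟨k, hk⟩ := (r0 c hr).2
      exact ⟨k, by rw [← map_pow, hk, map_one]⟩
    · have h1 := (mem_perp_range c hM).1 ((r0 c hr).1 x)
      rw [map_sub, sub_eq_zero] at h1
      rw [h1, hr.1 _ ⟨x, rfl⟩])⟩
  have h3 : AS i φ (LinearMap.range (nil s.1)) ≤ N[C[L]] := fun a ha =>
    centralizer_le_normalizer _ fun z hz => by
      obtain ⟨t, rfl, -⟩ := (kA.as _ hS a).1 ha
      exact (comm_of_C hz (c.mem t)).eq
  obtain ⟨a, ha, z, hz, rfl⟩ := (coe_mul_of_left_le_normalizer_right _ C[L] h3).subset h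
  obtain ⟨t, rfl, t1, t2⟩ := (kA.as _ hS a).1 ha
  have tt : t * t = 1 := sq_of c t1 fun x hx => t2 x (totIso_iff_le_perp.1 hS hx)
  have hM' : SelfAdj B (nil t.1) := selfAdj_nil (iso_map t) (congrArg Subtype.val tt)
  have k1 : ∀ x, nil s.1 x = 0 → nil t.1 x = 0 := fun x hx => by
    rw [nil_apply, t2 x ((mem_perp_range c hM).2 hx), sub_self]
  obtain ⟨a, e⟩ := lin c hM hM' k1 t1 (eig c hM hM' MM k1 t1 fun r rr hr => (cm r t).2 (by
    have h1 := hg _ (c.mem r) (is2_of_sq (by rw [← map_mul, rr, map_one])) (((cm r s).1 hr).map φ)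
    have h2 : Commute (φ r) (φ t) := by
      have := h1.mul_right (comm_of_C hz (c.mem r)).symm.inv_right
      rwa [mul_inv_cancel_right] at this
    exact mul_inv_eq_iff_eq_mul.1 (c.inj2 (H27.End.Is2.conj (is2_of_sq tt) r) (is2_of_sq tt) (by
      rw [map_mul, map_mul, map_inv, h2.eq, mul_inv_cancel_right]))))
  refine mul_mem_sup ⟨a, congrArg φ (s_ext fun x => ?_)⟩ hz
  rw [hτ, ← e, ← apply_eq_add_nil]

end Cfsg.Agent.H54V.H98.UZc
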