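import Cfsg.Agent.H85.Basic
import Cfsg.Agent.H51.Replacement
import Cfsg.Agent.H3.Cores

/-!
Sylow subgroups that are extraspecial of order `p ^ 3`: coordinates, and the torus elements of the
Sylow normalizer given by a subgroup of order `p ^ 2` with large automizer.
-/

set_option autoImplicit false

namespace Cfsg.Agent.H54

open Subgroup H85
open scoped commutatorElement

variable {G : Type*} [Group G] {p : ℕ}

/-- Powers with exponent in `ZMod p`. -/
def zp (z : G) (a : ZMod p) : G := z ^ a.val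

section zp

variable [hp : Fact p.Prime] {z : G}

theorem zp_natCast (hz : z ^ p = 1) (n : ℕ) : zp z (n : ZMod p) = z ^ n := by
  rw [zp, ZMod.val_natCast, ← pow_eq_pow_mod n hz]

theorem zp_add (hz : z ^ p = 1) (a b : ZMod p) : zp z (a + b) = zp z a * zp z b := by
  rw [zp, zp, zp, ← pow_add, ← zp_natCast hz (a.val + b.val)]
  simp [zp]

theorem zp_zero : zp z (0 : ZMod p) = 1 := by simp [zp]

theorem zp_one : zp z (1 : ZMod p) = z := by
  rw [zp, ZMod.val_one, pow_one]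

theorem zp_neg (hz : z ^ p = 1) (a : ZMod p) : zp z (-a) = (zp z a)⁻¹ :=
  eq_inv_of_mul_eq_one_left (by rw [← zp_add hz, neg_add_cancel, zp_zero])

theorem zp_pow (hz : z ^ p = 1) (a : ZMod p) (n : ℕ) : zp z a ^ n = zp z (a * (n : ZMod p)) := by
  rw [zp, ← pow_mul, ← zp_natCast hz]; simp

theorem zp_zp (hz : z ^ p = 1) (a b : ZMod p) : zp (zp z a) b = zp z (a * b) := by
  rw [zp, zp_pow hz]; simp

theorem zp_pow_char (hz : z ^ p = 1) (a : ZMod p) : zp z a ^ p = 1 := by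
  rw [zp_pow hz]; simp [zp_zero]

omit hp in
theorem zp_mem {H : Subgroup G} (hz : z ∈ H) (a : ZMod p) : zp z a ∈ H := pow_mem hz _

omit hp in
theorem conj_zp (g z : G) (a : ZMod p) : g * zp z a * g⁻¹ = zp (g * z * g⁻¹) a := by
  rw [zp, zp, conj_pow]

theorem zp_eq_one_iff (hz : orderOf z = p) {a : ZMod p} : zp z a = 1 ↔ a = 0 := by
  rw [zp, ← orderOf_dvd_iff_pow_eq_one, hz, ← ZMod.natCast_eq_zero_iff, ZMod.natCast_zmod_val]

theorem zp_inj (hz : orderOf z = p) {a b : ZMod p} (h : zp z a = zp z b) : a = b := by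
  have hz' : z ^ p = 1 := hz ▸ pow_orderOf_eq_one z
  rw [← sub_eq_zero, ← zp_eq_one_iff hz, sub_eq_add_neg, zp_add hz', zp_neg hz', h, mul_inv_cancel]

theorem exists_zp_of_mem (hz : z ^ p = 1) {w : G} (hw : w ∈ zpowers z) :
    ∃ a : ZMod p, w = zp z a := by
  have : IsOfFinOrder z := isOfFinOrder_iff_pow_eq_one.mpr ⟨p, hp.out.pos, hz⟩
  obtain ⟨n, rfl⟩ := this.mem_powers_iff_mem_zpowers.mpr hw
  exact ⟨n, (zp_natCast hz n).symm⟩

omit hp in
theorem commute_zp {y : G} (h : Commute y z) (a : ZMod p) : Commute y (zp z a) := h.pow_right _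

end zp

/-- `P` is extraspecial of order `p ^ 3` with centre generated by `z`. -/
structure XS (p : ℕ) (P : Subgroup G) (z : G) : Prop where
  card : Nat.card P = p ^ 3
  mem : z ∈ P
  ord : orderOf z = p
  cen : ∀ x ∈ P, x * z = z * x
  of_cen : ∀ x ∈ P, (∀ y ∈ P, y * x = x * y) → x ∈ zpowers z
  comm : ∀ x ∈ P, ∀ y ∈ P, ⁅x, y⁆ ∈ zpowers z

theorem exists_xs [hp : Fact p.Prime] [Finite G] {P : Subgroup G} (hE : IsExtraspecial p P)
    (hc : Nat.card P = p ^ 3) : ∃ z, XS p P z ∧ (center P).map P.subtype = zpowers z := by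
  have hcyc : IsCyclic (center P) := isCyclic_of_prime_card hE.2
  obtain ⟨c, hc'⟩ := (Subgroup.isCyclic_iff_exists_zpowers_eq_top (center P)).mp hcyc
  have h1 : (center P).map P.subtype = zpowers (c : G) := by
    rw [← hc', MonoidHom.map_zpowers]; rfl
  have hcc : c ∈ center P := hc' ▸ mem_zpowers c
  refine ⟨c, ⟨hc, c.2, ?_, fun x hx => ?_, fun x hx h => ?_, fun x hx y hy => ?_⟩, h1⟩
  · rw [orderOf_coe, ← Nat.card_zpowers, hc', hE.2]
  · exact congrArg Subtype.val (mem_center_iff.mp hcc ⟨x, hx⟩)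
  · rw [← h1]
    exact ⟨⟨x, hx⟩, mem_center_iff.mpr fun y => Subtype.ext (h y y.2), rfl⟩
  · rw [← h1, ← hE.1.2.2]
    exact ⟨⁅(⟨x, hx⟩ : P), ⟨y, hy⟩⁆, commutator_mem_commutator (mem_top _) (mem_top _), rfl⟩

namespace XS

variable [hp : Fact p.Prime] {P : Subgroup G} {z : G} (h : XS p P z)
include h

omit hp in
theorem isPGroup : IsPGroup p P := IsPGroup.of_card h.card

omit hp in
theorem pow : z ^ p = 1 := h.ord ▸ pow_orderOf_eq_one z

omit hp in
theorem zle : zpowers z ≤ P := zpowers_le.mpr h.mem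

omit hp in
theorem cen' {x w : G} (hx : x ∈ P) (hw : w ∈ zpowers z) : x * w = w * x := by
  obtain ⟨n, rfl⟩ := hw
  exact ((show Commute x z from h.cen x hx).zpow_right n).eq

omit hp in
theorem pow_of_mem {w : G} (hw : w ∈ zpowers z) : w ^ p = 1 := by
  obtain ⟨n, rfl⟩ := hw
  change (z ^ n) ^ p = 1
  rw [← zpow_natCast, ← zpow_mul, mul_comm, zpow_mul, zpow_natCast, h.pow, one_zpow]

omit hp in
theorem comm_mul_left {a b y : G} (ha : a ∈ P) (hb : b ∈ P) (hy : y ∈ P) :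
    ⁅a * b, y⁆ = ⁅a, y⁆ * ⁅b, y⁆ := by
  have e : ⁅a * b, y⁆ = a * ⁅b, y⁆ * a⁻¹ * ⁅a, y⁆ := by
    simp only [commutatorElement_def]; group
  rw [e, h.cen' ha (h.comm b hb y hy), mul_inv_cancel_right,
    h.cen' (h.zle (h.comm a ha y hy)) (h.comm b hb y hy)]

omit hp in
theorem comm_pow_left {a y : G} (ha : a ∈ P) (hy : y ∈ P) (n : ℕ) : ⁅a ^ n, y⁆ = ⁅a, y⁆ ^ n := by
  induction n with
  | zero => simp
  | succ n ih => rw [pow_succ, h.comm_mul_left (pow_mem ha n) ha hy, ih, pow_succ]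

omit hp in
theorem pow_mem_z {x : G} (hx : x ∈ P) : x ^ p ∈ zpowers z :=
  h.of_cen _ (pow_mem hx p) fun y hy => by
    have := h.comm_pow_left hx hy p
    rw [h.pow_of_mem (h.comm x hx y hy), commutatorElement_eq_one_iff_mul_comm] at this
    exact this.symm

/-- Transvections: a noncentral element is conjugate to all its central multiples. -/
theorem exists_conj {y w : G} (hy : y ∈ P) (hyz : y ∉ zpowers z) (hw : w ∈ zpowers z) :
    ∃ u ∈ P, u * y * u⁻¹ = w * y := by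
  obtain ⟨u, hu, hne⟩ : ∃ u ∈ P, u * y ≠ y * u := by
    by_contra hc
    push Not at hc
    exact hyz (h.of_cen y hy hc)
  obtain ⟨a, ha⟩ := exists_zp_of_mem h.pow (h.comm u hu y hy)
  obtain ⟨b, rfl⟩ := exists_zp_of_mem h.pow hw
  have ha0 : a ≠ 0 := by
    rintro rfl
    rw [zp_zero, commutatorElement_eq_one_iff_mul_comm] at ha
    exact hne ha
  refine ⟨u ^ (b / a).val, pow_mem hu _, ?_⟩
  have := h.comm_pow_left hu hy (b / a).val
  rw [ha, zp_pow h.pow, ZMod.natCast_zmod_val, mul_div_cancel₀ _ ha0] at this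
  rw [← this, commutatorElement_def]; group

omit hp in
theorem card_zpowers : Nat.card (zpowers z) = p := by rw [Nat.card_zpowers, h.ord]

theorem sq_le_card [Finite G] {A : Subgroup G} (hA : A ≤ P) {y : G} (hz : z ∈ A) (hy : y ∈ A)
    (hyz : y ∉ zpowers z) : p ^ 2 ≤ Nat.card A := by
  obtain ⟨n, hn⟩ := IsPGroup.iff_card.mp (h.isPGroup.to_le hA)
  have h1 : p ^ 1 < p ^ n := by
    rw [pow_one, ← hn, ← h.card_zpowers]
    refine lt_of_le_of_ne (card_le_of_le (zpowers_le.mpr hz)) fun e => hyz ?_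
    exact eq_of_le_of_card_ge (zpowers_le.mpr hz) e.ge ▸ hy
  rw [hn]
  exact Nat.pow_le_pow_right hp.out.pos ((Nat.pow_lt_pow_iff_right hp.out.one_lt).mp h1)

theorem card_le_sq [Finite G] {A : Subgroup G} (hA : A ≤ P) (hne : A ≠ P) :
    Nat.card A ≤ p ^ 2 := by
  obtain ⟨n, hn⟩ := IsPGroup.iff_card.mp (h.isPGroup.to_le hA)
  have h1 : p ^ n < p ^ 3 := by
    rw [← hn, ← h.card]
    exact lt_of_le_of_ne (card_le_of_le hA) fun e => hne (eq_of_le_of_card_ge hA e.ge)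
  rw [hn]
  exact Nat.pow_le_pow_right hp.out.pos
    (Nat.lt_succ_iff.mp ((Nat.pow_lt_pow_iff_right hp.out.one_lt).mp h1))

/-- A proper subgroup containing `z` and a noncentral `y` is the centralizer of `y`. -/
theorem eq_centralizer [Finite G] {A : Subgroup G} (hA : A ≤ P) (hne : A ≠ P) {y : G} (hz : z ∈ A)
    (hy : y ∈ A) (hyz : y ∉ zpowers z) : A = P ⊓ centralizer {y} := by
  have hyP := hA hy
  have hC : P ⊓ centralizer {y} ≠ P := fun e => hyz (h.of_cen y hyP fun x hx =>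
    mem_centralizer_singleton_iff.mp (e.ge hx).2)
  have hle : zpowers z ⊔ zpowers y ≤ A := sup_le (zpowers_le.mpr hz) (zpowers_le.mpr hy)
  have hle' : zpowers z ⊔ zpowers y ≤ P ⊓ centralizer {y} :=
    sup_le (zpowers_le.mpr ⟨h.mem, mem_centralizer_singleton_iff.mpr (h.cen y hyP).symm⟩)
      (zpowers_le.mpr ⟨hyP, mem_centralizer_singleton_iff.mpr rfl⟩)
  have h2 := h.sq_le_card (hle.trans hA) (mem_sup_left (mem_zpowers z))
    (mem_sup_right (mem_zpowers y)) hyz
  rw [← eq_of_le_of_card_ge hle ((h.card_le_sq hA hne).trans h2),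
    ← eq_of_le_of_card_ge hle' ((h.card_le_sq inf_le_left hC).trans h2)]

/-- An element acting diagonally on `⟨z, y⟩` is matched by an element of the Sylow normalizer. -/
theorem exists_mem_normalizer [Finite G] (hP : IsSyl p P ⊤) {y : G} (hy : y ∈ P)
    (hyz : y ∉ zpowers z) (hyp : y ^ p = 1) {t : G} {a b : ZMod p} (ha : a ≠ 0) (hb : b ≠ 0)
    (htz : t * z * t⁻¹ = zp z a) (hty : t * y * t⁻¹ = zp y b) :
    ∃ g ∈ normalizer (P : Set G), g * z * g⁻¹ = zp z a ∧ g * y * g⁻¹ = zp y b := by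
  set C := centralizer ({z, y} : Set G) with hC
  have hmem : ∀ {c : G}, c ∈ C ↔ c * z * c⁻¹ = z ∧ c * y * c⁻¹ = y := by
    intro c
    simp only [hC, mem_centralizer_iff, Set.mem_insert_iff, Set.mem_singleton_iff, forall_eq_or_imp,
      forall_eq, mul_inv_eq_iff_eq_mul]
    exact and_congr eq_comm eq_comm
  have hCz : ∀ {c w : G}, c ∈ C → w ∈ zpowers z → c * w * c⁻¹ = w := by
    intro c w hc hw
    obtain ⟨n, rfl⟩ := exists_zp_of_mem h.pow hw
    rw [conj_zp, (hmem.mp hc).1]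
  have htz' : t⁻¹ * z * t⁻¹⁻¹ = zp z a⁻¹ := by
    have : t * zp z a⁻¹ * t⁻¹ = z := by
      rw [conj_zp, htz, zp_zp h.pow, mul_inv_cancel₀ ha, zp_one]
    calc _ = t⁻¹ * (t * zp z a⁻¹ * t⁻¹) * t⁻¹⁻¹ := by rw [this]
      _ = _ := by simp [mul_assoc]
  have hty' : t⁻¹ * y * t⁻¹⁻¹ = zp y b⁻¹ := by
    have : t * zp y b⁻¹ * t⁻¹ = y := by
      rw [conj_zp, hty, zp_zp hyp, mul_inv_cancel₀ hb, zp_one]
    calc _ = t⁻¹ * (t * zp y b⁻¹ * t⁻¹) * t⁻¹⁻¹ := by rw [this]
      _ = _ := by simp [mul_assoc]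
  have hPC : P ≤ normalizer (C : Set G) := by
    intro s hs
    refine H51.mem_normalizer_of_forall_conj_mem fun c hc => hmem.mpr ⟨?_, ?_⟩
    · calc s * c * s⁻¹ * z * (s * c * s⁻¹)⁻¹ = s * (c * (s⁻¹ * z) * s * c⁻¹) * s⁻¹ := by group
        _ = z := by
          rw [h.cen _ (inv_mem hs), mul_assoc c, inv_mul_cancel_right, (hmem.mp hc).1, h.cen s hs,
            mul_inv_cancel_right]
    · have hw := h.comm _ (inv_mem hs) y hy
      calc s * c * s⁻¹ * y * (s * c * s⁻¹)⁻¹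
          = s * ((c * ⁅s⁻¹, y⁆ * c⁻¹) * (c * y * c⁻¹)) * s⁻¹ := by
            simp only [commutatorElement_def]; group
        _ = y := by
          rw [hCz hc hw, (hmem.mp hc).2, commutatorElement_def]; group
  have hle : cj t P ≤ P ⊔ C := by
    rintro _ ⟨s, hs, rfl⟩
    change t * s * t⁻¹ ∈ P ⊔ C
    obtain ⟨n, hn⟩ := exists_zp_of_mem h.pow (h.comm s hs _ (zp_mem hy b⁻¹))
    obtain ⟨u, hu, huy⟩ := h.exists_conj hy hyz (zp_mem (mem_zpowers z) (a * n))
    have h1 : t * s * t⁻¹ * z * (t * s * t⁻¹)⁻¹ = z := by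
      calc _ = t * (s * (t⁻¹ * z * t⁻¹⁻¹) * s⁻¹) * t⁻¹ := by group
        _ = z := by
          rw [htz', h.cen' hs (zp_mem (mem_zpowers z) _), mul_inv_cancel_right, ← htz']; group
    have h2 : t * s * t⁻¹ * y * (t * s * t⁻¹)⁻¹ = zp z (a * n) * y := by
      calc _ = t * (s * (t⁻¹ * y * t⁻¹⁻¹) * s⁻¹) * t⁻¹ := by group
        _ = (t * ⁅s, zp y b⁻¹⁆ * t⁻¹) * (t * zp y b⁻¹ * t⁻¹) := by
          rw [hty', commutatorElement_def]; group
        _ = _ := by
          rw [hn, conj_zp, htz, zp_zp h.pow, ← hty']; group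
    have h3 : u⁻¹ * (t * s * t⁻¹) ∈ C := hmem.mpr ⟨?_, ?_⟩
    · simpa using mul_mem_sup hu h3
    · calc _ = u⁻¹ * (t * s * t⁻¹ * z * (t * s * t⁻¹)⁻¹) * u := by group
        _ = z := by rw [h1, h.cen _ (inv_mem hu), inv_mul_cancel_right]
    · calc _ = u⁻¹ * (t * s * t⁻¹ * y * (t * s * t⁻¹)⁻¹) * u := by group
        _ = y := by rw [h2, ← huy]; group
  have hP1 : IsSyl p P (P ⊔ C) := hP.of_le le_sup_left le_top
  have hP2 : IsSyl p (cj t P) (P ⊔ C) := (hP.cj_of_mem (mem_top t)).of_le hle le_top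
  obtain ⟨d, hd, hdP⟩ := hP2.exists_cj_eq hP1
  obtain ⟨s, hs, c, hc, rfl⟩ := (H51.mem_sup_iff_of_le_normalizer hPC).mp hd
  refine ⟨c * t, ?_, ?_, ?_⟩
  · have h1 : s * c * t ∈ normalizer (P : Set G) :=
      mem_normalizer_of_cj_le (by rw [cj_mul, hdP])
    have := mul_mem (inv_mem (le_normalizer hs)) h1
    rwa [mul_assoc s, inv_mul_cancel_left] at this
  · calc _ = c * (t * z * t⁻¹) * c⁻¹ := by group
      _ = _ := by rw [htz, conj_zp, (hmem.mp hc).1]
  · calc _ = c * (t * y * t⁻¹) * c⁻¹ := by group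
      _ = _ := by rw [hty, conj_zp, (hmem.mp hc).2]

/-- The torus elements given by an opposite transvection. -/
theorem exists_torus [Finite G] (hP : IsSyl p P ⊤) {y : G} (hy : y ∈ P)
    (hyz : y ∉ zpowers z) (hyp : y ^ p = 1) {v : G} (hvy : v * y * v⁻¹ = y)
    (hvz : v * z * v⁻¹ = z * y) {a : ZMod p} (ha : a ≠ 0) :
    ∃ g ∈ normalizer (P : Set G), g * z * g⁻¹ = zp z a ∧ g * y * g⁻¹ = zp y a⁻¹ := by
  have hc : Commute y z := h.cen y hy
  -- `A g a b c d`: `g` acts on `⟨z, y⟩` by the matrix with columns `(a, c)`, `(b, d)`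
  let A : G → ZMod p → ZMod p → ZMod p → ZMod p → Prop := fun g a b c d =>
    g * z * g⁻¹ = zp z a * zp y c ∧ g * y * g⁻¹ = zp z b * zp y d
  have hzz : ∀ i j k : ZMod p, zp (zp z i * zp y j) k = zp z (i * k) * zp y (j * k) := by
    intro i j k
    rw [zp, ((commute_zp (commute_zp hc i).symm j)).mul_pow, ← zp_zp h.pow, ← zp_zp hyp]; rfl
  have hmul : ∀ {g g' : G} {a b c d a' b' c' d' : ZMod p}, A g a b c d → A g' a' b' c' d' →
      A (g * g') (a * a' + b * c') (a * b' + b * d') (c * a' + d * c') (c * b' + d * d') := by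
    intro g g' a b c d a' b' c' d' h1 h2
    have key : ∀ i j : ZMod p, g * (zp z i * zp y j) * g⁻¹ =
        zp z (a * i + b * j) * zp y (c * i + d * j) := by
      intro i j
      calc _ = (g * zp z i * g⁻¹) * (g * zp y j * g⁻¹) := by group
        _ = _ := by
          rw [conj_zp, conj_zp, h1.1, h1.2, hzz, hzz, zp_add h.pow, zp_add hyp, mul_assoc,
            mul_assoc, ← mul_assoc (zp y _), (commute_zp (commute_zp hc _).symm _).symm.eq,
            mul_assoc]
    exact ⟨by rw [← key, ← h2.1]; group, by rw [← key, ← h2.2]; group⟩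
  have hu : ∀ b : ZMod p, ∃ u, A u 1 b 0 1 := fun b => by
    obtain ⟨u, hu, huy⟩ := h.exists_conj hy hyz (zp_mem (mem_zpowers z) b)
    exact ⟨u, by rw [h.cen u hu, zp_one, zp_zero]; group, by rw [huy, zp_one]⟩
  have hv : ∀ c : ZMod p, ∃ v, A v 1 0 c 1 := fun c => by
    have : ∀ n : ℕ, A (v ^ n) 1 0 n 1 := by
      intro n
      induction n with
      | zero => exact ⟨by simp [zp_one, zp_zero], by simp [zp_one, zp_zero]⟩
      | succ n ih =>
        have := hmul ih (show A v 1 0 1 1 from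
          ⟨by rw [hvz, zp_one, zp_one], by rw [hvy, zp_zero, zp_one, one_mul]⟩)
        simpa [pow_succ] using this
    exact ⟨v ^ c.val, by simpa using this c.val⟩
  obtain ⟨u1, h1⟩ := hu a
  obtain ⟨v1, h2⟩ := hv (-a⁻¹)
  obtain ⟨u2, h3⟩ := hu (-1)
  obtain ⟨v2, h4⟩ := hv 1
  have h5 := hmul (hmul (hmul h1 h2) h1) (hmul (hmul h3 h4) h3)
  refine h.exists_mem_normalizer hP hy hyz hyp ha (inv_ne_zero ha)
    (t := u1 * v1 * u1 * (u2 * v2 * u2)) ?_ ?_
  · rw [h5.1]; simp [ha, zp_zero]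
  · rw [h5.2]; simp [ha, zp_zero]

/-- A noncentral conjugate of a central element yields an opposite transvection. -/
theorem exists_transvection [Finite G] (hP : IsSyl p P ⊤) {w g : G} (hw : w ∈ zpowers z)
    (hy : g * w * g⁻¹ ∈ P) (hyz : g * w * g⁻¹ ∉ zpowers z) :
    ∃ v : G, v * (g * w * g⁻¹) * v⁻¹ = g * w * g⁻¹ ∧ v * z * v⁻¹ = z * (g * w * g⁻¹) := by
  set y := g * w * g⁻¹ with hydef
  have h1 : cj g P ≤ centralizer {y} := by
    rintro _ ⟨s, hs, rfl⟩
    rw [mem_centralizer_singleton_iff]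
    change g * s * g⁻¹ * y = y * (g * s * g⁻¹)
    calc _ = g * (s * w) * g⁻¹ := by rw [hydef]; group
      _ = _ := by rw [h.cen' hs hw, hydef]; group
  have h2 : IsSyl p (cj g P) (centralizer {y}) := (hP.cj_of_mem (mem_top g)).of_le h1 le_top
  obtain ⟨c, hc, hcz⟩ := h2.exists_le_cj (h.isPGroup.to_le h.zle)
    (zpowers_le.mpr (mem_centralizer_singleton_iff.mpr (h.cen y hy).symm))
  rw [← cj_mul] at hcz
  obtain ⟨a, ha, haz⟩ := hcz (mem_zpowers z)
  change c * g * a * (c * g)⁻¹ = z at haz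
  have hyw : c * g * w * (c * g)⁻¹ = y := by
    calc _ = c * y * c⁻¹ := by rw [hydef]; group
      _ = y := by rw [mem_centralizer_singleton_iff.mp hc, mul_inv_cancel_right]
  have haz' : a ∉ zpowers z := by
    intro hmem
    obtain ⟨i, hi⟩ := exists_zp_of_mem h.pow hmem
    obtain ⟨j, hj⟩ := exists_zp_of_mem h.pow hw
    have hi0 : i ≠ 0 := by
      rintro rfl
      rw [hi, zp_zero] at haz
      have := h.ord
      rw [← haz] at this
      simp at this
      exact hp.out.one_lt.ne this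
    apply hyz
    have : w = zp a (j / i) := by rw [hi, zp_zp h.pow, mul_div_cancel₀ _ hi0, hj]
    rw [← hyw, this, conj_zp, haz]
    exact zp_mem (mem_zpowers z) _
  obtain ⟨u, hu, hua⟩ := h.exists_conj ha haz' hw
  refine ⟨c * g * u * (c * g)⁻¹, ?_, ?_⟩
  · rw [← hyw]
    calc _ = c * g * (u * w * u⁻¹) * (c * g)⁻¹ := by group
      _ = _ := by rw [h.cen' hu hw, mul_inv_cancel_right]
  · rw [← h.cen y hy, ← hyw]
    conv_lhs => rw [← haz]
    conv_rhs => rw [← haz]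
    calc _ = c * g * (u * a * u⁻¹) * (c * g)⁻¹ := by group
      _ = _ := by rw [hua]; group

end XS

end Cfsg.Agent.H54
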