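import Cfsg.Agent.H54.FFCore
import Cfsg.Agent.H51.QdInv
import Cfsg.Agent.H82.Involves

/-!
Consequences of the structure of minimal failure of factorization modules: natural `SL₂(p)`-pairs,
sections `S₄` and `Qd(p)`, torus elements.
-/

set_option autoImplicit false

open scoped commutatorElement Pointwise MatrixGroups
open Subgroup Cfsg.Agent.H85 Matrix

namespace Cfsg.Agent.H54

variable {G : Type*} [Group G]

theorem involves_perm_four_of_natural [Finite G] (θ : G →* SL(2, ZMod 2))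
    (hθ : Function.Surjective θ) (ε : (Fin 2 → ZMod 2) → G)
    (hadd : ∀ w w', ε (w + w') = ε w * ε w') (hinj : ∀ w, ε w = 1 → w = 0)
    (hconj : ∀ g w, g * ε w * g⁻¹ = ε ((θ g).1 *ᵥ w)) : Involves (Equiv.Perm (Fin 4)) G := by
  have h0 : ε 0 = 1 := by
    have := hadd 0 0
    rw [add_zero] at this
    exact left_eq_mul.1 this
  have h2 : ∀ w, ε w * ε w = 1 := fun w => by
    rw [← hadd, ← h0]
    congr 1
    ext i
    exact CharTwo.add_self_eq_zero _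
  let W : Subgroup G :=
    { carrier := Set.range ε
      one_mem' := ⟨0, h0⟩
      mul_mem' := by rintro _ _ ⟨w, rfl⟩ ⟨w', rfl⟩; exact ⟨_, hadd w w'⟩
      inv_mem' := by rintro _ ⟨w, rfl⟩; exact ⟨w, eq_inv_of_mul_eq_one_left (h2 w)⟩ }
  have hWn : W.Normal := ⟨by rintro _ ⟨w, rfl⟩ g; exact ⟨_, (hconj g w).symm⟩⟩
  have hc : ∀ g, θ g = 1 → g ∈ centralizer (W : Set G) := by
    rintro g hg _ ⟨w, rfl⟩
    have := hconj g w
    rw [hg, show ((1 : SL(2, ZMod 2)) : Matrix (Fin 2) (Fin 2) (ZMod 2)) = 1 from rfl,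
      one_mulVec] at this
    exact (mul_inv_eq_iff_eq_mul.1 this).symm
  let a : SL(2, ZMod 2) := ⟨!![0, 1; 1, 1], by decide⟩
  let b : SL(2, ZMod 2) := ⟨!![1, 1; 0, 1], by decide⟩
  have ha3 : a ^ 3 = 1 := by decide
  have ha1 : a ≠ 1 := fun h => by
    have := congrArg (fun m : SL(2, ZMod 2) => m.1 0 0) h
    revert this
    decide
  have ha : orderOf a = 3 ^ 1 := orderOf_eq_prime (p := 3) ha3 ha1
  obtain ⟨x, y, P, ⟨j, hj⟩, hP, hy, hx, hya, hxa⟩ := H82.exists_lift_inverts (p := 3) (k := 1) θ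
    hθ ha (b := b) (by decide)
  refine H82.involves_perm_four_of_elementary (V := W) (by rintro _ ⟨w, rfl⟩; exact h2 w) hP
    (j := j) (by rw [← hj, pow_orderOf_eq_one]) hy hx (fun h => ?_) (hc _ ?_) (hc _ ?_)
  · have h1 := hconj y ![1, 0]
    rw [← h _ ⟨![1, 0], rfl⟩, mul_inv_cancel_right, hya] at h1
    have h3 := hinj (![1, 0] + a.1 *ᵥ ![1, 0]) (by rw [hadd, ← h1, h2])
    revert h3
    decide
  · rw [map_pow, hya, ha3]
  · rw [map_mul, map_mul, map_mul, map_inv, hya, hxa, inv_mul_cancel]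

theorem natPair_involves_perm_four [Finite G] {e f u v : G} (h : H51.NatPair 2 e f u v) :
    Involves (Equiv.Perm (Fin 4)) G := by
  have hε : ∀ w : Fin 2 → ZMod 2,
      (H51.crd e f w, 1) ∈ H51.actGraph (MonoidHom.id G) 2 e f := by
    intro w w'
    change H51.crd e f w * _ * (H51.crd e f w)⁻¹ = H51.crd e f ((1 : Matrix _ _ _) *ᵥ w')
    rw [one_mulVec, ← h.crd_add, add_comm, h.crd_add, mul_inv_cancel_right]
  have : Finite (H51.actGraph (MonoidHom.id G) 2 e f) :=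
    Finite.of_injective _ (h.fst_injective (MonoidHom.id G))
  refine involves_trans (involves_perm_four_of_natural _
    (H51.NatPair.snd_surjective (MonoidHom.id G) h)
    (fun w => ⟨_, hε w⟩) (fun w w' => ?_) (fun w hw => ?_) (fun g w => ?_))
    (H51.involves_of_injective _ (h.fst_injective (MonoidHom.id G)))
  · exact Subtype.ext (Prod.ext (h.crd_add w w') (mul_one _).symm)
  · exact h.crd_inj w (congrArg (fun z => z.1.1) hw)
  · exact Subtype.ext (Prod.ext (g.2 w) (by simp))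

theorem natPair_exists_torus {p : ℕ} [Fact p.Prime] {X : Type*} [Group X] (φ : X →* G)
    {e f : G} {u v : X} (h : H51.NatPair p e f (φ u) (φ v)) {k : ZMod p} (hk : k ≠ 0) :
    ∃ t : X, φ t * e * (φ t)⁻¹ = e ^ k.val ∧ φ t * f * (φ t)⁻¹ = f ^ k⁻¹.val := by
  obtain ⟨⟨⟨t, B⟩, ht⟩, hB⟩ := h.snd_surjective φ ⟨!![k, 0; 0, k⁻¹], by
    rw [Matrix.det_fin_two_of, mul_inv_cancel₀ hk]; simp⟩
  obtain rfl : B = _ := hB
  refine ⟨t, ?_, ?_⟩
  · have := ht ![1, 0]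
    simpa [H51.crd, H51.zp, ZMod.val_one, mulVec, dotProduct, Fin.sum_univ_two] using this
  · have := ht ![0, 1]
    simpa [H51.crd, H51.zp, ZMod.val_one, mulVec, dotProduct, Fin.sum_univ_two] using this

/-- the central subgroup `C_V(H)` of `H` -/
abbrev cenSub (V H : Subgroup G) : Subgroup H := (V ⊓ centralizer (H : Set G)).subgroupOf H

instance cenSub_normal (V H : Subgroup G) : (cenSub V H).Normal :=
  ⟨fun n hn g => by
    have : g * n * g⁻¹ = n := Subtype.ext (by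
      have h1 : (g : G) * n = n * g := hn.2 g g.2
      simp only [coe_mul, InvMemClass.coe_inv]
      rw [h1, mul_inv_cancel_right])
    rwa [this]⟩

namespace FFOut

variable [Finite G] {p e : ℕ} [Fact p.Prime] {H S V M A : Subgroup G}

omit [Finite G] [Fact p.Prime] in
theorem exists_pair (o : FFOut p e H S V M A)
    (hHV : H ≤ normalizer (V : Set G)) {g : G} (hg : g ∈ H) (hgM : g ∉ M) {x : G}
    (hx : x ∈ V ⊓ centralizer (A : Set G)) (hxZ : x ∉ centralizer (H : Set G)) {y : G}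
    (hy : y ∈ V ⊓ centralizer (A : Set G)) (hyZ : y ∉ centralizer (H : Set G)) :
    ∃ u ∈ A, ∃ v ∈ cj g A, ⁅g * y * g⁻¹, u⁆ * x ∈ centralizer (H : Set G) ∧
      ⁅x, v⁆⁻¹ * (g * y * g⁻¹) ∈ centralizer (H : Set G) := by
  have hf : g * y * g⁻¹ ∈ V := H51.conj_mem_of_mem_normalizer (hHV hg) hy.1
  obtain ⟨u, hu, hu'⟩ := o.surj _ hf (fun h => hyZ (o.inter g hg hgM y hy h)) x⁻¹ (inv_mem hx)
  have hx' : g⁻¹ * x * g ∈ V := H51.conj_mem_of_mem_normalizer' (hHV hg) hx.1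
  have hgM' : g⁻¹ * x * g ∉ centralizer (A : Set G) := fun h => by
    have h1 := o.inter g hg hgM _ ⟨hx', h⟩ (by simpa [mul_assoc] using hx.2)
    refine hxZ ?_
    have h2 : x = g⁻¹ * x * g := by
      have := h1 g hg
      calc x = g * (g⁻¹ * x * g) * g⁻¹ := by group
        _ = _ := by rw [this]; group
    rwa [h2]
  obtain ⟨a, ha, ha'⟩ := o.surj _ hx' hgM' y hy
  refine ⟨u, hu, g * a * g⁻¹, conj_mem_cj ha, ?_, ?_⟩
  · have hD : ⁅g * y * g⁻¹, u⁆ ∈ centralizer (A : Set G) :=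
      commutator_eq_bot_iff_le_centralizer.1 o.quad (commutator_mem_commutator hf hu)
    have hc : x * ⁅g * y * g⁻¹, u⁆ = ⁅g * y * g⁻¹, u⁆ * x := hD x (o.D_le hx)
    have := inv_mem hu'
    rwa [_root_.mul_inv_rev, inv_inv, inv_inv, hc] at this
  · have e1 : ⁅x, g * a * g⁻¹⁆⁻¹ * (g * y * g⁻¹) = g * (⁅g⁻¹ * x * g, a⁆⁻¹ * y) * g⁻¹ := by
      simp only [commutatorElement_def]; group
    rw [e1, ha' g hg, mul_inv_cancel_right]
    exact ha'

omit [Finite G] [Fact p.Prime] in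
theorem exists_natPair (o : FFOut p e H S V M A) (hSH : S ≤ H) (hVH : V ≤ H)
    (hV : IsMulCommutative V)
    (hHV : H ≤ normalizer (V : Set G)) {g : G} (hg : g ∈ H) (hgM : g ∉ M) {x : G}
    (hx : x ∈ V ⊓ centralizer (A : Set G)) (hxZ : x ∉ centralizer (H : Set G)) :
    ∃ f u v : H, (f : G) ∈ V ∧ (u : G) ∈ A ∧ (v : G) ∈ cj g A ∧
      H51.NatPair p (QuotientGroup.mk' (cenSub V H) ⟨x, hVH hx.1⟩)
        (QuotientGroup.mk' (cenSub V H) f) (QuotientGroup.mk' (cenSub V H) u)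
        (QuotientGroup.mk' (cenSub V H) v) := by
  obtain ⟨u, hu, v, hv, h1, h2⟩ := o.exists_pair hHV hg hgM hx hxZ hx hxZ
  have hAH : A ≤ H := o.mem.1.trans hSH
  have hf : g * x * g⁻¹ ∈ V := H51.conj_mem_of_mem_normalizer (hHV hg) hx.1
  have hvH : v ∈ H := cj_le_of_mem hAH hg hv
  have hfv : v * (g * x * g⁻¹) = (g * x * g⁻¹) * v := by
    obtain ⟨a, ha, rfl⟩ := hv
    have := hx.2 a ha
    calc g * a * g⁻¹ * (g * x * g⁻¹) = g * (a * x) * g⁻¹ := by group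
      _ = g * x * g⁻¹ * (g * a * g⁻¹) := by rw [this]; group
  generalize g * x * g⁻¹ = f at h1 h2 hf hfv
  set π := QuotientGroup.mk' (cenSub V H) with hπ
  have key : ∀ a b : H, (a : G)⁻¹ * b ∈ V → (a : G)⁻¹ * b ∈ centralizer (H : Set G) → π a = π b :=
    fun a b h3 h4 => QuotientGroup.eq.2 ⟨h3, h4⟩
  have hxf : x * f = f * x := H53.comm_of_mem hV hx.1 hf
  refine ⟨⟨f, hVH hf⟩, ⟨u, hAH hu⟩, ⟨v, hvH⟩, hf, hu, hv, fun h => hxZ ?_, ?_, ?_, ?_, ?_, ?_,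
    ?_, ?_⟩
  · exact ((QuotientGroup.eq_one_iff _).1 h).2
  · rw [← map_pow]
    exact (QuotientGroup.eq_one_iff _).2 ⟨V.pow_mem hx.1 p, o.pow x hx.1⟩
  · rw [← map_pow]
    exact (QuotientGroup.eq_one_iff _).2 ⟨V.pow_mem hf p, o.pow f hf⟩
  · exact Commute.map (Subtype.ext hxf) π
  · rw [← map_mul, ← map_inv, ← map_mul]
    congr 1
    refine Subtype.ext ?_
    change u * x * u⁻¹ = x
    rw [hx.2 u hu, mul_inv_cancel_right]
  · rw [← map_mul, ← map_inv, ← map_mul, ← map_mul]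
    have hc : ⁅f, u⁆ ∈ V := H53.commutatorElement_mem_of_mem_normalizer hf (hHV (hAH hu))
    have e1 : (u * f * u⁻¹)⁻¹ * (x * f) = ⁅f, u⁆ * x := by
      calc (u * f * u⁻¹)⁻¹ * (x * f) = f⁻¹ * ⁅f, u⁆ * (f * x) := by
            rw [← hxf]; simp only [commutatorElement_def]; group
        _ = ⁅f, u⁆ * x := by rw [H53.comm_of_mem hV (V.inv_mem hf) hc]; group
    refine key _ _ ?_ ?_
    · exact e1 ▸ V.mul_mem hc hx.1
    · exact e1 ▸ h1
  · rw [← map_mul, ← map_inv, ← map_mul, ← map_inv, ← map_mul]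
    have hc : ⁅x, v⁆ ∈ V := H53.commutatorElement_mem_of_mem_normalizer hx.1 (hHV hvH)
    have e1 : (v * x * v⁻¹)⁻¹ * (x * f⁻¹) = (⁅x, v⁆⁻¹ * f)⁻¹ := by
      calc (v * x * v⁻¹)⁻¹ * (x * f⁻¹) = x⁻¹ * ⁅x, v⁆ * x * f⁻¹ := by
            simp only [commutatorElement_def]; group
        _ = ⁅x, v⁆ * f⁻¹ := by rw [H53.comm_of_mem hV (V.inv_mem hx.1) hc]; group
        _ = (⁅x, v⁆⁻¹ * f)⁻¹ := by
            rw [H53.comm_of_mem hV hc (V.inv_mem hf)]; group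
    refine key _ _ ?_ ?_
    · exact e1 ▸ V.inv_mem (V.mul_mem (V.inv_mem hc) hf)
    · exact e1 ▸ inv_mem h2
  · rw [← map_mul, ← map_inv, ← map_mul]
    congr 1
    refine Subtype.ext ?_
    change v * f * v⁻¹ = f
    rw [hfv, mul_inv_cancel_right]

theorem involves_perm_four {e : ℕ} (o : FFOut 2 e H S V M A) (hSH : S ≤ H) (hVH : V ≤ H)
    (hV : IsMulCommutative V) (hHV : H ≤ normalizer (V : Set G)) (hM : ¬ H ≤ M) :
    Involves (Equiv.Perm (Fin 4)) H := by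
  obtain ⟨g, hg, hgM⟩ := SetLike.not_le_iff_exists.1 hM
  obtain ⟨x, hx, hxZ⟩ := SetLike.not_le_iff_exists.1 o.ne
  obtain ⟨f, u, v, -, -, -, h⟩ := o.exists_natPair hSH hVH hV hHV hg hgM hx hxZ
  exact involves_trans (natPair_involves_perm_four h) (involves_quotient _)

theorem involves_qd (hp : p ≠ 2) (o : FFOut p e H S V M A) (hSH : S ≤ H) (hVH : V ≤ H)
    (hV : IsMulCommutative V) (hHV : H ≤ normalizer (V : Set G)) (hM : ¬ H ≤ M) :
    Involves (qd p) H := by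
  obtain ⟨g, hg, hgM⟩ := SetLike.not_le_iff_exists.1 hM
  obtain ⟨x, hx, hxZ⟩ := SetLike.not_le_iff_exists.1 o.ne
  obtain ⟨f, u, v, -, -, -, h⟩ := o.exists_natPair hSH hVH hV hHV hg hgM hx hxZ
  exact involves_trans (h.involves_qd hp) (involves_quotient _)

omit [Finite G] in
/-- the torus lies in `M` -/
theorem exists_torus (o : FFOut p e H S V M A) (hSH : S ≤ H) (hVH : V ≤ H)
    (hV : IsMulCommutative V) (hHV : H ≤ normalizer (V : Set G)) (hM : ¬ H ≤ M) {x : G}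
    (hx : x ∈ V ⊓ centralizer (A : Set G)) (hxZ : x ∉ centralizer (H : Set G)) {k : ZMod p}
    (hk : k ≠ 0) :
    ∃ t ∈ H, t ∈ M ∧ (t * x * t⁻¹)⁻¹ * x ^ k.val ∈ centralizer (H : Set G) := by
  obtain ⟨g, hg, hgM⟩ := SetLike.not_le_iff_exists.1 hM
  obtain ⟨f, u, v, -, -, -, h⟩ := o.exists_natPair hSH hVH hV hHV hg hgM hx hxZ
  obtain ⟨t, ht, -⟩ := natPair_exists_torus _ h hk
  rw [← map_mul, ← map_inv, ← map_mul, ← map_pow] at ht
  have h1 : ((t : G) * x * (t : G)⁻¹)⁻¹ * x ^ k.val ∈ centralizer (H : Set G) :=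
    (QuotientGroup.eq.1 ht).2
  refine ⟨t, t.2, ?_, h1⟩
  by_contra htM
  refine hxZ (o.inter t t.2 htM x hx ?_)
  have h2 : (t : G) * x * (t : G)⁻¹ =
      x ^ k.val * (((t : G) * x * (t : G)⁻¹)⁻¹ * x ^ k.val)⁻¹ := by group
  rw [h2]
  exact mul_mem (pow_mem hx.2 _) (inv_mem (centralizer_le (o.mem.1.trans hSH) h1))

omit [Finite G] in
/-- for odd `p`, an element of `C_V(A)` centralized by `M` is central in `H` -/
theorem mem_centralizer_of_odd (hp : p ≠ 2) (o : FFOut p e H S V M A) (hSH : S ≤ H) (hVH : V ≤ H)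
    (hV : IsMulCommutative V) (hHV : H ≤ normalizer (V : Set G)) (hM : ¬ H ≤ M) {x : G}
    (hx : x ∈ V ⊓ centralizer (A : Set G)) {n : ℕ}
    (hxM : ∀ t ∈ H, t ∈ M → t ^ p ^ n * x = x * t ^ p ^ n) :
    x ∈ centralizer (H : Set G) := by
  by_contra hxZ
  obtain ⟨t, htH, htM, ht⟩ := o.exists_torus hSH hVH hV hHV hM hx hxZ (k := -1)
    (neg_ne_zero.2 one_ne_zero)
  set π := QuotientGroup.mk' (cenSub V H) with hπ
  have hxp : π ⟨x, hVH hx.1⟩ ^ p = 1 := by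
    rw [← map_pow]
    exact (QuotientGroup.eq_one_iff _).2 ⟨V.pow_mem hx.1 p, o.pow x hx.1⟩
  have h1 : π ⟨t, htH⟩ * π ⟨x, hVH hx.1⟩ * (π ⟨t, htH⟩)⁻¹ = (π ⟨x, hVH hx.1⟩)⁻¹ := by
    have h2 : π ⟨x, hVH hx.1⟩ ^ (-1 : ZMod p).val = (π ⟨x, hVH hx.1⟩)⁻¹ := by
      have := H51.zp_neg hxp (1 : ZMod p)
      simpa [H51.zp, ZMod.val_one] using this
    rw [← h2, ← map_mul, ← map_inv, ← map_mul, ← map_pow]
    exact QuotientGroup.eq.2 ⟨V.mul_mem (V.inv_mem (H51.conj_mem_of_mem_normalizer (hHV htH) hx.1))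
      (V.pow_mem hx.1 _), ht⟩
  have h3 := H82.inverts_pow_odd h1 (((Fact.out : p.Prime).odd_of_ne_two hp).pow (n := n))
  have h4 : π ⟨t, htH⟩ ^ p ^ n * π ⟨x, hVH hx.1⟩ = π ⟨x, hVH hx.1⟩ * π ⟨t, htH⟩ ^ p ^ n := by
    rw [← map_pow, ← map_mul, ← map_mul]
    congr 1
    exact Subtype.ext (hxM t htH htM)
  rw [h4, mul_inv_cancel_right] at h3
  have h5 : π ⟨x, hVH hx.1⟩ ^ 2 = 1 := by rw [sq]; exact mul_eq_one_iff_eq_inv.2 h3
  have h6 : π ⟨x, hVH hx.1⟩ = 1 := by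
    rw [← orderOf_eq_one_iff]
    exact Nat.eq_one_of_dvd_coprimes ((Nat.coprime_primes Nat.prime_two Fact.out).2 hp.symm)
      (orderOf_dvd_of_pow_eq_one h5) (orderOf_dvd_of_pow_eq_one hxp)
  exact hxZ ((QuotientGroup.eq_one_iff _).1 h6).2

end FFOut

end Cfsg.Agent.H54
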