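import Cfsg.Agent.H54.FlE
import Cfsg.Agent.H52.FStar
import Cfsg.Agent.S0058

set_option autoImplicit false
set_option linter.unusedSectionVars false

/-! Groups of characteristic `(R, p)`: the local-to-global theorem. -/

namespace Cfsg.Agent.H54.Fl

open Cfsg Subgroup
open scoped commutatorElement

universe u

variable {p : ℕ} [hp : Fact p.Prime] {X : Type u} [Group X] [Finite X]

/-- The `p'`-elements of `H` centralizing `O_p(H)` centralize `R`. -/
def Good (p : ℕ) (R H : Subgroup X) : Prop :=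
  ∀ x ∈ H, (orderOf x).Coprime p → x ∈ centralizer ((pCoreOf p H : Subgroup X) : Set X) →
    x ∈ centralizer (R : Set X)

variable {G R H K : Subgroup X}

theorem cent_of_pq {W : Subgroup X} (hK : IsPGroup p K) (hW : IsPGroup p W)
    (hKW : K ≤ normalizer (W : Set X)) {x : X} (hx : (orderOf x).Coprime p)
    (hxW : x ∈ normalizer (W : Set X)) (h1 : x ∈ centralizer (K : Set X))
    (h2 : x ∈ centralizer ((W ⊓ centralizer (K : Set X) : Subgroup X) : Set X)) :
    x ∈ centralizer (W : Set X) :=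
  zpowers_le.1 (le_centralizer_iff.1 (H4.thompson_p_times_q hK (by rwa [Nat.card_zpowers]) hW
    (le_centralizer_iff.1 (zpowers_le.2 h1)) hKW (zpowers_le.2 hxW)
    (le_centralizer_iff.1 (zpowers_le.2 h2))))

theorem Good.inf_normalizer (h : Good p R H) (hK : IsPGroup p K) (hKH : K ≤ H) :
    Good p R (H ⊓ normalizer (K : Set X)) := fun x hx hc hxc =>
  h x hx.1 hc (cent_of_pq hK (H85.pCoreOf_isPGroup p H) (hKH.trans (H85.le_normalizer_pCoreOf p H))
    hc (H85.le_normalizer_pCoreOf p H hx.1)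
    (centralizer_le (H85.le_pCoreOf (le_inf hKH le_normalizer) hK inf_le_right) hxc)
    (centralizer_le (le_trans (le_inf (le_inf (inf_le_left.trans (H85.pCoreOf_le p H))
      (inf_le_right.trans (centralizer_le_normalizer _))) inf_le_left)
      (H85.inf_pCoreOf_le inf_le_left)) hxc))

theorem Good.of_normal (h : Good p R H) {N : Subgroup X} (hN : N ≤ H)
    (hn : H ≤ normalizer (N : Set X)) : Good p R N := fun x hx hc hxc => by
  refine h x (hN hx) hc (mem_centralizer_of_coprime_step (H85.pCoreOf_isPGroup p N) hc hxc ?_)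
  rw [H85.pCoreOf_eq_inf hN hn]
  exact le_inf ((commutator_mono (H85.pCoreOf_le p H) (zpowers_le.2 hx)).trans
    (commutator_le_of_le_normalizer' hn))
    (commutator_le_of_le_normalizer (zpowers_le.2 (H85.le_normalizer_pCoreOf p H (hN hx))))

theorem isPGroup_commutator {E : Subgroup X} (hR : R ≤ normalizer (E : Set X))
    (hcop : (Nat.card R).Coprime (Nat.card E)) (hsol : Group.IsSolvable R)
    (h : ∀ x ∈ ⁅E, R⁆, (orderOf x).Coprime p → x ∈ centralizer (R : Set X)) :
    IsPGroup p (⁅E, R⁆ : Subgroup X) := by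
  have h1 := H4.commutator_commutator_eq hR hcop (Or.inl hsol)
  have hRF : R ≤ normalizer ((⁅E, R⁆ : Subgroup X) : Set X) := normalizer_commutator_ge_right E R
  generalize ⁅E, R⁆ = F at h h1 hRF
  have h2 : ∀ x ∈ F, (orderOf x).Coprime p → x ∈ centralizer (F : Set X) := fun x hx hc => by
    refine zpowers_le.1 (le_centralizer_iff.1 (h1.ge.trans (commutator_le.2 fun f hf ρ hρ => ?_)))
    rw [zpowers_eq_closure, centralizer_closure, mem_centralizer_singleton_iff]
    have a1 := h x hx hc ρ⁻¹ (inv_mem hρ)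
    have a2 := h (f⁻¹ * x * f) (mul_mem (mul_mem (inv_mem hf) hx) hf) (by
      rw [← MulEquiv.orderOf_eq (MulAut.conj f)]; simpa [mul_assoc] using hc) ρ hρ
    calc ⁅f, ρ⁆ * x = f * ρ * f⁻¹ * (ρ⁻¹ * x) := by rw [commutatorElement_def]; group
      _ = f * (ρ * (f⁻¹ * x * f)) * f⁻¹ * ρ⁻¹ := by rw [a1]; group
      _ = x * ⁅f, ρ⁆ := by rw [a2, commutatorElement_def]; group
  refine (H85.pCoreOf_isPGroup p F).to_le (h1.ge.trans ((H4.commutator_le_of_mul_centralizer
    (N := pCoreOf p F) fun f hf => ?_).trans (commutator_le_of_le_normalizer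
      (hRF.trans (H85.normalizer_le_normalizer_pCoreOf p F)))))
  obtain ⟨a, b, ha, hb, e, ⟨k, hk⟩, hc⟩ := H8.exists_pPart_mul_pPrimePart p f
  exact ⟨a, le_pCoreOf_of_central h2 (H8.isPGroup_zpowers_of_pow_eq_one hk)
    (zpowers_le.2 (zpowers_le.2 hf ha)) (mem_zpowers a), b, h b (zpowers_le.2 hf hb) hc, e.symm⟩

/-- The intersection of the invariant Sylow subgroups. -/
def PP (p : ℕ) (G R : Subgroup X) : Subgroup X :=
  ⨅ S ∈ {S | H85.IsSyl p S G ∧ R ≤ normalizer (S : Set X)}, S

/-- `p`-subgroups invariant under `R C_G(R)`. -/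
structure Inv (p : ℕ) (G R J : Subgroup X) : Prop where
  le : J ≤ G
  pg : IsPGroup p J
  nm : R ⊔ G ⊓ centralizer (R : Set X) ≤ normalizer (J : Set X)

/-- Coprime action. -/
structure Act (G R : Subgroup X) : Prop where
  nm : R ≤ normalizer (G : Set X)
  cop : (Nat.card R).Coprime (Nat.card G)
  sol : Group.IsSolvable R

theorem Act.nmG (a : Act G R) : R ⊔ G ⊓ centralizer (R : Set X) ≤ normalizer (G : Set X) :=
  sup_le a.nm (inf_le_left.trans le_normalizer)

theorem Act.mono (a : Act G R) (hH : H ≤ G) (hn : R ≤ normalizer (H : Set X)) : Act H R :=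
  ⟨hn, H4.coprime_of_le_right a.cop hH, a.sol⟩

theorem Act.exists_ge (a : Act G R) {J : Subgroup X} (hJ : J ≤ G) (hp : IsPGroup p J)
    (hn : R ≤ normalizer (J : Set X)) :
    ∃ S, H85.IsSyl p S G ∧ R ≤ normalizer (S : Set X) ∧ J ≤ S :=
  let ⟨S, h1, h2⟩ := H4.exists_invariant_sylow_ge a.nm a.cop (Or.inl a.sol) hJ hp hn
  ⟨_, H85.isSyl_map_subtype S, h2, h1⟩

theorem Inv.le_PP (a : Act G R) {J : Subgroup X} (hJ : Inv p G R J) : J ≤ PP p G R := by
  refine le_iInf₂ fun S hS => ?_
  obtain ⟨S1, h1, h2, h3⟩ := a.exists_ge hJ.le hJ.pg (le_sup_left.trans hJ.nm)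
  obtain ⟨g, hg, rfl⟩ := h1.exists_cj_eq hS.1
  obtain ⟨c, hc, e⟩ := H4.exists_centralizer_conj_eq a.nm a.cop (Or.inl a.sol) hg h2 hS.2
  rw [← H85.cj_eq_of_mem_normalizer (hJ.nm (mem_sup_right hc))]
  exact (H85.cj_mono c h3).trans (le_of_eq e)

theorem Act.inv_PP (a : Act G R) : Inv p G R (PP p G R) := by
  obtain ⟨S, h1, h2, -⟩ := a.exists_ge (p := p) bot_le IsPGroup.of_bot le_normalizer_of_normal
  have h3 : PP p G R ≤ S := iInf₂_le S ⟨h1, h2⟩
  refine ⟨h3.trans h1.le, h1.isPGroup.to_le h3, fun g hg => H85.mem_normalizer_of_cj_le ?_⟩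
  have hgR : g ∈ normalizer (R : Set X) :=
    (sup_le le_normalizer (inf_le_right.trans (centralizer_le_normalizer _)) : _ ≤ _) hg
  refine le_iInf₂ fun T hT => (H85.cj_le_iff_le_cj_inv g).2 (iInf₂_le _
    ⟨hT.1.cj_of_mem_normalizer (inv_mem (a.nmG hg)), ?_⟩)
  rw [← H85.cj_normalizer, ← H85.cj_eq_of_mem_normalizer (inv_mem hgR)]
  exact H85.cj_mono _ hT.2

theorem inv_pCoreOf (hH : H ≤ G)
    (hn : R ⊔ G ⊓ centralizer (R : Set X) ≤ normalizer (H : Set X)) : Inv p G R (pCoreOf p H) :=
  ⟨(H85.pCoreOf_le p H).trans hH, H85.pCoreOf_isPGroup p H,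
    hn.trans (H85.normalizer_le_normalizer_pCoreOf p H)⟩

theorem Inv.sup (a : Act G R) {J : Subgroup X} (hK : Inv p G R K) (hJ : Inv p G R J) :
    Inv p G R (K ⊔ J) :=
  ⟨sup_le hK.le hJ.le, a.inv_PP.pg.to_le (sup_le (hK.le_PP a) (hJ.le_PP a)),
    H4.le_normalizer_sup hK.nm hJ.nm⟩

theorem Inv.inf (hK : Inv p G R K)
    (hn : R ⊔ G ⊓ centralizer (R : Set X) ≤ normalizer (H : Set X)) : Inv p G R (K ⊓ H) :=
  ⟨inf_le_left.trans hK.le, hK.pg.to_inf_left, H4.le_normalizer_inf hK.nm hn⟩

theorem normalizer_le_kInf (K : Subgroup X) : normalizer (K : Set X) ≤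
    normalizer ((inducedFunctor kInfUpper K : Subgroup X) : Set X) :=
  H4.normalizer_le_normalizer_map_characteristic _ (hC := kInfUpper_characteristic)

theorem Inv.kInf (hK : Inv p G R K) : Inv p G R (inducedFunctor kInfUpper K) :=
  ⟨(inducedFunctor_le K).trans hK.le, hK.pg.to_le (inducedFunctor_le K),
    hK.nm.trans (normalizer_le_kInf K)⟩

theorem kInf_not_le {Q : Subgroup X} (hQ : IsPGroup p Q) (h1 : Q ≤ centralizer (K : Set X))
    (h2 : ¬ Q ≤ K) : ¬ inducedFunctor kInfUpper Q ≤ K := fun h => h2 fun x hx => by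
  have := hQ.isNilpotent
  exact h (mem_map_of_mem _ (centralizer_kInfUpper_le (P := Q) (x := ⟨x, hx⟩) fun y hy =>
    Subtype.ext (h1 hx y (h (mem_map_of_mem _ hy)))))

theorem Good.le_normalizer_kInf (hp5 : 5 ≤ p) (a : Act G R) (hH : H ≤ G)
    (hn : R ⊔ G ⊓ centralizer (R : Set X) ≤ normalizer (H : Set X)) (h : Good p R H) :
    H ≤ normalizer ((inducedFunctor kInfUpper (PP p G R ⊓ H) : Subgroup X) : Set X) := by
  have a' := a.mono hH (le_sup_left.trans hn)
  refine Fl.le_normalizer_kInf hp5 a'.nm a'.cop a.sol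
    (le_inf ((inv_pCoreOf hH hn).le_PP a) (H85.pCoreOf_le p H)) (fun S hS hR => ?_)
    fun x hx hc hxc => (a.inv_PP.inf hn).nm (mem_sup_right ⟨hH hx, h x hx hc hxc⟩)
  obtain ⟨T, h1, h2, h3⟩ := a.exists_ge (hS.le.trans hH) hS.isPGroup hR
  rw [← hS.eq_of_le (h1.isPGroup.to_inf_left (K := H)) (le_inf h3 hS.le) inf_le_right]
  exact inf_le_inf_right _ (iInf₂_le T ⟨h1, h2⟩)

theorem local_dichotomy (a : Act G R) (hK : Inv p G R K) {b : X}
    (hb : R ⊔ G ⊓ centralizer (R : Set X) ≤ centralizer {b})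
    (h : Good p R (G ⊓ centralizer {b})) :
    ⁅G ⊓ centralizer (K : Set X) ⊓ centralizer {b}, R⁆ ≤ PP p G R ⊓ (G ⊓ centralizer (K : Set X)) ∨
      ∃ J, Inv p G R J ∧ J ≤ G ⊓ centralizer (K : Set X) ∧ ¬ J ≤ K ∧
        ⁅G ⊓ centralizer (K : Set X) ⊓ centralizer {b}, R⁆ ≤ normalizer (J : Set X) := by
  have hb' := hb.trans (le_normalizer (H := centralizer {b}))
  have hKc := H4.le_normalizer_centralizer hK.nm
  have hE := H4.le_normalizer_inf (H4.le_normalizer_inf a.nmG hKc) hb'
  set E := G ⊓ centralizer (K : Set X) ⊓ centralizer {b}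
  have hRE := le_sup_left.trans hE
  have hDE : ⁅E, R⁆ ≤ E := commutator_le_of_le_normalizer hRE
  have hDM : ⁅E, R⁆ ≤ G ⊓ centralizer {b} := hDE.trans (inf_le_inf_right _ inf_le_left)
  have hDK : ⁅E, R⁆ ≤ centralizer (K : Set X) := hDE.trans (inf_le_left.trans inf_le_right)
  have hD : R ⊔ G ⊓ centralizer (R : Set X) ≤ normalizer ((⁅E, R⁆ : Subgroup X) : Set X) :=
    H4.le_normalizer_commutator hE
      (sup_le le_normalizer (inf_le_right.trans (centralizer_le_normalizer _)))
  have hW := (inv_pCoreOf (p := p) inf_le_left (H4.le_normalizer_inf a.nmG hb')).sup a hK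
  set W := pCoreOf p (G ⊓ centralizer {b}) ⊔ K
  have hW1 := hW.inf hKc
  have hDW : ⁅E, R⁆ ≤ normalizer (W : Set X) :=
    H4.le_normalizer_sup (hDM.trans (H85.le_normalizer_pCoreOf p _))
      (hDK.trans (centralizer_le_normalizer _))
  have hle : ⁅W ⊓ centralizer (K : Set X), ⁅E, R⁆⁆ ≤ W ⊓ centralizer (K : Set X) :=
    commutator_le_of_le_normalizer (H4.le_normalizer_inf hDW (hDK.trans le_normalizer))
  by_cases h1 : ⁅W ⊓ centralizer (K : Set X), ⁅E, R⁆⁆ ≤ K
  · refine Or.inl (le_inf (Inv.le_PP a ⟨hDM.trans inf_le_left, isPGroup_commutator hRE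
      (H4.coprime_of_le_right a.cop (inf_le_left.trans inf_le_left)) a.sol fun x hx hc => ?_, hD⟩)
      (hDE.trans inf_le_left))
    exact h x (hDM hx) hc (centralizer_le (SetLike.coe_subset_coe.2 le_sup_left)
      (cent_of_pq hK.pg hW.pg (le_sup_right.trans le_normalizer) hc (hDW hx) (hDK hx)
        (mem_centralizer_of_coprime_step hK.pg hc (hDK hx)
          ((commutator_mono le_rfl (zpowers_le.2 hx)).trans h1))))
  · exact Or.inr ⟨_, ⟨hle.trans hW1.le, hW1.pg.to_le hle, H4.le_normalizer_commutator hW1.nm hD⟩,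
      hle.trans (inf_le_inf_right _ hW.le), h1, normalizer_commutator_ge_right _ _⟩

theorem good_of_local (hp5 : 5 ≤ p) (a : Act G R) [IsMulCommutative R] (hnc : ¬ IsCyclic R)
    (hloc : ∀ b ∈ R, b ≠ 1 → Good p R (G ⊓ centralizer {b})) (K : Subgroup X)
    (hK : Inv p G R K) : Good p R (G ⊓ normalizer (K : Set X)) := by
  induction K using WellFoundedGT.induction with
  | ind K ih =>
  have hKN : K ≤ G ⊓ normalizer (K : Set X) := le_inf hK.le le_normalizer
  have hN := H4.le_normalizer_inf a.nmG (hK.nm.trans le_normalizer)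
  rcases (H85.le_pCoreOf hKN hK.pg inf_le_right).lt_or_eq with hlt | heq
  · have h1 := (ih _ hlt (inv_pCoreOf inf_le_left hN)).inf_normalizer hK.pg
      (le_inf hK.le (hKN.trans (H85.le_normalizer_pCoreOf p _)))
    rwa [inf_right_comm, inf_eq_left.2 (H85.le_normalizer_pCoreOf p _)] at h1
  have hKc := H4.le_normalizer_centralizer hK.nm
  have hD := H4.le_normalizer_inf a.nmG hKc
  set D := G ⊓ centralizer (K : Set X) with hDdef
  have hDN : D ≤ G ⊓ normalizer (K : Set X) := inf_le_inf_left _ (centralizer_le_normalizer _)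
  have hND : G ⊓ normalizer (K : Set X) ≤ normalizer (D : Set X) :=
    H4.le_normalizer_inf (inf_le_left.trans le_normalizer)
      (H4.le_normalizer_centralizer inf_le_right)
  have hPD := a.inv_PP (p := p).inf hD
  have hb : ∀ b ∈ R, R ⊔ G ⊓ centralizer (R : Set X) ≤ centralizer {b} := fun b hb =>
    (sup_le (le_centralizer R) inf_le_right).trans (centralizer_le (by simpa using hb))
  have hgen := S0058.result R D hnc (le_sup_left.trans hD)
    (H4.coprime_of_le_right a.cop inf_le_left)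
  by_cases hP : PP p G R ⊓ D ≤ K
  · intro x hx hc hxc
    rw [← heq] at hxc
    refine mem_centralizer_of_coprime_step hK.pg hc hxc ((commutator_mono le_rfl
      (zpowers_le.2 (show x ∈ D from ⟨hx.1, hxc⟩))).trans ?_)
    rw [commutator_comm, ← hgen]
    refine (le_relCent_iff.1 (iSup₂_le fun b hb' => le_relCent_iff.2
      ⟨inf_le_left.trans (hDN.trans inf_le_right), ?_⟩)).2
    rcases local_dichotomy a hK (hb b hb'.1) (hloc b hb'.1 hb'.2) with h | ⟨J, h1, h2, h3, -⟩
    · exact h.trans hP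
    · exact absurd ((le_inf (h1.le_PP a) h2).trans hP) h3
  exfalso
  have step : ∀ J, Inv p G R J → J ≤ D → ¬ J ≤ K → Good p R (D ⊓ normalizer (J : Set X)) := by
    intro J hJ h1 h2
    have g1 := ih _ (left_lt_sup.2 h2) (hK.sup a hJ)
    have g2 := g1.inf_normalizer hK.pg (le_inf hK.le (le_sup_left.trans le_normalizer))
    have g3 := g2.of_normal (N := D ⊓ normalizer ((K ⊔ J : Subgroup X) : Set X))
      (le_inf (inf_le_inf_right _ inf_le_left) (inf_le_left.trans (hDN.trans inf_le_right)))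
      (H4.le_normalizer_inf ((inf_le_inf_right _ inf_le_left).trans hND)
        (inf_le_left.trans (inf_le_right.trans le_normalizer)))
    have g4 := g3.inf_normalizer hJ.pg (le_inf h1 (le_sup_right.trans le_normalizer))
    rwa [inf_right_comm, inf_eq_left.2 (H4.le_normalizer_sup
      (inf_le_left.trans (hDN.trans inf_le_right)) inf_le_right)] at g4
  have claim : ∀ Q J, Inv p G R J → J ≤ D → ¬ J ≤ K →
      Q = PP p G R ⊓ (D ⊓ normalizer (J : Set X)) → D ⊓ normalizer (J : Set X) ≤
        normalizer ((inducedFunctor kInfUpper (PP p G R ⊓ D) : Subgroup X) : Set X) := by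
    intro Q
    induction Q using WellFoundedGT.induction with
    | ind Q ihQ =>
    intro J hJ h1 h2 hQ
    have hn := H4.le_normalizer_inf hD (hJ.nm.trans le_normalizer)
    have h3 := (step J hJ h1 h2).le_normalizer_kInf hp5 a (inf_le_left.trans inf_le_left) hn
    have hQi := a.inv_PP (p := p).inf hn
    rw [← hQ] at h3 hQi
    have hQD : Q ≤ PP p G R ⊓ D := hQ ▸ inf_le_inf_left _ inf_le_left
    rcases hQD.lt_or_eq with hlt | rfl
    swap
    · exact h3
    have h4 := kInf_not_le hQi.pg (hQD.trans (inf_le_right.trans inf_le_right))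
      fun h => h2 (le_trans (hQ ▸ le_inf (hJ.le_PP a) (le_inf h1 le_normalizer)) h)
    refine (le_inf inf_le_left h3).trans (ihQ _ ?_ _ hQi.kInf
      ((inducedFunctor_le Q).trans (hQD.trans inf_le_right)) h4 rfl)
    refine (H85.lt_inf_normalizer_of_lt hPD.pg hlt).trans_le ?_
    rw [inf_assoc]
    exact inf_le_inf_left _ (inf_le_inf_left _ (normalizer_le_kInf Q))
  have h5 : D ≤ normalizer ((inducedFunctor kInfUpper (PP p G R ⊓ D) : Subgroup X) : Set X) := by
    conv_lhs => rw [← hgen]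
    refine iSup₂_le fun b hb' => ?_
    have hE := le_sup_left.trans (H4.le_normalizer_inf hD ((hb b hb'.1).trans le_normalizer))
    rw [← H4.commutator_sup_centralizer hE
      (H4.coprime_of_le_right a.cop (inf_le_left.trans inf_le_left)) (Or.inl a.sol)]
    refine sup_le ?_ (le_trans (le_sup_of_le_right
      (inf_le_inf_right _ (inf_le_left.trans inf_le_left))) hPD.kInf.nm)
    rcases local_dichotomy a hK (hb b hb'.1) (hloc b hb'.1 hb'.2) with h | ⟨J, h1, h2, h3, h4⟩
    · exact h.trans (le_normalizer.trans (normalizer_le_kInf _))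
    · exact (le_inf ((commutator_le_of_le_normalizer hE).trans inf_le_left) h4).trans
        (claim _ J h1 h2 h3 rfl)
  exact kInf_not_le hPD.pg (inf_le_right.trans inf_le_right) hP
    (((H85.le_pCoreOf ((inducedFunctor_le _).trans inf_le_right) hPD.kInf.pg h5).trans
      (H85.pCoreOf_le_pCoreOf hDN hND)).trans heq.ge)

section FStar

variable {Y : Type u} [Group Y] [Finite Y]

theorem fstar_le_sup : generalizedFittingSubgroup Y ≤ pCore p Y ⊔
    (pResidual p (generalizedFittingSubgroup Y)).map (generalizedFittingSubgroup Y).subtype := by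
  refine sup_le (le_sup_of_le_right fun x hx => ?_) (H52.fitting_eq_pCore_sup_inf.le.trans
    (sup_le_sup_left (fun x hx => H8.mem_map_subtype_pResidual (mem_sup_right hx.1)
      (H52.coprime_card_pPrimeCore.coprime_dvd_left (orderOf_dvd_natCard _ hx.2))) _))
  have := H52.layer_isPerfect (G := Y)
  have h1 : Subsingleton (layer Y ⧸ pResidual p (layer Y)) := by
    by_contra h
    rw [not_subsingleton_iff_nontrivial] at h
    exact Group.IsPerfect.not_isNilpotent _ (H8.isPGroup_quotient_pResidual (G := layer Y) p).isNilpotent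
  have h2 : (⟨x, hx⟩ : layer Y) ∈ pResidual p (layer Y) :=
    (QuotientGroup.eq_one_iff _).1 (Subsingleton.elim _ _)
  exact H8.map_subtype_pResidual_le_iff.2
    (fun g hg hc => H8.mem_map_subtype_pResidual (mem_sup_left hg) hc) (mem_map_of_mem _ h2)

theorem res_fstar_le : (pResidual p (generalizedFittingSubgroup Y)).map
    (generalizedFittingSubgroup Y).subtype ≤ centralizer ((pCore p Y : Subgroup Y) : Set Y) := by
  refine H8.map_subtype_pResidual_le_iff.2 fun x hx hc => ?_
  set C := centralizer ((pCore p Y : Subgroup Y) : Set Y)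
  have h1 : generalizedFittingSubgroup Y ≤ pCore p Y ⊔ C := by
    refine sup_le (le_sup_of_le_right
      (commutator_eq_bot_iff_le_centralizer.1 H52.commutator_layer_pCore))
      (H52.fitting_le_pCore_sup_pPrimeCore.trans (sup_le_sup_left ?_ _))
    have := H52.pPrimeCore_characteristic (p := p) (G := Y)
    exact commutator_eq_bot_iff_le_centralizer.1 (le_bot_iff.1
      ((commutator_le_inf _ _).trans (disjoint_of_coprime_natCard
        (H4.coprime_card_of_isPGroup H52.coprime_card_pPrimeCore (H3.pCore_isPGroup p Y))).le_bot))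
  obtain ⟨o, ho, c, hc', e⟩ := mem_sup_of_normal_right.1 (h1 hx)
  rw [← QuotientGroup.eq_one_iff]
  refine H8.eq_one_of_mem_of_coprime ((H3.pCore_isPGroup p Y).map (QuotientGroup.mk' C))
    ⟨o, ho, ?_⟩ (hc.coprime_dvd_left (orderOf_map_dvd (QuotientGroup.mk' C) x))
  rw [← e, QuotientGroup.mk_mul, (QuotientGroup.eq_one_iff c).2 hc', mul_one]
  rfl

end FStar

theorem good_iff (a : Act H R) : Good p R H ↔ R ≤ centralizer
    ((((pResidual p (generalizedFittingSubgroup H)).map
      (generalizedFittingSubgroup H).subtype).map H.subtype : Subgroup X) : Set X) := by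
  set Y := ((pResidual p (generalizedFittingSubgroup H)).map
      (generalizedFittingSubgroup H).subtype).map H.subtype
  constructor
  · intro h
    rw [le_centralizer_iff, map_le_iff_le_comap]
    refine H8.map_subtype_pResidual_le_iff.2 fun x hx hc => h x x.2 (by rwa [orderOf_coe]) ?_
    rintro _ ⟨y, hy, rfl⟩
    exact congrArg Subtype.val (res_fstar_le (H8.mem_map_subtype_pResidual hx hc) y hy)
  intro h x hx hc hxc
  have hO := H85.normalizer_le_normalizer_pCoreOf p H
  have hD := H4.le_normalizer_inf a.nm (H4.le_normalizer_centralizer (a.nm.trans hO))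
  set D := H ⊓ centralizer ((pCoreOf p H : Subgroup X) : Set X)
  have hHY : H ≤ normalizer (Y : Set X) := by
    have := H52.fstar_normal (G := H)
    have := H3.normal_map_subtype_of_characteristic (generalizedFittingSubgroup H)
      (pResidual p (generalizedFittingSubgroup H))
    exact H52.le_normalizer_map_subtype _
  have h1 : ⁅D, R⁆ ≤ D := commutator_le_of_le_normalizer hD
  have h2 : ⁅D, R⁆ ≤ centralizer (Y : Set X) := (commutator_mono le_rfl h).trans
    (commutator_le_of_le_normalizer' (inf_le_left.trans (H4.le_normalizer_centralizer hHY)))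
  have h3 : (generalizedFittingSubgroup H).map H.subtype ≤ pCoreOf p H ⊔ Y :=
    (map_mono fstar_le_sup).trans (Subgroup.map_sup _ _ _).le
  have h4 : ⁅D, R⁆ ≤ pCoreOf p H ⊔ Y := fun y hy => h3 (by
    have h5 : pCoreOf p H ⊔ Y ≤ centralizer {y} :=
      sup_le (fun z hz => mem_centralizer_singleton_iff.2 ((h1 hy).2 z hz))
        fun z hz => mem_centralizer_singleton_iff.2 (h2 hy z hz)
    exact mem_map_of_mem _ (H52.centralizer_fstar_le (x := (⟨y, (h1 hy).1⟩ : H)) fun z hz =>
      Subtype.ext (mem_centralizer_singleton_iff.1 (h5 (h3 (mem_map_of_mem _ hz))))))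
  refine mem_centralizer_of_coprime_step (H85.pCoreOf_isPGroup p H) hc hxc
    ((commutator_mono le_rfl (zpowers_le.2 (show x ∈ D from ⟨hx, hxc⟩))).trans ?_)
  rw [commutator_comm, ← H4.commutator_commutator_eq hD
    (H4.coprime_of_le_right a.cop inf_le_left) (Or.inl a.sol)]
  refine (H4.commutator_le_of_mul_centralizer (N := pCoreOf p H) fun y hy => ?_).trans
    (commutator_le_of_le_normalizer (a.nm.trans hO))
  obtain ⟨o, ho, c, hc, e⟩ := (H85.mem_sup_of_le_normalizer'
    ((H85.pCoreOf_le p H).trans hHY)).1 (h4 hy)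
  exact ⟨o, ho, c, le_centralizer_iff.1 h hc, e⟩

end Cfsg.Agent.H54.Fl
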