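import Cfsg.Agent.H54.FlE

set_option autoImplicit false
set_option linter.unusedSectionVars false
set_option linter.unusedSimpArgs false

/-! Coprime fixed points of groups with quadratic elements involve `PSL₂`. -/

namespace Cfsg.Agent.H54.Fl

open Cfsg Module Cfsg.Agent.H36 Subgroup
open scoped MatrixGroups commutatorElement

universe u

theorem card_le_two_mul_image {α β : Type*} [Neg α] [DecidableEq β] (F : Finset α) (f : α → β)
    (hf : ∀ a ∈ F, ∀ b ∈ F, f a = f b → a = b ∨ a = -b) : F.card ≤ 2 * (F.image f).card := by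
  classical
  refine Finset.card_le_mul_card_image F 2 fun c hc => ?_
  obtain ⟨b, hb, rfl⟩ := Finset.mem_image.1 hc
  refine (Finset.card_le_card (t := {b, -b}) fun a ha => ?_).trans Finset.card_le_two
  rw [Finset.mem_filter] at ha
  simpa using hf a ha.1 b hb ha.2

theorem card_lt_two_mul_image {α β : Type*} [AddGroup α] [DecidableEq β] (F : Finset α) (h0 : 0 ∈ F)
    (f : α → β) (hf : ∀ a ∈ F, ∀ b ∈ F, f a = f b → a = b ∨ a = -b) :
    F.card < 2 * (F.image f).card := by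
  classical
  have h1 := card_le_two_mul_image (F.erase 0) f fun a ha b hb =>
    hf a (Finset.mem_of_mem_erase ha) b (Finset.mem_of_mem_erase hb)
  have h2 : f 0 ∉ (F.erase 0).image f := fun h => by
    obtain ⟨a, ha, e⟩ := Finset.mem_image.1 h
    exact (Finset.ne_of_mem_erase ha) (by simpa using hf a (Finset.mem_of_mem_erase ha) 0 h0 e)
  have h3 : F.image f = insert (f 0) ((F.erase 0).image f) := by
    rw [← Finset.image_insert, Finset.insert_erase h0]
  rw [h3, Finset.card_insert_of_notMem h2, ← Finset.card_erase_add_one h0]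
  omega

theorem jordan_anticomm {k A : Type*} [Field k] [Ring A] [Algebra k A] (h2 : (2 : k) ≠ 0)
    (E : Submodule k A) [Finite E] (hJ : ∀ a ∈ E, ∀ b ∈ E, a * b + b * a ∈ E)
    (hD : ∀ a ∈ E, ∀ b ∈ E, a * b = 0 → a = 0 ∨ b = 0) {u v : A} (hu : u ∈ E) (hv : v ∈ E)
    (h : u * v + v * u = 0) : u = 0 ∨ v = 0 := by
  classical
  have hm : ∀ a ∈ E, ∀ b ∈ E, Commute a b → a * b ∈ E := fun a ha b hb hab => by
    have := E.smul_mem (2 : k)⁻¹ (hJ a ha b hb)
    rwa [← hab.eq, ← two_smul k, smul_smul, inv_mul_cancel₀ h2, one_smul] at this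
  have hsq : ∀ a ∈ E, ∀ b ∈ E, Commute a b → a * a = b * b → a = b ∨ a = -b := by
    intro a ha b hb hab e
    rcases hD _ (E.sub_mem ha hb) _ (E.add_mem ha hb) (by
      rw [sub_mul, mul_add, mul_add, e, hab.eq]; abel) with h | h
    · exact Or.inl (sub_eq_zero.1 h)
    · exact Or.inr (eq_neg_of_add_eq_zero_left h)
  have hvu : v * u = -(u * v) := eq_neg_of_add_eq_zero_right h
  have c1 : Commute (u * u) v := by
    rw [Commute, SemiconjBy, ← mul_assoc, hvu, neg_mul, mul_assoc u v, hvu]; simp [mul_assoc]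
  have c2 : Commute (v * v) u := by
    rw [Commute, SemiconjBy, mul_assoc, hvu, mul_neg, ← mul_assoc, hvu]; simp [mul_assoc]
  by_contra hne
  push Not at hne
  set P : A → Prop := fun c => c ∈ E ∧ Commute c u ∧ Commute c v with hP
  have hfin : {a | P a ∧ ∀ c, P c → Commute a c}.Finite :=
    (Set.toFinite (E : Set A)).subset fun a ha => ha.1.1
  set F := hfin.toFinset
  have hF : ∀ a, a ∈ F ↔ P a ∧ ∀ c, P c → Commute a c := fun a => hfin.mem_toFinset
  have hmul : ∀ a ∈ F, ∀ b ∈ F, a * b ∈ F := fun a ha b hb => by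
    rw [hF] at ha hb ⊢
    exact ⟨⟨hm a ha.1.1 b hb.1.1 (ha.2 b hb.1), ha.1.2.1.mul_left hb.1.2.1,
      ha.1.2.2.mul_left hb.1.2.2⟩, fun c hc => (ha.2 c hc).mul_left (hb.2 c hc)⟩
  have hadd : ∀ a ∈ F, ∀ b ∈ F, a + b ∈ F := fun a ha b hb => by
    rw [hF] at ha hb ⊢
    exact ⟨⟨E.add_mem ha.1.1 hb.1.1, ha.1.2.1.add_left hb.1.2.1,
      ha.1.2.2.add_left hb.1.2.2⟩, fun c hc => (ha.2 c hc).add_left (hb.2 c hc)⟩
  have h0 : 0 ∈ F := (hF 0).2 ⟨⟨E.zero_mem, Commute.zero_left _, Commute.zero_left _⟩,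
    fun c _ => Commute.zero_left _⟩
  have huu : u * u ∈ F := (hF _).2 ⟨⟨hm u hu u hu rfl, (Commute.refl u).mul_left rfl, c1⟩,
    fun c hc => hc.2.1.symm.mul_left hc.2.1.symm⟩
  have hvv : v * v ∈ F := (hF _).2 ⟨⟨hm v hv v hv rfl, c2, (Commute.refl v).mul_left rfl⟩,
    fun c hc => hc.2.2.symm.mul_left hc.2.2.symm⟩
  have hF2 : ∀ a ∈ F, ∀ b ∈ F, a * a = b * b → a = b ∨ a = -b := fun a ha b hb =>
    hsq a ((hF a).1 ha).1.1 b ((hF b).1 hb).1.1 (((hF a).1 ha).2 b ((hF b).1 hb).1)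
  have k1 := card_lt_two_mul_image F h0 (fun a => a * a) hF2
  have k2 := card_lt_two_mul_image F h0 (fun a => u * u + a * a * (v * v)) fun a ha b hb e => by
    refine hF2 a ha b hb (sub_eq_zero.1 ((hD _ (E.sub_mem ((hF _).1 (hmul a ha a ha)).1.1
      ((hF _).1 (hmul b hb b hb)).1.1) _ ((hF _).1 hvv).1.1 ?_).resolve_right fun e =>
        (hD v hv v hv e).elim hne.2 hne.2))
    rw [sub_mul, add_left_cancel e, sub_self]
  have k3 : ¬ Disjoint (F.image fun a => a * a) (F.image fun a => u * u + a * a * (v * v)) := by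
    intro hd
    have := Finset.card_le_card (Finset.union_subset (s := F.image fun a => a * a)
      (t := F.image fun a => u * u + a * a * (v * v)) (u := F)
      (Finset.image_subset_iff.2 fun a ha => hmul a ha a ha)
      (Finset.image_subset_iff.2 fun a ha => hadd _ huu _ (hmul _ (hmul a ha a ha) _ hvv)))
    rw [Finset.card_union_of_disjoint hd] at this
    omega
  obtain ⟨_, h1, h3⟩ := Finset.not_disjoint_iff.1 k3
  obtain ⟨a, ha, rfl⟩ := Finset.mem_image.1 h1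
  obtain ⟨c, hc, e⟩ := Finset.mem_image.1 h3
  obtain ⟨⟨a1, a2, a3⟩, a4⟩ := (hF a).1 ha
  obtain ⟨⟨b1, b2, b3⟩, b4⟩ := (hF c).1 hc
  have h4 : Commute a (u + c * v) := a2.add_right ((a4 c ⟨b1, b2, b3⟩).mul_right a3)
  have h5 := hsq a a1 _ (E.add_mem hu (hm c b1 v hv b3)) h4 (by
    rw [← e, add_mul, mul_add, mul_add, ← mul_assoc u c, ← b2.eq, mul_assoc c v u, hvu,
      mul_assoc c v, ← mul_assoc v c, ← b3.eq]
    simp [mul_assoc])
  have h6 : Commute (u + c * v) v := by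
    rcases h5 with h5 | h5
    · exact h5 ▸ a3
    · have := (h5 ▸ a3 : Commute (-(u + c * v)) v).neg_left
      rwa [neg_neg] at this
  have h7 : u * v = v * u := by
    have := h6.eq
    rw [add_mul, mul_add, ← mul_assoc v c, ← b3.eq] at this
    exact add_right_cancel this
  rw [← h7, ← two_smul k, smul_eq_zero_iff_right h2] at h
  exact (hD u hu v hv h).elim hne.1 hne.2

theorem exists_diag {H Γ : Type*} [Group H] [Group Γ] {A G : Subgroup Γ} [Finite A]
    (hA : A ≤ normalizer (G : Set Γ)) (Φ : H →* Γ) (hΦ : ∀ h, Φ h ∈ G)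
    (hc : ∀ a ∈ A, (∀ h, a * Φ h * a⁻¹ = Φ h) ∨ ∀ h h', Commute (a * Φ h * a⁻¹) (Φ h')) :
    ∃ ψ : H →* Γ, (∀ h, ψ h ∈ G ⊓ centralizer (A : Set Γ)) ∧
      ∀ h, ψ h = 1 → ∀ h', Commute (Φ h) (Φ h') := by
  classical
  let c : Γ → (H →* Γ) → (H →* Γ) := fun a φ => (MulAut.conj a).toMonoidHom.comp φ
  have hcv : ∀ a φ h, c a φ h = a * φ h * a⁻¹ := fun _ _ _ => rfl
  have hcm : ∀ a b φ, c a (c b φ) = c (a * b) φ := fun a b φ => MonoidHom.ext fun h => by
    rw [hcv, hcv, hcv]; group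
  have hfin : {φ | ∃ a ∈ A, φ = c a Φ}.Finite :=
    ((Set.toFinite (A : Set Γ)).image fun a => c a Φ).subset fun φ ⟨a, ha, e⟩ => ⟨a, ha, e.symm⟩
  set I := hfin.toFinset
  have hI : ∀ φ, φ ∈ I ↔ ∃ a ∈ A, φ = c a Φ := fun φ => hfin.mem_toFinset
  have hcomm : ∀ φ ∈ I, ∀ φ' ∈ I, φ ≠ φ' → ∀ h h', Commute (φ h) (φ' h') := by
    intro φ hφ φ' hφ' hne h h'
    obtain ⟨a, ha, rfl⟩ := (hI φ).1 hφ
    obtain ⟨b, hb, rfl⟩ := (hI φ').1 hφ'
    rcases hc (b⁻¹ * a) (mul_mem (inv_mem hb) ha) with h1 | h1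
    · refine absurd (MonoidHom.ext fun h => ?_) hne
      rw [hcv, hcv]
      nth_rewrite 2 [← h1 h]
      group
    · have := (h1 h h').map (MulAut.conj b)
      simpa [hcv, mul_assoc] using this
  have hp : ∀ h, (I : Set (H →* Γ)).Pairwise (Function.onFun Commute fun φ => φ h) :=
    fun h φ hφ φ' hφ' hne => hcomm φ hφ φ' hφ' hne h h
  let ψ : H →* Γ := MonoidHom.mk' (fun h => I.noncommProd (fun φ => φ h) (hp h)) fun h h' =>
    (Finset.noncommProd_congr rfl (fun φ _ => map_mul φ h h') _).trans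
      (Finset.noncommProd_mul_distrib _ _ (hp h) (hp h')
        fun φ hφ φ' hφ' hne => hcomm φ hφ φ' hφ' hne h' h)
  have hψ : ∀ h, ψ h = I.noncommProd (fun φ => φ h) (hp h) := fun h => rfl
  refine ⟨ψ, fun h => ⟨?_, fun a ha => ?_⟩, fun h e h' => ?_⟩
  · refine G.noncommProd_mem (hp h) fun φ hφ => ?_
    obtain ⟨a, ha, rfl⟩ := (hI φ).1 hφ
    exact H4.conj_mem_of_mem_normalizer (hA ha) (hΦ h)
  · rw [← mul_inv_eq_iff_eq_mul, ← MulAut.conj_apply, hψ, Finset.map_noncommProd]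
    have hinj : Function.Injective (c a) := fun φ φ' e => MonoidHom.ext fun h => by
      simpa [hcv] using DFunLike.congr_fun e h
    have h1 : I.map ⟨c a, hinj⟩ = I := by
      refine Finset.eq_of_subset_of_card_le (fun φ hφ => ?_) (by rw [Finset.card_map])
      obtain ⟨φ', h1, rfl⟩ := Finset.mem_map.1 hφ
      obtain ⟨b, hb, rfl⟩ := (hI φ').1 h1
      exact (hI _).2 ⟨a * b, mul_mem ha hb, hcm a b Φ⟩
    unfold Finset.noncommProd
    congr 1
    conv_rhs => rw [← h1, Finset.map_val, Multiset.map_map]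
    rfl
  · have h1 : Φ ∈ I := (hI Φ).2 ⟨1, one_mem _, MonoidHom.ext fun h => by simp [hcv]⟩
    rw [hψ, ← Finset.mul_noncommProd_erase I h1, mul_eq_one_iff_eq_inv] at e
    rw [e]
    refine Commute.inv_left (Finset.noncommProd_commute _ _ _ _ fun φ hφ => ?_).symm
    exact hcomm Φ h1 φ (Finset.mem_of_mem_erase hφ) (Finset.ne_of_mem_erase hφ).symm h' h

theorem involves_of_ker_le {H Γ : Type*} [Group H] [Group Γ] {C : Subgroup Γ} (ψ : H →* Γ)
    (h1 : ∀ h, ψ h ∈ C) (h2 : ψ.ker ≤ center H) : Involves (H ⧸ center H) C := by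
  let φ := ψ.codRestrict C h1
  have h3 : φ.ker ≤ center H := by rwa [MonoidHom.ker_codRestrict]
  refine involves_iff.2 ⟨φ.range, (QuotientGroup.map φ.ker (center H) (MonoidHom.id H) h3).comp
    (QuotientGroup.quotientKerEquivRange φ).symm.toMonoidHom, ?_⟩
  intro x
  obtain ⟨h, rfl⟩ := QuotientGroup.mk_surjective x
  exact ⟨QuotientGroup.quotientKerEquivRange φ (QuotientGroup.mk h), by simp; rfl⟩

theorem Op.exists_hom {k : Type u} [Field k] {A : Type*} [Ring A] [Algebra k A] {x y : A}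
    (h : Op x y) (hx : x ≠ 0) : ∃ Φ : SL(2, k) →* Aˣ, Function.Injective Φ ∧
      ∀ H : Subgroup Aˣ, QT k H x → QT k H y → ∀ g, Φ g ∈ H := by
  obtain ⟨Φ, hΦ⟩ := exists_matrix_hom (R := k) h.ss h.tt h.sts h.tst
    (LinearMap.toSpanSingleton k A (x * y + y * x)) (by simp)
    (fun r r' => by
      simp only [LinearMap.toSpanSingleton_apply, smul_mul_assoc, mul_smul_comm, add_mul, mul_add,
        mul_assoc, h.ss', h.tt', h.sts', h.tst', mul_zero, add_zero, zero_add, smul_smul, mul_comm r,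
        smul_add, smul_zero])
    (fun r => by simp [mul_add, add_mul, mul_assoc, h.ss', h.ss, h.sts1])
    (fun r => by simp [mul_add, add_mul, mul_assoc, h.tt', h.tt, h.tst1])
  have hΦ' : ∀ a b c d e, (Φ (M2 a b c d e)).val =
      a • (x * y) + b • x + c • y + d • (y * x) + (1 - (x * y + y * x)) := fun a b c d e => by
    rw [hΦ]
    simp only [LinearMap.toSpanSingleton_apply, smul_mul_assoc, add_mul, mul_assoc, h.ss', h.tt',
      h.sts', h.tst', h.ss, h.tt, h.sts1, h.tst1, mul_zero, add_zero, zero_add]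
  refine ⟨Φ, (injective_iff_map_eq_one Φ).2 fun g e => ?_, fun H h1 h2 g => ?_⟩
  · obtain ⟨a, b, c, d, hd, rfl⟩ := M2_cases g
    have e1 := (hΦ' a b c d hd).symm.trans (congrArg Units.val e)
    have k1 := congrArg (fun z => x * y * z * x) e1
    have k2 := congrArg (fun z => x * y * z * (y * x)) e1
    have k3 := congrArg (fun z => x * z * x) e1
    have k4 := congrArg (fun z => x * z * (y * x)) e1
    simp only [smul_mul_assoc, mul_smul_comm, add_mul, mul_add, sub_mul, mul_sub, mul_assoc, h.ss',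
      h.tt', h.sts', h.tst', h.ss, h.tt, h.sts1, h.tst1, mul_zero, add_zero, zero_add, smul_zero,
      Units.val_one, one_mul, mul_one, sub_self, sub_zero, zero_mul] at k1 k2 k3 k4
    have hi := smul_left_injective k hx
    have : (1 : SL(2, k)) = M2 1 0 0 1 (by ring) := Subtype.ext Matrix.one_fin_two
    rw [this, M2_eq_iff]
    exact ⟨hi (by simpa using k1), hi (by simpa using k2), hi (by simpa using k3),
      hi (by simpa using k4)⟩
  · refine sl2_induction (fun g => Φ g ∈ H) (fun c => (h1.mem c).mem ?_) (fun c => (h2.mem c).mem ?_)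
      (fun a b ha hb => map_mul Φ a b ▸ mul_mem ha hb) g
    · rw [show sl2U c = M2 1 c 0 1 (by ring) from rfl, hΦ']; module
    · rw [show sl2L c = M2 1 0 c 1 (by ring) from rfl, hΦ']; module

theorem Op.conj_w {A : Type*} [Ring A] {z y y' : A} (h : Op z y') (h1 : y' * y = 0)
    (h2 : y * y' = 0) (h3 : y' * z * y = y) (h4 : y * z * y' = y) :
    (un z h.ss * (un y' h.tt)⁻¹ * un z h.ss).val * (-y) *
      ((un z h.ss * (un y' h.tt)⁻¹ * un z h.ss)⁻¹).val = z * y * z := by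
  have h2' : ∀ w, y * (y' * w) = 0 := fun w => by rw [← mul_assoc, h2, zero_mul]
  have h4' : ∀ w, y * (z * (y' * w)) = y * w := fun w => by rw [← mul_assoc, ← mul_assoc, h4]
  have e1 : (1 + z) * (1 - y') * (1 + z) * y = z * y := by
    rw [mul_assoc] at h3
    simp only [add_mul, sub_mul, mul_add, mul_sub, one_mul, mul_one, mul_assoc, h1, h3, h.ss',
      mul_zero]
    abel
  have e2 : y * ((1 - z) * ((1 + y') * (1 - z))) = -(y * z) := by
    rw [mul_assoc] at h4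
    simp only [add_mul, sub_mul, mul_add, mul_sub, one_mul, mul_one, mul_assoc, h2, h2', h4, h4',
      h.ss, mul_zero]
    abel
  simp only [mul_inv_rev, inv_inv, Units.val_mul, val_un, val_inv_un]
  rw [mul_neg, e1, neg_mul, mul_assoc, e2, mul_neg, neg_neg, mul_assoc]

variable {k : Type u} [Field k] {M : Type*} [AddCommGroup M] [Module k M] [Finite M]
  {G : Subgroup (M →ₗ[k] M)ˣ} {s t : M →ₗ[k] M} {p : ℕ} [Fact p.Prime] [CharP k p] [Finite k]

theorem exists_op_aSp (hk : GoodField k) (hs : QD G s) (ht : QD G t) (h : Op s t)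
    {z : M →ₗ[k] M} (hz : z ∈ aSp G s) (h0 : z ≠ 0) : ∃ y ∈ aSp G t, QD G y ∧ Op z y :=
  exists_op_mem hk (hs.of_mem hz h0) ht
    (hs.opp_mem hk ht (h.sts.symm ▸ hs.ne) hz ht.qt.mem_aSp h0 ht.ne)

theorem exists_conj_triple (hk : GoodField k) (hG : JM k G) (hs : QD G s) (ht : QD G t) (h : Op s t)
    {z : M →ₗ[k] M} (hz : z ∈ aSp G s) (h0 : z ≠ 0) :
    ∃ g ∈ Lc G s, g.val * s * (g⁻¹).val = z * t * z := by
  obtain ⟨y, hy, hy', hop⟩ := exists_op_aSp hk hs ht h hz h0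
  obtain ⟨e1, e2⟩ := ef_unique hs ht h hz hy h0 hop
  have r1 := rch_of_mem hk hG hs hz h0
  have m1 := un_mem_Lc (hs.of_mem hz h0) r1
  have m2 := un_mem_Lc hy' (r1.trans (hop.rch (hs.of_mem hz h0) hy'))
  refine ⟨(un z hop.ss * (un y hop.tt)⁻¹ * un z hop.ss) * ((un s h.ss)⁻¹ * un t h.tt),
    mul_mem (mul_mem (mul_mem m1 (inv_mem m2)) m1) (mul_mem (inv_mem (un_mem_Lc hs (Rch.refl s)))
      (un_mem_Lc ht (h.rch hs ht))), ?_⟩
  rw [← hop.conj_w (aSp_mul hy ht.qt.mem_aSp) (aSp_mul ht.qt.mem_aSp hy) (by rw [e2, h.tst])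
    (by rw [mul_assoc, e1, h.tst1]), ← h.conj_eq_neg]
  simp only [mul_inv_rev, Units.val_mul, mul_assoc]

theorem triple_mem (hk : GoodField k) (hG : JM k G) (hs : QD G s) (ht : QD G t) (h : Op s t)
    {z : M →ₗ[k] M} (hz : z ∈ aSp G s) : z * t * z ∈ aSp G s := by
  by_cases h0 : z = 0
  · rw [h0, mul_zero]; exact zero_mem _
  obtain ⟨g, hg, e⟩ := exists_conj_triple hk hG hs ht h hz h0
  exact (mem_aSp hs.qt.sq).2 ⟨e ▸ hs.qt.conj (Lc_le' s hg),
    ((range_mul_le _ _).trans (range_mul_le _ _)).trans hz.2.1, hz.2.2.1.trans (ker_le_ker_mul _ _)⟩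

theorem triple_inj (hk : GoodField k) (hG : JM k G) (hs : QD G s) (ht : QD G t) (h : Op s t)
    {z w : M →ₗ[k] M} (hz : z ∈ aSp G s) (hw : w ∈ aSp G s) (e : z * t * z = w * t * w) :
    z = w ∨ z = -w := by
  have : Finite (M →ₗ[k] M) := Finite.of_injective _ DFunLike.coe_injective
  have hinj : ∀ a ∈ aSp G s, a * t = 0 → a = 0 := fun a ha e => by
    have := aSp_right ha (w := 1 - t * s) (by rw [mul_sub, h.sts1, mul_one, sub_self])
    rwa [mul_sub, ← mul_assoc, e, zero_mul, sub_zero, mul_one] at this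
  have key := jordan_anticomm hk.two ((aSp G s).map (LinearMap.mulRight k t)) (by
    rintro _ ⟨a, ha, rfl⟩ _ ⟨b, hb, rfl⟩
    refine ⟨_, sub_mem (sub_mem (triple_mem hk hG hs ht h (add_mem ha hb))
      (triple_mem hk hG hs ht h ha)) (triple_mem hk hG hs ht h hb), ?_⟩
    simp only [LinearMap.mulRight_apply, add_mul, mul_add, sub_mul, mul_assoc]
    abel) (by
    rintro _ ⟨a, ha, rfl⟩ _ ⟨b, hb, rfl⟩ e
    simp only [LinearMap.mulRight_apply] at e ⊢
    by_cases h0 : a = 0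
    · exact Or.inl (by rw [h0, zero_mul])
    obtain ⟨y, hy, -, hop⟩ := exists_op_aSp hk hs ht h ha h0
    have e2 := (ef_unique hs ht h ha hy h0 hop).2
    have e3 := aSp_left hb (w := 1 - s * t) (by rw [sub_mul, h.sts, one_mul, sub_self])
    rw [sub_mul, one_mul, sub_eq_zero] at e3
    refine Or.inr ?_
    calc b * t = s * (t * s * t) * b * t := by rw [h.tst, ← e3]
      _ = s * y * (a * t * (b * t)) := by rw [← e2]; simp only [mul_assoc]
      _ = 0 := by rw [e, mul_zero])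
    ⟨_, sub_mem hz hw, rfl⟩ ⟨_, add_mem hz hw, rfl⟩ (by
      simp only [LinearMap.mulRight_apply, add_mul, mul_add, sub_mul, mul_sub, ← mul_assoc, e]
      abel)
  rcases key with key | key
  · exact Or.inl (sub_eq_zero.1 (hinj _ (sub_mem hz hw) key))
  · exact Or.inr (eq_neg_of_add_eq_zero_left (hinj _ (add_mem hz hw) key))

/-- Conjugacy under the group of the class. -/
def Cn (G : Subgroup (M →ₗ[k] M)ˣ) (s x y : M →ₗ[k] M) : Prop :=
  ∃ g ∈ Lc G s, g.val * x * (g⁻¹).val = y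

theorem Cn.symm {x y : M →ₗ[k] M} (h : Cn G s x y) : Cn G s y x :=
  let ⟨g, hg, e⟩ := h; ⟨g⁻¹, inv_mem hg, by simp [← e, mul_assoc]⟩

theorem Cn.trans {x y z : M →ₗ[k] M} (h : Cn G s x y) (h' : Cn G s y z) : Cn G s x z :=
  let ⟨g, hg, e⟩ := h; let ⟨g', hg', e'⟩ := h'
  ⟨g' * g, mul_mem hg' hg, by simp [← e', ← e, mul_assoc]⟩

theorem Cn.conj (hk : GoodField k) {x y : M →ₗ[k] M} (h : Cn G s x y) {a : (M →ₗ[k] M)ˣ}
    (ha : a ∈ Sb hk G s) : Cn G s (a.val * x * (a⁻¹).val) (a.val * y * (a⁻¹).val) :=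
  let ⟨g, hg, e⟩ := h
  ⟨a * g * a⁻¹, H4.conj_mem_of_mem_normalizer (Sb_le_normalizer hk ha) hg, by
    simp [← e, mul_assoc]⟩

theorem Lc_congr (h : Rch G s t) : Lc G t ≤ Lc G s :=
  closure_mono fun _ ⟨x, hx, h1, e⟩ => ⟨x, hx, h.trans h1, e⟩

theorem exists_big (hk : GoodField k) (hG : JM k G) (hs : QD G s) {x : M →ₗ[k] M}
    (hx : Rch G s x) (X : Finset (M →ₗ[k] M)) (hX : ∀ z, z ∈ X ↔ z ∈ aSp G s ∧ z ≠ 0) :
    ∃ T ⊆ X, X.card ≤ 2 * T.card ∧ ∀ z ∈ T, Cn G s x z := by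
  classical
  obtain ⟨g, hg, e⟩ := hx.exists_conj hk hs
  have h1 : (g⁻¹).val * x * (g⁻¹⁻¹).val ∈ aSp G s := by
    simpa [mul_assoc] using conj_mem_aSp e (inv_mem (Lc_le' s hg))
  have h2 := (hx.qd hs).conj (inv_mem (Lc_le' s hg))
  have h3 : Cn G s x ((g⁻¹).val * x * (g⁻¹⁻¹).val) := ⟨_, inv_mem hg, rfl⟩
  generalize (g⁻¹).val * x * (g⁻¹⁻¹).val = x' at h1 h2 h3
  obtain ⟨y, hy, hop⟩ := hG.exists_op h2
  have e1 := hs.aSp_eq h1 h2.ne
  have key : ∀ z ∈ X, Cn G s x' (z * y * z) := fun z hz => by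
    obtain ⟨g, hg, e⟩ := exists_conj_triple hk hG h2 hy hop (e1 ▸ ((hX z).1 hz).1) ((hX z).1 hz).2
    exact ⟨g, Lc_congr (rch_of_mem hk hG hs h1 h2.ne) hg, e⟩
  refine ⟨X.image fun z => z * y * z, Finset.image_subset_iff.2 fun z hz => (hX _).2
    ⟨e1 ▸ triple_mem hk hG h2 hy hop (e1 ▸ ((hX z).1 hz).1), ?_⟩,
    card_le_two_mul_image X _ fun a ha b hb =>
      triple_inj hk hG h2 hy hop (e1 ▸ ((hX a).1 ha).1) (e1 ▸ ((hX b).1 hb).1), fun z hz => ?_⟩
  · obtain ⟨g, hg, e⟩ := key z hz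
    exact e ▸ (h2.conj (Lc_le' s hg)).ne
  · obtain ⟨w, hw, rfl⟩ := Finset.mem_image.1 hz
    exact h3.trans (key w hw)

theorem cn_three (hk : GoodField k) (hG : JM k G) (hs : QD G s) {x y z : M →ₗ[k] M}
    (hx : Rch G s x) (hy : Rch G s y) (hz : Rch G s z) :
    Cn G s x y ∨ Cn G s y z ∨ Cn G s x z := by
  classical
  have : Finite (M →ₗ[k] M) := Finite.of_injective _ DFunLike.coe_injective
  set X := (Set.toFinite {z | z ∈ aSp G s ∧ z ≠ 0}).toFinset
  have hX : ∀ z, z ∈ X ↔ z ∈ aSp G s ∧ z ≠ 0 := fun z => Set.Finite.mem_toFinset _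
  obtain ⟨T1, a1, b1, c1⟩ := exists_big hk hG hs hx X hX
  obtain ⟨T2, a2, b2, c2⟩ := exists_big hk hG hs hy X hX
  obtain ⟨T3, a3, b3, c3⟩ := exists_big hk hG hs hz X hX
  by_contra hne
  push Not at hne
  have d1 : Disjoint T1 T2 := Finset.disjoint_left.2 fun w h1 h2 =>
    hne.1 ((c1 w h1).trans (c2 w h2).symm)
  have d2 : Disjoint (T1 ∪ T2) T3 := Finset.disjoint_union_left.2
    ⟨Finset.disjoint_left.2 fun w h1 h2 => hne.2.2 ((c1 w h1).trans (c3 w h2).symm),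
      Finset.disjoint_left.2 fun w h1 h2 => hne.2.1 ((c2 w h1).trans (c3 w h2).symm)⟩
  have h1 := Finset.card_le_card (Finset.union_subset (Finset.union_subset a1 a2) a3)
  rw [Finset.card_union_of_disjoint d2, Finset.card_union_of_disjoint d1] at h1
  have h2 := Finset.card_pos.2 ⟨s, (hX s).2 ⟨hs.qt.mem_aSp, hs.ne⟩⟩
  omega

theorem cn_of_odd (hk : GoodField k) (hG : JM k G) (hs : QD G s) {a : (M →ₗ[k] M)ˣ}
    (ha : a ∈ Sb hk G s) (hodd : Odd (orderOf a)) : Cn G s s (a.val * s * (a⁻¹).val) := by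
  rcases cn_three hk hG hs (Rch.refl s) ha.2 (mul_mem ha ha).2 with h | h | h
  · exact h
  · simpa [mul_assoc] using h.conj hk (inv_mem ha)
  · have key : ∀ n : ℕ, Cn G s s (((a * a) ^ n).val * s * (((a * a) ^ n)⁻¹).val) := by
      intro n
      induction n with
      | zero => exact ⟨1, one_mem _, by simp⟩
      | succ n ih =>
        have := ih.conj hk (mul_mem ha ha)
        refine h.trans ?_
        simpa only [pow_succ', mul_inv_rev, Units.val_mul, mul_assoc] using this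
    obtain ⟨m, hm⟩ := hodd
    have := key (m + 1)
    rwa [← sq, ← pow_mul, show 2 * (m + 1) = 2 * m + 1 + 1 by ring, ← hm, pow_succ,
      pow_orderOf_eq_one, one_mul] at this

include p in
theorem Op.exists_fixed' (hk : GoodField k) (h : Op s t) (hs : QT k G s) (ht : QT k G t)
    {B : Subgroup (M →ₗ[k] M)ˣ} (hB : B ≤ normalizer (G : Set (M →ₗ[k] M)ˣ))
    (hc : (Nat.card B).Coprime (Nat.card G)) (h2 : ∀ a ∈ B, a.val * s * (a⁻¹).val = s) :
    ∃ t', QT k G t' ∧ Op s t' ∧ ∀ a ∈ B, a.val * t' * (a⁻¹).val = t' := by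
  obtain ⟨u, hu, e⟩ := H4.exists_fixed_in_orbit (X := Cj (M →ₗ[k] M)) (A := B)
    (K := UG G s) (x := ⟨t⟩)
    (fun a ha => h.mem_normalizer_UG (hB ha) (a := 1) (by rw [one_smul, h2 a ha]) one_ne_zero)
    (H4.coprime_of_le_right hc inf_le_left)
    (Or.inr (H4.isSolvable_of_isPGroup (isPGroup_UG (p := p) G s)))
    (fun a ha => by
      obtain ⟨u, hu, e⟩ := h.trans (p := p) hk (by simpa only [h2 a ha] using h.conj a) hs ht
        (QT.conjN ht (hB ha))
      exact ⟨u, hu, Cj.ext e.symm⟩)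
  exact ⟨_, ht.conj hu.1, by simpa only [h.UG_conj hu] using h.conj u,
    fun a ha => congrArg Cj.val (e a ha)⟩

/-- The fixed points of a coprime group involve `PSL₂`. -/
theorem involves_psl (hk : GoodField k) (hp : 5 ≤ p) (hG : JM k G) {A : Subgroup (M →ₗ[k] M)ˣ}
    (hA : A ≤ normalizer (G : Set (M →ₗ[k] M)ˣ)) (hcop : (Nat.card A).Coprime (Nat.card G))
    (hsol : Group.IsSolvable A ∨ Group.IsSolvable G) {a : M →ₗ[k] M} (ha : QT k G a) (h0 : a ≠ 0)
    {H : Type*} [Group H] (e : H ≃* SL(2, k)) :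
    Involves (H ⧸ center H) ↥(G ⊓ centralizer (A : Set (M →ₗ[k] M)ˣ)) := by
  obtain ⟨s, hs⟩ := exists_qd ha h0
  obtain ⟨t, ht, h⟩ := hG.exists_op hs
  have h2 : 2 ∣ Nat.card G := by
    have h1 : orderOf (h.tor (-1 : kˣ)) = 2 := by
      refine orderOf_eq_prime (by rw [← map_pow]; simp) fun e => hk.two ?_
      have := congrArg Units.val (h.tor_injective hs.ne (e.trans (map_one _).symm))
      rw [Units.val_neg, Units.val_one] at this
      linear_combination -this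
    exact h1 ▸ orderOf_dvd_natCard G (h.tor_mem hs.qt ht.qt _)
  have hcB := H4.coprime_of_le_left (B := A ⊓ Sb hk G s) hcop inf_le_left
  obtain ⟨g, hg, e1⟩ := H4.exists_fixed_in_orbit (X := Cj (M →ₗ[k] M)) (A := A ⊓ Sb hk G s)
    (K := Lc G s) (x := ⟨s⟩) (inf_le_right.trans (Sb_le_normalizer hk))
    (H4.coprime_of_le_right hcB (Lc_le' s))
    (hsol.imp (H4.isSolvable_of_le inf_le_left) (H4.isSolvable_of_le (Lc_le' s))) fun b hb => by
      obtain ⟨g, hg, e⟩ := cn_of_odd hk hG hs hb.2 (Nat.coprime_two_right.1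
        ((hcop.coprime_dvd_left (orderOf_dvd_natCard A hb.1)).coprime_dvd_right h2))
      exact ⟨g, hg, Cj.ext e.symm⟩
  have hx := hs.conj (Lc_le' s hg)
  have hr := (QG_le_Sb hk hp hG hs (Lc_le s hg)).2
  replace e1 : ∀ b ∈ A ⊓ Sb hk G s, b.val * (g.val * s * (g⁻¹).val) * (b⁻¹).val =
    g.val * s * (g⁻¹).val := fun b hb => congrArg Cj.val (e1 b hb)
  generalize g.val * s * (g⁻¹).val = x at hx hr e1
  obtain ⟨y0, hy0, h3⟩ := hG.exists_op hx
  obtain ⟨y, hy, h4, e2⟩ := h3.exists_fixed' (p := p) hk hx.qt hy0.qt (inf_le_left.trans hA) hcB e1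
  have hy' : QD G y := hx.of_rk_le hy (h4.ne hx.ne)
    (h4.tst ▸ (rk_mul_le_left _ _).trans (rk_mul_le_right _ _))
  obtain ⟨Φ, hΦ, h5⟩ := h4.exists_hom (k := k) hx.ne
  have h6 := h5 (Lc G s) (qt_Lc hk hG hx hr) (qt_Lc hk hG hy' (hr.trans (h4.rch hx hy')))
  have h7 := h5 (centralizer ((A ⊓ Sb hk G s : Subgroup _) : Set (M →ₗ[k] M)ˣ))
    (qt_centralizer h4.ss fun b hb => conj_eq_iff.1 (e1 b hb))
    (qt_centralizer h4.tt fun b hb => conj_eq_iff.1 (e2 b hb))
  obtain ⟨ψ, h8, h9⟩ := exists_diag hA (Φ.comp e.toMonoidHom) (fun g => Lc_le' s (h6 _))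
    fun b hb => by
      by_cases hb' : b ∈ Sb hk G s
      · exact Or.inl fun g => mul_inv_eq_iff_eq_mul.2 (h7 (e g) b ⟨hb, hb'⟩)
      · exact Or.inr fun g g' => (Lc_comm hk hG (fun h => hb' ⟨hA hb, h⟩) _ (h6 (e g')) _
          (conj_mem_Lc (hA hb) (h6 (e g)))).symm
  refine involves_of_ker_le ψ h8 fun g hg => mem_center_iff.2 fun g' => ?_
  refine (hΦ.comp e.injective) ?_
  simpa using (h9 g hg g').eq.symm

end Cfsg.Agent.H54.Fl
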