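import Cfsg.Agent.H54.FlG
import Cfsg.Agent.H51.Constraint
import Cfsg.Agent.H4.CoprimeExt

set_option autoImplicit false
set_option linter.unusedSectionVars false
set_option linter.unusedSimpArgs false

/-! The ZJ theorem under coprime action. -/

namespace Cfsg.Agent.H54.Fl

open Cfsg Module Cfsg.Agent.H36 Subgroup
open scoped MatrixGroups commutatorElement

universe u

variable {p : ℕ} [hp : Fact p.Prime] {Y : Type u} [Group Y] [Finite Y]

theorem involves_of_le_map {Γ : Type*} [Group Γ] (ρ : Y →* Γ) {H : Subgroup Y} {K : Subgroup Γ}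
    (h : K ≤ H.map ρ) : Involves K H :=
  involves_trans (involves_iff.2 ⟨K.subgroupOf _, (subgroupOfEquivOfLe h).toMonoidHom,
    (subgroupOfEquivOfLe h).surjective⟩) (involves_of_surjective _ (ρ.subgroupMap_surjective H))

theorem map_inf_centralizer_le {Γ : Type*} [Group Γ] (ρ : Y →* Γ) {G A : Subgroup Y}
    (hA : A ≤ normalizer (G : Set Y)) (hcop : (Nat.card A).Coprime (Nat.card G))
    (hsol : Group.IsSolvable A ∨ Group.IsSolvable G) :
    G.map ρ ⊓ centralizer ((A.map ρ : Subgroup Γ) : Set Γ) ≤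
      (G ⊓ centralizer (A : Set Y)).map ρ := by
  rintro _ ⟨⟨x, hx, rfl⟩, h⟩
  obtain ⟨n, hn, e⟩ := H4.exists_centralizer_of_fixed_mod (N := G ⊓ ρ.ker)
    (H4.le_normalizer_inf hA le_normalizer_of_normal) (H4.coprime_of_le_right hcop inf_le_left)
    (hsol.imp id (H4.isSolvable_of_le inf_le_left)) (k := x) fun a ha =>
      ⟨G.mul_mem (H4.conj_mem_of_mem_normalizer (hA ha) hx) (G.inv_mem hx), MonoidHom.mem_ker.2 (by
        rw [map_commutatorElement, commutatorElement_eq_one_iff_mul_comm]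
        exact h _ (mem_map_of_mem ρ ha))⟩
  exact ⟨n * x, ⟨G.mul_mem hn.1 hx, e⟩, by rw [map_mul, (MonoidHom.mem_ker).1 hn.2, one_mul]⟩

theorem mem_chiefStab_of_quadratic (hp5 : 5 ≤ p) {G A : Subgroup Y} [hG : G.Normal]
    (hcop : (Nat.card A).Coprime (Nat.card G)) (hsol : Group.IsSolvable A ∨ Group.IsSolvable G)
    {H : Type*} [Group H] (e : H ≃* SL(2, ZMod p))
    (hfix : ¬ Involves (H ⧸ center H) ↥(G ⊓ centralizer (A : Set Y))) {B : Subgroup Y}
    (hB : IsPGroup p B) {g : Y} (hg : g ∈ G) (hq : ⁅⁅B, zpowers g⁆, zpowers g⁆ = ⊥) :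
    g ∈ chiefStab B := by
  refine mem_chiefStab.2 fun U V h hU => ?_
  obtain ⟨n, ρ, h1, h2⟩ := exists_chief_rep h (hB.to_le hU)
  have hk := goodField_zmod hp5
  refine (h2 g).2.1 (Units.ext (sub_eq_zero.1 (by_contra fun h0 => hfix ?_)))
  exact involves_trans (involves_psl hk hp5 (jm_of_hyp (p := p) hk (h1 G hG))
    ((map_mono le_normalizer_of_normal).trans (le_normalizer_map ρ)) (coprime_map ρ hcop)
    (hsol.imp (solvable_map ρ) (solvable_map ρ)) (qt_zmod (mem_map_of_mem ρ hg) ((h2 g).1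
      (((commutator_mono (commutator_mono hU le_rfl) le_rfl).trans hq.le).trans bot_le))) h0 e)
    (involves_of_le_map ρ (map_inf_centralizer_le ρ le_normalizer_of_normal hcop hsol))

theorem zj_coprime (hp5 : 5 ≤ p) {G A : Subgroup Y} [hG : G.Normal] (hGA : G ⊔ A = ⊤)
    (hcop : (Nat.card A).Coprime (Nat.card G)) (hsol : Group.IsSolvable A ∨ Group.IsSolvable G)
    (hpA : (Nat.card A).Coprime p)
    (hc : ∀ x ∈ G, x ∈ centralizer ((pCore p Y : Subgroup Y) : Set Y) → x ∈ pCore p Y)
    {H : Type*} [Group H] (e : H ≃* SL(2, ZMod p))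
    (hfix : ¬ Involves (H ⧸ center H) ↥(G ⊓ centralizer (A : Set Y))) {S : Subgroup Y}
    (hS : H85.IsSyl p S G) (n : ℕ) : (sInf (H51.maxEA n S)).Normal := by
  have hin : ∀ x : Y, ∀ k, x ^ p ^ k = 1 → x ∈ G := fun x k hx => by
    obtain ⟨g, hg, a, ha, rfl⟩ := mem_sup_of_normal_left.1 (hGA ▸ mem_top x)
    refine G.mul_mem hg ((QuotientGroup.eq_one_iff a).1 (orderOf_eq_one_iff.1 ?_))
    refine Nat.eq_one_of_dvd_coprimes (hpA.pow_right k)
      ((orderOf_map_dvd (QuotientGroup.mk' G) a).trans (orderOf_dvd_natCard A ha))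
      (orderOf_dvd_of_pow_eq_one ?_)
    have := congrArg (QuotientGroup.mk' G) hx
    rwa [map_pow, map_mul, QuotientGroup.mk'_apply, (QuotientGroup.eq_one_iff g).2 hg, one_mul] at this
  obtain ⟨P, hP⟩ := hS.isPGroup.exists_le_sylow
  obtain rfl : P = S := hS.eq_of_le P.isPGroup' hP fun x hx =>
    let ⟨k, hk⟩ := P.isPGroup' ⟨x, hx⟩; hin x k (congrArg Subtype.val hk)
  have hT := H3.pCore_isPGroup p Y
  have h1 := H51.zj_inf_normal (by omega) P (H51.isStronglyClosed_self _) n (fun B _ hB a _ ⟨k, hk⟩ hq => by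
    have := chiefStab_normal B
    refine H51.le_opMod le_top le_normalizer_of_normal (fun x hx => ?_)
      (mem_chiefStab_of_quadratic hp5 hcop hsol e hfix hB (hin a k hk) hq)
    obtain ⟨j, hj⟩ := H85.exists_pow_coprime (p := p) (isOfFinOrder_of_finite x)
    exact ⟨j, mem_centralizer_of_mem_chiefStab hB hj (pow_mem hx _)⟩) (pCore p Y) inferInstance hT
  have h2 : sInf (H51.maxEA n (P : Subgroup Y)) ≤ pCore p Y := by
    have := chiefStab_normal (pCore p Y)
    have h3 : G ⊓ chiefStab (pCore p Y) ≤ pCore p Y := by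
      refine H3.le_pCore (isPGroup_of_coprime fun g hg hg' => ?_)
      have h2 := coprime_orderOf_of_mem_isPGroup hT hg'
        (hc g hg.1 (mem_centralizer_of_mem_chiefStab hT hg' hg.2))
      rwa [Nat.coprime_self, orderOf_eq_one_iff] at h2
    intro a ha
    have haG := hS.le (H51.sInf_maxEA_le_self n _ ha)
    refine h3 ⟨haG, mem_chiefStab_of_quadratic hp5 hcop hsol e hfix hT haG ?_⟩
    exact H51.commutator_eq_bot_of_le
      (H51.isMulCommutative_iff_commutator.mp (H51.sInf_maxEA_comm n _))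
      ((commutator_mono le_rfl (zpowers_le.2 ha)).trans
        (H51.commutator_le_right_of_le_normalizer ((H3.pCore_le_sylow P).trans
          (le_normalizer.trans (H51.normalizer_le_normalizer_sInf n _))))) (zpowers_le.2 ha)
  rwa [inf_of_le_left h2] at h1

theorem zj_factorization_coprime {G : Type u} [Group G] [Finite G] (hp5 : 5 ≤ p)
    (hG : IsPConstrained p G) (S : Sylow p G) {A : Type*} [Group A] [Finite A] (φ : A →* MulAut G)
    (hA : (Nat.card A).Coprime (Nat.card G)) (hsol : Group.IsSolvable A ∨ Group.IsSolvable G)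
    {H : Type*} [Group H] (e : H ≃* SL(2, ZMod p))
    (hfix : ¬ Involves (H ⧸ center H) (H4.Ext.fix φ)) (n : ℕ) :
    pPrimeCore p G ⊔ normalizer ((sInf (H51.maxEA n (S : Subgroup G)) : Subgroup G) : Set G) = ⊤ := by
  by_cases hd : p ∣ Nat.card G
  swap
  · refine top_le_iff.1 (le_trans (H3.le_pPrimeCore ?_) le_sup_left)
    rw [card_top]; exact ((Nat.Prime.coprime_iff_not_dvd hp.out).2 hd).symm
  have := H4.Ext.finite_semidirect φ
  have hsup : H4.Ext.L φ ⊤ ⊔ H4.Ext.R φ ⊤ = ⊤ := top_le_iff.1 fun x _ =>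
    SemidirectProduct.inl_left_mul_inr_right x ▸
      mul_mem_sup (mem_map_of_mem _ (mem_top _)) (mem_map_of_mem _ (mem_top _))
  have hnorm : ∀ K : Subgroup G, K.Characteristic → (H4.Ext.L φ K).Normal := fun K hK =>
    normalizer_eq_top_iff.1 (top_le_iff.1 (hsup.ge.trans (sup_le
      ((map_mono le_normalizer_of_normal).trans (le_normalizer_map _))
      ((H4.Ext.inv_iff φ).1 (H4.Ext.inv_of_characteristic φ K)))))
  have hN := hnorm (pPrimeCore p G) (H3.pPrimeCore_characteristic p G)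
  have hL := hnorm ⊤ inferInstance
  set π := QuotientGroup.mk' (H4.Ext.L φ (pPrimeCore p G))
  have hπ : Function.Surjective π := QuotientGroup.mk'_surjective _
  set f := π.comp SemidirectProduct.inl with hf
  have hk : f.rangeRestrict.ker = pPrimeCore p G := by
    rw [MonoidHom.ker_rangeRestrict, hf, ← MonoidHom.comap_ker, QuotientGroup.ker_mk',
      comap_map_eq_self_of_injective SemidirectProduct.inl_injective]
  have hk' : (Nat.card f.rangeRestrict.ker).Coprime p := hk.symm ▸ H3.pPrimeCore_coprime p G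
  have hr : (H4.Ext.L φ ⊤).map π = f.range := by rw [map_map, MonoidHom.range_eq_map]
  have hcop := H4.Ext.coprime_R_L φ (H := ⊤) (by rwa [card_top])
  have hsol' := H4.Ext.solv_or φ (H4.Ext.solv_or_top hsol ⊤)
  have hn : f.range.Normal := hr ▸ hL.map π hπ
  have h1 := zj_coprime hp5 (G := f.range) (A := (H4.Ext.R φ ⊤).map π)
    (by rw [← hr, ← Subgroup.map_sup, hsup, map_top_of_surjective π hπ]) (hr ▸ coprime_map π hcop)
    (hr ▸ hsol'.imp (solvable_map π) (solvable_map π))
    (((hA.coprime_dvd_right hd).coprime_dvd_left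
      (by rw [H4.Ext.card_R, card_top])).coprime_dvd_left (card_map_dvd _ π))
    (fun x hx h => H85.pCoreOf_le_pCore f.range ⟨⟨x, hx⟩,
      (H51.isPConstrained_iff_of_ker f.rangeRestrict_surjective hk).1 hG fun y hy =>
        Subtype.ext (h y (H85.pCoreOf_le_pCore f.range ⟨y, hy, rfl⟩)), rfl⟩) e
    (fun h => hfix (involves_trans h (involves_of_le_map f (by
      rw [← hr, hf, ← map_map, ← top_inf_eq (H4.Ext.fix φ)]
      exact (map_inf_centralizer_le π le_normalizer_of_normal hcop hsol').trans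
        (map_mono (H4.Ext.L_inf_centralizer φ ⊤).le))))) (S := (S : Subgroup G).map f)
    (MonoidHom.range_eq_map f ▸ (H85.isSyl_top S).map f) n
  rw [← H51.map_sInf_maxEA_of_injOn n (H6.injOn_of_coprime_ker
    (by rwa [MonoidHom.ker_rangeRestrict] at hk') S.isPGroup'),
    ← f.subtype_comp_rangeRestrict, ← map_map] at h1
  have h2 := H6.normalizer_map_of_coprime_ker f.rangeRestrict_surjective hk'
    (S.isPGroup'.to_le (H51.sInf_maxEA_le_self n _))
  have h3 := h1.of_map_subtype
  rw [normalizer_eq_top] at h2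
  rw [← hk, sup_comm, ← comap_map_eq, ← h2, comap_top]

end Cfsg.Agent.H54.Fl
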