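import Mathlib
import Cfsg.Agent.H53.FlavDefs
import Cfsg.Agent.H52.Pump
import Cfsg.Agent.H63.QuoCore
import Cfsg.Agent.H4.CoprimeAction
import Cfsg.Agent.H8.SylowIn
import Cfsg.Agent.S0033
import Cfsg.Agent.S0227
import Cfsg.Agent.S0205

/-! Flavell's theorems on components, tools: Thompson's theorem, Glauberman's theorem and the
Hall-Higman-Shult theorem in the form used for perfect subgroups. -/

set_option autoImplicit false
set_option linter.unusedSectionVars false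

namespace Cfsg.Agent.H54.FlavC

open Cfsg Cfsg.Agent.H52 Subgroup
open scoped commutatorElement Cfsg.Agent.H63

universe u

variable {X : Type u} [Group X]

theorem solv_of_prime {R : Subgroup X} {r : ℕ} (hr : r.Prime) (hR : Nat.card R = r) :
    Group.IsSolvable R := by
  have : Fact r.Prime := ⟨hr⟩
  have := isCyclic_of_prime_card hR
  exact H4.isSolvable_of_isMulCommutative R

theorem cop_of_le {R G A : Subgroup X} {r : ℕ} (hR : Nat.card R = r)
    (hc : (Nat.card G).Coprime r) (h : A ≤ G) : (Nat.card R).Coprime (Nat.card A) := by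
  rw [hR]; exact (coprime_card_of_le h hc).symm

theorem exists_gen [Finite X] {R : Subgroup X} {r : ℕ} (hr : r.Prime) (hR : Nat.card R = r) :
    ∃ x : X, orderOf x = r ∧ zpowers x = R := by
  have : Fact r.Prime := ⟨hr⟩
  obtain ⟨x, hx, ho⟩ := exists_orderOf_eq_prime_of_dvd (p := r) (N := R) (by rw [hR])
  refine ⟨x, ho, eq_of_le_of_card_ge (zpowers_le.mpr hx) ?_⟩
  rw [Nat.card_zpowers, ho, hR]

theorem inf_eq_bot_of_cop [Finite X] {R A : Subgroup X} {r : ℕ} (hR : Nat.card R = r)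
    (hc : (Nat.card A).Coprime r) : A ⊓ R = ⊥ :=
  disjoint_iff.mp (disjoint_of_coprime_natCard (by rwa [hR]))

/-- commutators modulo a subgroup normalized by both factors. -/
theorem comm_sup_sup_le {A B O : Subgroup X} (hA : A ≤ N[O]) (hB : B ≤ N[O]) :
    ⁅A ⊔ O, B ⊔ O⁆ ≤ ⁅A, B⁆ ⊔ O := by
  rw [commutator_le]
  intro x hx y hy
  obtain ⟨a, ha, o, ho, rfl⟩ := (mem_sup_of_le_normalizer hA).mp hx
  obtain ⟨b, hb, o', ho', rfl⟩ := (mem_sup_of_le_normalizer hB).mp hy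
  have e : ⁅a * o, b * o'⁆ = ⁅a, b⁆ * (b * (a * (b⁻¹ * o * b⁻¹⁻¹ * o' * o⁻¹) * a⁻¹ * o'⁻¹) * b⁻¹) := by
    simp only [commutatorElement_def]; group
  rw [e]
  refine mul_mem (mem_sup_left (commutator_mem_commutator ha hb)) (mem_sup_right ?_)
  refine (mem_normalizer_iff.mp (hB hb) _).mp (mul_mem ((mem_normalizer_iff.mp (hA ha) _).mp
    (mul_mem (mul_mem ((mem_normalizer_iff.mp (inv_mem (hB hb)) _).mp ho) ho') (inv_mem ho)))
    (inv_mem ho'))

/-- the perfect core of a supplement. -/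
theorem exists_perfect_core [Finite X] {B J : Subgroup X} (hJ : ⁅J, J⁆ = J) (A : Subgroup X) :
    A ≤ N[B] → J ≤ A ⊔ B → ∃ A0 : Subgroup X, A0 ≤ A ∧ ⁅A0, A0⁆ = A0 ∧ N[A] ≤ N[A0] ∧ J ≤ A0 ⊔ B := by
  induction A using (wellFounded_lt (α := Subgroup X)).induction with
  | _ A ih =>
    intro hA hJA
    by_cases h : ⁅A, A⁆ = A
    · exact ⟨A, le_rfl, h, le_rfl, hJA⟩
    · have hle : ⁅A, A⁆ ≤ A := commutator_le_self A
      obtain ⟨A0, h1, h2, h3, h4⟩ := ih ⁅A, A⁆ (lt_of_le_of_ne hle h) (hle.trans hA)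
        (hJ.ge.trans ((commutator_mono hJA hJA).trans (comm_sup_sup_le hA hA)))
      exact ⟨A0, h1.trans hle, h2, (le_normalizer_commutator le_rfl le_rfl).trans h3, h4⟩

theorem mem_of_pow {K : Subgroup X} {g : X} {a b : ℕ} (h : a.Coprime b) (ha : g ^ a ∈ K)
    (hb : g ^ b ∈ K) : g ∈ K := by
  have e : g = (g ^ a) ^ Nat.gcdA a b * (g ^ b) ^ Nat.gcdB a b := by
    rw [← zpow_natCast, ← zpow_natCast, ← zpow_mul, ← zpow_mul, ← zpow_add, ← Nat.gcd_eq_gcd_ab,
      h.gcd_eq_one]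
    simp
  rw [e]
  exact mul_mem (zpow_mem ha _) (zpow_mem hb _)

theorem le_of_perfect_of_pow [Finite X] {J P : Subgroup X} (hJ : ⁅J, J⁆ = J) {q : ℕ} (hq : q.Prime)
    (h : ∀ x ∈ J, ∃ k : ℕ, x ^ q ^ k ∈ P) : J ≤ P := by
  have : Fact q.Prime := ⟨hq⟩
  refine isGenCoprime_of_perfect (p := q) hJ P fun g hg hc => ?_
  obtain ⟨k, hk⟩ := h g hg
  exact mem_of_pow (hc.pow_right k) (by rw [pow_orderOf_eq_one]; exact one_mem _) hk

section
variable [Finite X] {R : Subgroup X} {r : ℕ}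

/-- Thompson's theorem, ambient form. -/
theorem nilp_of_fpf (hr : r.Prime) (hR : Nat.card R = r) {J : Subgroup X} (hn : R ≤ N[J])
    (h : J ⊓ C[R] = ⊥) : Group.IsNilpotent J := by
  obtain ⟨x, ho, rfl⟩ := exists_gen hr hR
  have hx : x ∈ N[J] := hn (mem_zpowers x)
  set φ := J.normalizerMonoidHom ⟨x, hx⟩ with hφ
  have hfix : ∀ g : J, φ g = g → g = 1 := fun g hg => by
    have h1 : x * g * x⁻¹ = g := by
      have := congrArg Subtype.val hg
      simpa [hφ, normalizerMonoidHom_apply_apply_coe] using this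
    have h2 : (g : X) ∈ J ⊓ C[zpowers x] := ⟨g.2, by
      rw [centralizer_zpowers]
      exact mem_centralizer_singleton_iff.mpr (by rw [← mul_inv_eq_iff_eq_mul.mp h1])⟩
    rw [h] at h2
    exact Subtype.ext (mem_bot.mp h2)
  have hd : orderOf φ ∣ r := by
    rw [← ho]
    exact (orderOf_map_dvd _ _).trans (by rw [← Subgroup.orderOf_coe])
  rcases (Nat.dvd_prime hr).mp hd with h1 | h1
  · have : Subsingleton J := subsingleton_of_forall_eq 1 fun g => hfix g (by
      rw [orderOf_eq_one_iff.mp h1]; rfl)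
    infer_instance
  · exact S0033.result φ hfix r hr h1

/-- A perfect `R`-invariant `r'`-group whose fixed points lie in `Z` lies in `Z`. -/
theorem le_of_fix_le (hr : r.Prime) (hR : Nat.card R = r) {J Z : Subgroup X}
    (hc : (Nat.card J).Coprime r) (hn : R ≤ N[J]) (hJ : ⁅J, J⁆ = J) (hJZ : J ≤ N[Z])
    (hRZ : R ≤ N[Z]) (h : J ⊓ C[R] ≤ Z) : J ≤ Z := by
  set D := J ⊓ Z with hD
  have hJD : J ≤ N[D] := le_normalizer_inf le_normalizer hJZ
  have hRD : R ≤ N[D] := le_normalizer_inf hn hRZ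
  have h1 : Nat.card (R /ᵍ D) = r := by
    rw [H63.card_quo_of_disjoint hRD (inf_eq_bot_of_cop hR (coprime_card_of_le inf_le_left hc)), hR]
  have h2 := nilp_of_fpf hr h1 (H63.quo_norms D hn) (by
    rw [← H63.coprime_quo_cent inf_le_left hRD (cop_of_le hR hc inf_le_left)
      (Or.inl (solv_of_prime hr hR))]
    exact H63.quo_eq_bot_of_le (le_inf inf_le_left h))
  have h3 : J /ᵍ D = ⊥ := eq_bot_of_perfect_of_isSolvable
    (by rw [← H63.quo_commutator hJD hJD, hJ]) inferInstance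
  exact ((H63.quo_eq_bot_iff hJD).mp h3).trans inf_le_right

/-- (T): the fixed points of `R` on a non-trivial perfect group are not central. -/
theorem eq_bot_of_fix_le (hr : r.Prime) (hR : Nat.card R = r) {J : Subgroup X}
    (hc : (Nat.card J).Coprime r) (hn : R ≤ N[J]) (hJ : ⁅J, J⁆ = J) (h : J ⊓ C[R] ≤ C[J]) :
    J = ⊥ := by
  have := le_of_fix_le hr hR hc hn hJ
    (le_normalizer.trans (normalizer_le_normalizer_centralizer J))
    (hn.trans (normalizer_le_normalizer_centralizer J)) h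
  rw [← hJ, commutator_eq_bot_iff_le_centralizer]
  exact this

/-- projections to an invariant factor. -/
theorem le_of_proj (hr : r.Prime) (hR : Nat.card R = r) {J E1 E2 : Subgroup X}
    (hc : (Nat.card E1).Coprime r) (h1 : R ≤ N[E1]) (h2 : R ≤ N[E2]) (hn : R ≤ N[J])
    (hE : ⁅E1, E2⁆ = ⊥) (hJ : ⁅J, J⁆ = J) (hle : J ≤ E1 ⊔ E2) (h : ⁅J, E1 ⊓ C[R]⁆ = ⊥) :
    J ≤ E2 := by
  have h3 : J ≤ (E1 ⊓ (J ⊔ E2)) ⊔ E2 := fun j hj => by
    obtain ⟨a, ha, b, hb, rfl⟩ := (mem_sup_of_commutator_eq_bot hE).mp (hle hj)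
    refine mul_mem (mem_sup_left ⟨ha, ?_⟩) (mem_sup_right hb)
    have : a = a * b * b⁻¹ := by group
    rw [SetLike.mem_coe, this]
    exact mul_mem (mem_sup_left hj) (mem_sup_right (inv_mem hb))
  obtain ⟨A, hA1, hA2, hA3, hA4⟩ := exists_perfect_core hJ _
    (inf_le_left.trans (le_normalizer_of_commutator_eq_bot hE)) h3
  have hb : A = ⊥ := by
    refine eq_bot_of_fix_le hr hR (coprime_card_of_le (hA1.trans inf_le_left) hc)
      ((le_normalizer_inf h1 (le_normalizer_sup hn h2)).trans hA3) hA2 ?_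
    rw [← commutator_eq_bot_iff_le_centralizer]
    refine commutator_eq_bot_mono (H := E1 ⊓ C[R]) (K := J ⊔ E2) (commutator_sup_right_eq_bot
      (commutator_eq_bot_symm h) (commutator_eq_bot_mono hE inf_le_left le_rfl))
      (inf_le_inf_right _ (hA1.trans inf_le_left)) (hA1.trans inf_le_right)
  rwa [hb, bot_sup_eq] at hA4

/-- Hall-Higman-Shult for a perfect subgroup acting on a section `V / D`. -/
theorem hhs_mod (hhs : H53.Flav.HHSStmt.{u}) (hr : r.Prime) (hR : Nat.card R = r)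
    {H V D J : Subgroup X} {p : ℕ} (hp : p.Prime) (hc : (Nat.card H).Coprime r) (hRH : R ≤ N[H])
    (hV : IsPGroup p V) (hcV : (Nat.card V).Coprime r) (hHV : H ≤ N[V]) (hRV : R ≤ N[V])
    (hDV : D ≤ V) (hVD : V ≤ N[D]) (hHD : H ≤ N[D]) (hRD : R ≤ N[D]) (hf : V ⊓ C[R] ≤ D)
    (hJ : ⁅J, J⁆ = J) (hJH : J ≤ ⁅H, R⁆) : ⁅J, V⁆ ≤ D := by
  have hJD : J ≤ N[D] := (hJH.trans (H4.commutator_le_left_of_le_normalizer hRH)).trans hHD
  obtain ⟨P, -, -, -, h1, h2⟩ := hhs (H63.Coset D) p r (H /ᵍ D) (R /ᵍ D) (V /ᵍ D)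
    ⟨hp, hr, by
      rw [H63.card_quo_of_disjoint hRD (inf_eq_bot_of_cop hR (coprime_card_of_le hDV hcV)), hR],
      hc.coprime_dvd_left (H63.card_quo_dvd H D), H63.quo_norms D hRH, H63.quo_isPGroup D hV,
      H63.quo_norms D hHV, H63.quo_norms D hRV, by
      rw [← H63.coprime_quo_cent hDV hRD (cop_of_le hR hcV hDV) (Or.inl (solv_of_prime hr hR))]
      exact H63.quo_eq_bot_of_le hf⟩
  have hJ' : ⁅J /ᵍ D, J /ᵍ D⁆ = J /ᵍ D := by rw [← H63.quo_commutator hJD hJD, hJ]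
  have h3 : J /ᵍ D ≤ P := le_of_perfect_of_pow hJ' Nat.prime_two fun x hx => h2 x (by
    rw [← H63.quo_commutator hHD hRD]; exact H63.quo_mono D hJH hx)
  exact (H63.quo_cents_iff hJD hVD).mp (le_of_perfect_of_pow hJ' hp fun x hx => h1 x (h3 hx))

end

section
variable [Finite X]

theorem glaub0 {K S A : Subgroup X} (hK : IsQuasisimple K) (hZ : K ⊓ C[K] = ⊥)
    (hS : H8.IsSylowIn 2 S K) (hA : ⁅A, A⁆ = A) (hAK : A ≤ N[K]) (hAS : A ≤ C[S]) : A ≤ C[K] := by
  have hsimp : IsSimpleGroup K := IsQuasisimple.isSimpleGroup_of_center_eq_bot hK (by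
    rw [← map_subtype_eq_bot_iff, map_center_subtype, hZ])
  let B : Subgroup (MulAut K) :=
    { carrier := {φ | ∀ s : K, s ∈ hS.toSylow → φ s = s}
      one_mem' := fun _ _ => rfl
      mul_mem' := fun {a b} ha hb s hs => by rw [MulAut.mul_apply, hb s hs, ha s hs]
      inv_mem' := fun {a} ha s hs => by
        conv_lhs => rw [← ha s hs]
        exact a.symm_apply_apply s }
  have hB := (S0227.result (G := K) (fun N hN ho => by
    rcases hN.eq_bot_or_eq_top with h | h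
    · exact h
    · rw [h, card_top] at ho
      exact absurd (S0205.result ho) (IsQuasisimple.not_isSolvable hK)) hS.toSylow B
      fun _ => Iff.rfl).2
  have h1 : (A.subgroupOf N[K]).map K.normalizerMonoidHom = ⊥ := by
    refine eq_bot_of_perfect_of_isSolvable ?_ (isSolvable_of_le ?_ hB)
    · rw [← map_commutator]
      congr 1
      apply map_injective N[K].subtype_injective
      rw [map_subtype_commutator_subgroupOf hAK hAK, hA, map_subgroupOf_eq_of_le hAK]
    · rintro _ ⟨c, hc, rfl⟩ s hs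
      apply Subtype.ext
      have : (s : X) * c = c * s := hAS hc s hs
      simp [normalizerMonoidHom_apply_apply_coe, ← this]
  intro a ha
  have h2 : (⟨a, hAK ha⟩ : N[K]) ∈ K.normalizerMonoidHom.ker :=
    (Subgroup.map_eq_bot_iff _).mp h1 ha
  rwa [normalizerMonoidHom_ker] at h2

/-- Glauberman: a perfect group normalizing the quasisimple group `L` and centralizing a Sylow
2-subgroup of `L` modulo the centre centralizes `L`. -/
theorem glaub {L S A : Subgroup X} (hL : IsQuasisimple L) (hS : H8.IsSylowIn 2 S L)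
    (hA : ⁅A, A⁆ = A) (hAL : A ≤ N[L]) (hAS : ⁅A, S⁆ ≤ C[L]) : A ≤ C[L] := by
  set Z := L ⊓ C[L] with hZ
  have hN : N[L] ≤ N[Z] := le_normalizer_inf le_rfl (normalizer_le_normalizer_centralizer L)
  have hLZ : L ≤ N[Z] := le_normalizer.trans hN
  have hp := IsQuasisimple.commutator_self hL
  have hne : L /ᵍ Z ≠ ⊥ := fun h =>
    IsQuasisimple.not_le_centralizer hL (((H63.quo_eq_bot_iff hLZ).mp h).trans inf_le_right)
  have hq : IsQuasisimple (L /ᵍ Z) :=
    IsQuasisimple.map ((isQuasisimple_subgroupOf_iff hLZ).mpr hL) _ hne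
  have h1 := glaub0 (S := S /ᵍ Z) (A := A /ᵍ Z) hq (by
      rw [eq_bot_iff]
      rintro y ⟨hy, hy'⟩
      obtain ⟨x, hx, hxn, rfl⟩ := H63.mem_quo.mp hy
      rw [mem_bot, H63.coset_eq_one_iff hxn]
      refine ⟨hx, mem_centralizer_of_forall_commutator_mem hp (le_normalizer hx) fun k hk => ?_⟩
      have : ⁅x, k⁆ ∈ Z := by
        rw [← H63.coset_eq_one_iff (hLZ (commutator_le_self L (commutator_mem_commutator hx hk))),
          H63.coset_commutator hxn (hLZ hk), commutatorElement_eq_one_iff_mul_comm]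
        exact (hy' _ (H63.coset_mem_quo (hLZ hk) hk)).symm
      exact this.2)
    ((hS.subgroupOf hLZ).map _) (by rw [← H63.quo_commutator (hAL.trans hN) (hAL.trans hN), hA])
    (H63.quo_norms Z hAL) (H63.quo_cents_of_commutator_le (le_inf
      ((commutator_mono le_rfl hS.le).trans (le_normalizer_iff_commutator_le_right.mp hAL)) hAS))
  rw [H63.quo_cents_iff (hAL.trans hN) hLZ] at h1
  exact commutator_eq_bot_iff_le_centralizer.mp
    (commutator_eq_bot_of_commutator_le_centralizer hp (h1.trans inf_le_right))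

theorem card_eq_mul {Y A R : Subgroup X} (hA : A ≤ Y) (hR : R ≤ Y) (hd : A ⊓ R = ⊥)
    (h : ∀ y ∈ Y, ∃ u ∈ R, u⁻¹ * y ∈ A) : Nat.card Y = Nat.card R * Nat.card A := by
  rw [← Nat.card_prod]
  refine (Nat.card_congr (Equiv.ofBijective
    (fun z : R × A => (⟨z.1 * z.2, mul_mem (hR z.1.2) (hA z.2.2)⟩ : Y)) ⟨?_, ?_⟩)).symm
  · rintro ⟨u, a⟩ ⟨v, b⟩ e
    have e1 : (u : X) * a = v * b := congrArg Subtype.val e
    have e2 : (v : X)⁻¹ * u = b * (a : X)⁻¹ := by
      rw [inv_mul_eq_iff_eq_mul, ← mul_assoc, ← e1, mul_inv_cancel_right]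
    have e3 : (v : X)⁻¹ * u ∈ A ⊓ R :=
      mem_inf.mpr ⟨e2 ▸ A.mul_mem b.2 (A.inv_mem a.2), R.mul_mem (R.inv_mem v.2) u.2⟩
    rw [hd, mem_bot, inv_mul_eq_one] at e3
    rw [e3] at e1
    exact Prod.ext (Subtype.ext e3.symm) (Subtype.ext (mul_left_cancel e1))
  · rintro ⟨y, hy⟩
    obtain ⟨u, hu, ha⟩ := h y hy
    exact ⟨(⟨u, hu⟩, ⟨_, ha⟩), Subtype.ext (by simp)⟩

/-- a normal `r'`-subgroup of a transitive group of prime degree `r` acts trivially. -/
theorem le_of_prime_degree {R J S : Subgroup X} {r : ℕ} (hR : Nat.card R = r)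
    (hc : (Nat.card J).Coprime r) (hn : R ≤ N[J]) (hd : S ⊓ R = ⊥)
    (h : ∀ y ∈ R ⊔ J, ∃ u ∈ R, u⁻¹ * y ∈ S) : J ≤ S := by
  have e1 := card_eq_mul (Y := R ⊔ J) le_sup_right le_sup_left (inf_eq_bot_of_cop hR hc)
    fun y hy => by
      obtain ⟨a, ha, b, hb, rfl⟩ := (mem_sup_of_le_normalizer hn).mp hy
      exact ⟨a, ha, by simpa using hb⟩
  have e2 := card_eq_mul (Y := R ⊔ J) (A := (R ⊔ J) ⊓ S) inf_le_left le_sup_left
    (by rw [inf_assoc, hd, inf_bot_eq]) fun y hy => by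
      obtain ⟨u, hu, hs⟩ := h y hy
      exact ⟨u, hu, mem_inf.mpr ⟨mul_mem (inv_mem (mem_sup_left hu)) hy, hs⟩⟩
  have e3 : Nat.card J = Nat.card ((R ⊔ J) ⊓ S : Subgroup X) :=
    Nat.eq_of_mul_eq_mul_left Nat.card_pos (e1.symm.trans e2)
  have hN : R ⊔ J ≤ N[J] := sup_le hn le_normalizer
  have h4 : (R ⊔ J) ⊓ S ≤ J := H63.le_of_coprime_relIndex inf_le_left hN (by
    have e4 := H8.card_eq_card_mul_relIndex (le_sup_right : J ≤ R ⊔ J)
    rw [e1, mul_comm] at e4
    rw [← Nat.eq_of_mul_eq_mul_left Nat.card_pos e4, ← e3, hR]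
    exact hc)
  exact (eq_of_le_of_card_ge h4 e3.le).ge.trans inf_le_right

end

end Cfsg.Agent.H54.FlavC
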