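import Cfsg.Agent.H54.FlavC1

/-! Flavell: if `H = [H,R]` is invariant under `R C_G(R)` then `E(H) ≤ E(G)`. -/

set_option autoImplicit false
set_option linter.unusedSectionVars false

namespace Cfsg.Agent.H54.FlavC

open Cfsg Cfsg.Agent.H52 Subgroup
open scoped commutatorElement Cfsg.Agent.H63

universe u

variable {X : Type u} [Group X]

/-- `R` has prime order `r` and acts coprimely on `G`. -/
structure Act (r : ℕ) (G R : Subgroup X) : Prop where
  rp : r.Prime
  card : Nat.card R = r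
  cop : (Nat.card G).Coprime r
  norm : R ≤ N[G]

variable [Finite X] {G R : Subgroup X} {r : ℕ}

theorem Act.sub (h : Act r G R) {A : Subgroup X} (hA : A ≤ G) (hn : R ≤ N[A]) : Act r A R :=
  ⟨h.rp, h.card, coprime_card_of_le hA h.cop, hn⟩

theorem Act.cop' (h : Act r G R) {A : Subgroup X} (hA : A ≤ G) :
    (Nat.card R).Coprime (Nat.card A) := cop_of_le h.card h.cop hA

theorem Act.solv (h : Act r G R) : Group.IsSolvable R := solv_of_prime h.rp h.card

theorem norm_cent {A B : Subgroup X} (h : A ≤ N[B]) : A ≤ N[C[B]] :=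
  h.trans (normalizer_le_normalizer_centralizer B)

theorem Act.norm_C (h : Act r G R) : R ⊔ (G ⊓ C[R]) ≤ N[G ⊓ C[R]] :=
  sup_le (le_normalizer_inf h.norm (norm_cent le_normalizer)) le_normalizer

theorem Act.inf_eq_bot (h : Act r G R) {S : Subgroup X} (hS : ¬ R ≤ S) : S ⊓ R = ⊥ := by
  have := Fact.mk h.rp
  rcases ((S ⊓ R).subgroupOf R).eq_bot_or_eq_top_of_prime_card (hp := by rw [h.card]; exact this)
    with h1 | h1
  · rw [← map_subgroupOf_eq_of_le (inf_le_right : S ⊓ R ≤ R), h1, Subgroup.map_bot]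
  · exact absurd ((subgroupOf_eq_top.mp h1).trans inf_le_left) hS

/-- step (1): the layer of `H` centralizes the Fitting subgroup of `G`. -/
theorem Ly_Ft (hhs : H53.Flav.HHSStmt.{u}) (h : Act r G R) {H : Subgroup X} (hHG : H ≤ G)
    (hRH : R ≤ N[H]) (hCH : G ⊓ C[R] ≤ N[H]) (hHR : ⁅H, R⁆ = H) : ⁅Ly H, Ft G⁆ = ⊥ := by
  rw [commutator_eq_bot_iff_le_centralizer', Ft, fitting_eq_iSup_pCore, Subgroup.map_iSup,
    iSup_le_iff]
  rintro ⟨p, hp⟩
  have := Fact.mk hp
  change Op p G ≤ _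
  set P := Op p G
  set J := Ly H
  have hP : IsPGroup p P := isPGroup_map_pCore_subtype G
  have hPG : P ≤ G := Op_le G
  have hHP : H ≤ N[P] := hHG.trans (le_normalizer_Op G)
  have hRP : R ≤ N[P] := h.norm.trans (normalizer_le_normalizer_map_pCore G)
  have hJ : ⁅J, J⁆ = J := commutator_Ly_self H
  have hJH : J ≤ H := Ly_le H
  have a : ⁅J, H ⊓ P⁆ = ⊥ := commutator_Ly_eq_bot_of_isSolvable
    (H4.isSolvable_of_isPGroup (hP.to_le inf_le_right)) inf_le_left
    (hJH.trans (le_normalizer_inf le_normalizer hHP))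
  have b : ⁅P ⊓ C[R], J⁆ = ⊥ := commutator_eq_bot_of_perfect hJ (commutator_eq_bot_mono
    (commutator_eq_bot_symm a) (le_inf ((commutator_mono (inf_le_inf_right _ hPG) hJH).trans
      (le_normalizer_iff_commutator_le_right.mp hCH)) ((commutator_mono inf_le_left hJH).trans
      (le_normalizer_iff_commutator_le_left.mp hHP))) le_rfl)
  by_contra hne
  set D := P ⊓ C[J]
  have hlt := H8.lt_inf_normalizer_of_lt hP
    (lt_of_le_of_ne (inf_le_left : D ≤ P) fun e => hne (e.ge.trans inf_le_right))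
  have hHD : H ≤ N[D] := le_normalizer_inf hHP (norm_cent (le_normalizer_Ly H))
  have hRD : R ≤ N[D] :=
    le_normalizer_inf hRP (norm_cent (hRH.trans (normalizer_le_normalizer_Ly H)))
  have c := hhs_mod hhs h.rp h.card hp (coprime_card_of_le hHG h.cop) hRH
    (hP.to_le (inf_le_left : P ⊓ N[D] ≤ P)) (coprime_card_of_le (inf_le_left.trans hPG) h.cop)
    (le_normalizer_inf hHP (H4.normalizer_le_normalizer_normalizer_of_le hHD))
    (le_normalizer_inf hRP (H4.normalizer_le_normalizer_normalizer_of_le hRD)) hlt.le inf_le_right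
    hHD hRD (le_inf (inf_le_left.trans inf_le_left) ((inf_le_inf_right _ inf_le_left).trans
      (commutator_eq_bot_iff_le_centralizer.mp b))) hJ (hJH.trans hHR.ge)
  rw [Subgroup.commutator_comm] at c
  exact hlt.not_ge (le_inf inf_le_left (commutator_eq_bot_iff_le_centralizer.mp
    (commutator_eq_bot_of_commutator_le_centralizer hJ (c.trans inf_le_right))))

theorem le_Ly_of_forall_inner {K : Subgroup X} (hKG : K ≤ G) (hK : ⁅K, K⁆ = K)
    (hF : ⁅K, Ft G⁆ = ⊥) (h : ∀ L, IsComponentOf L G → K ≤ L ⊔ C[L]) : K ≤ Ly G := by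
  rw [← map_subgroupOf_eq_of_le hKG]
  refine map_mono (le_layer_of_perfect_of_forall_inner ?_ ?_ fun L hL => ?_)
  · apply map_injective G.subtype_injective
    rw [map_subtype_commutator_subgroupOf hKG hKG, hK, map_subgroupOf_eq_of_le hKG]
  · apply map_injective G.subtype_injective
    rw [map_commutator, map_subgroupOf_eq_of_le hKG, Subgroup.map_bot]
    exact hF
  · intro k hk
    obtain ⟨_, ⟨l, hl, rfl⟩, c, hc, e⟩ := (mem_sup_of_le_normalizer (norm_cent le_normalizer)).mp
      (h _ (IsComponent.isComponentOf_map_subtype hL) hk)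
    have e2 : k = l * (l⁻¹ * k) := by group
    rw [e2]
    refine mul_mem (mem_sup_left hl) (mem_sup_right (mem_centralizer_iff.mpr fun g hg => ?_))
    apply Subtype.ext
    have e3 : ((l⁻¹ * k : G) : X) = c := by
      have e' : (l : X) * c = k := e
      rw [coe_mul, ← e']; simp
    change (g : X) * ((l⁻¹ * k : G) : X) = ((l⁻¹ * k : G) : X) * g
    rw [e3]
    exact hc _ ⟨g, hg, rfl⟩

/-- steps (4) and (5). -/
theorem core (hhs : H53.Flav.HHSStmt.{u}) (h : Act r G R)
    (ih : ∀ N < G, R ≤ N[N] → ∀ H ≤ N, R ≤ N[H] → N ⊓ C[R] ≤ N[H] → ⁅H, R⁆ = H → Ly H ≤ Ly N)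
    {L J : Subgroup X} (hL : IsQuasisimple L) (hLG : L ≤ G) (hJG : J ≤ G) (hRL : R ≤ N[L])
    (hRJ : R ≤ N[J]) (hJL : J ≤ N[L]) (hJR : ⁅J, R⁆ = J) (hJE : J ≤ Ly J)
    (hC : ⁅J, L ⊓ C[R]⁆ = ⊥) : J ≤ L ⊔ C[L] := by
  have := Fact.mk Nat.prime_two
  have hJ : ⁅J, J⁆ = J := by
    have := commutator_Ly_self J
    rwa [le_antisymm (Ly_le J) hJE] at this
  have hG : L ⊔ J ≤ G := sup_le hLG hJG
  have hN : L ⊔ J ≤ N[L] := sup_le le_normalizer hJL
  have hRG : R ≤ N[L ⊔ J] := le_normalizer_sup hRL hRJ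
  obtain ⟨P, hRS⟩ := H4.exists_invariant_sylow hRL (h.cop' hLG) (Or.inl h.solv) 2
  have hS := H8.isSylowIn_map_subtype P
  set S := (P : Subgroup L).map L.subtype
  by_cases hc : S ⊓ C[R] ≤ C[L]
  · set H0 := (L ⊔ J) ⊓ N[S]
    have hRH : R ≤ N[H0] :=
      le_normalizer_inf hRG (H4.normalizer_le_normalizer_normalizer_of_le hRS)
    have hHL : H0 ≤ N[L] := inf_le_left.trans hN
    have h1 : J ≤ H0 ⊔ L := fun j hj => by
      obtain ⟨n, hn, m, hm, e⟩ := hS.frattini (hJL hj)
      rw [e]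
      refine mul_mem (mem_sup_right hn) (mem_sup_left (mem_inf.mpr ⟨?_, hm⟩))
      rw [← inv_mul_eq_iff_eq_mul.mpr e]
      exact mul_mem (mem_sup_left (inv_mem hn)) (mem_sup_right hj)
    have hB : ⁅H0, R⁆ ≤ N[L] := (H4.commutator_le_left_of_le_normalizer hRH).trans hHL
    obtain ⟨A, hA1, hA2, -, hA4⟩ := exists_perfect_core hJ ⁅H0, R⁆ hB
      (hJR.ge.trans ((commutator_mono h1 le_sup_left).trans (comm_sup_sup_le hHL hRL)))
    have h2 := hhs_mod (D := S ⊓ C[L]) hhs h.rp h.card Nat.prime_two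
      (coprime_card_of_le (inf_le_left.trans hG) h.cop) hRH hS.isPGroup
      (coprime_card_of_le (hS.le.trans hLG) h.cop) inf_le_right hRS inf_le_left
      (le_normalizer_inf le_normalizer (norm_cent (hS.le.trans le_normalizer)))
      (le_normalizer_inf inf_le_right (norm_cent hHL)) (le_normalizer_inf hRS (norm_cent hRL))
      (le_inf inf_le_left hc) hA2 hA1
    exact hA4.trans (sup_le ((glaub hL hS hA2 (hA1.trans hB) (h2.trans inf_le_right)).trans
      le_sup_right) le_sup_left)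
  · have hCJ : L ⊓ C[R] ≤ C[J] := commutator_eq_bot_iff_le_centralizer'.mp hC
    obtain ⟨Q, hSU, hRU⟩ := H4.exists_invariant_sylow_ge (K := L ⊓ C[J]) (U := S ⊓ C[R])
      (le_normalizer_inf hRL (norm_cent hRJ)) (h.cop' (inf_le_left.trans hLG)) (Or.inl h.solv)
      (le_inf (inf_le_left.trans hS.le) ((inf_le_inf_right _ hS.le).trans hCJ))
      (hS.isPGroup.to_le inf_le_left) (le_normalizer_inf hRS (norm_cent le_normalizer))
    have hU := H8.isSylowIn_map_subtype Q
    set U := (Q : Subgroup (L ⊓ C[J] : Subgroup X)).map (L ⊓ C[J]).subtype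
    have hUL : U ≤ L := hU.le.trans inf_le_left
    have hJU : J ≤ C[U] := le_centralizer_iff.mp (hU.le.trans inf_le_right)
    set N := (L ⊔ J) ⊓ N[U]
    have hRN : R ≤ N[N] :=
      le_normalizer_inf hRG (H4.normalizer_le_normalizer_normalizer_of_le hRU)
    have hlt : N < G := lt_of_le_of_ne (inf_le_left.trans hG) fun e => by
      rcases IsQuasisimple.eq_or_commutator_eq_bot hL hUL (hLG.trans (e.ge.trans inf_le_right))
        with h1 | h1
      · exact IsQuasisimple.not_isPGroup hL (h1 ▸ hU.isPGroup)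
      · exact hc (hSU.trans (commutator_eq_bot_iff_le_centralizer.mp h1))
    have h1 := ih N hlt hRN J (le_inf le_sup_right (hJU.trans (centralizer_le_normalizer _))) hRJ
      (fun x hx => by
        obtain ⟨a, ha, b, hb, rfl⟩ := (mem_sup_of_le_normalizer hJL).mp (sup_comm L J ▸ hx.1.1)
        obtain ⟨a', ha', b', hb', e⟩ := H4.exists_centralizer_mul_centralizer hRJ hRL
          (h.cop' (inf_le_left.trans hJG)) (Or.inl h.solv) ha hb hx.2
        rw [e]
        exact mul_mem (le_normalizer ha'.1) (centralizer_le_normalizer _ (hCJ hb'))) hJR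
    have hRE : R ≤ N[N ⊓ L] := le_normalizer_inf hRN hRL
    have h2 : J ≤ C[N ⊓ L] := le_of_proj (E1 := N ⊓ L) h.rp h.card
      (coprime_card_of_le (inf_le_right.trans hLG) h.cop) hRE (norm_cent hRE) hRJ
      (commutator_eq_bot_iff_le_centralizer'.mpr le_rfl) hJ
      (hJE.trans (h1.trans (Ly_le_iff'.mpr fun M hM => by
        rcases IsComponent.le_or_commutator_eq_bot' hM.1 hM.2 (inf_le_left : N ⊓ L ≤ N)
          (hM.1.trans (le_normalizer_inf le_normalizer (inf_le_left.trans hN))) with h3 | h3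
        · exact h3.trans le_sup_left
        · exact (commutator_eq_bot_iff_le_centralizer.mp h3).trans le_sup_right)))
      (commutator_eq_bot_mono hC le_rfl (inf_le_inf_right _ inf_le_right))
    obtain ⟨T, hT⟩ := H4.exists_sylow_map_eq_of_maximal_in_normalizer hUL hU.isPGroup
      fun V hV h3 h4 h5 => (hU.eq_of_le hV (le_inf h4 ((le_inf (le_inf (h4.trans le_sup_left) h5)
        h4).trans (le_centralizer_iff.mp h2))) h3).le
    refine (glaub hL (hT ▸ H8.isSylowIn_map_subtype T) hJ hJL ?_).trans le_sup_right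
    rw [commutator_eq_bot_iff_le_centralizer.mpr hJU]
    exact bot_le

theorem Act.semiReg (h : Act r G R) {L : Subgroup X} (hL : IsComponentOf L G) (hn : ¬ R ≤ N[L]) :
    SemiReg R L := fun a ha h1 => by
  rcases IsComponentOf.mem_normalizer_or hL (h.norm ha) with h2 | h2
  · exact absurd (mem_bot.mp (h.inf_eq_bot hn ▸ mem_inf.mpr ⟨h2, ha⟩)) h1
  · exact h2

theorem le_diag_sup {A L : Subgroup X} (h : SemiReg A L) : L ≤ h.diag.range ⊔ C[L] := fun l hl => by
  have e : l = h.diag ⟨l, hl⟩ * (l⁻¹ * h.diag ⟨l, hl⟩)⁻¹ := by group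
  rw [e]
  exact mul_mem (mem_sup_left ⟨_, rfl⟩)
    (mem_sup_right (inv_mem (h.restSup_le_centralizer (h.inv_mul_diag_mem ⟨l, hl⟩))))

theorem Act.diag_le (h : Act r G R) {L : Subgroup X} (hL : IsComponentOf L G) (hs : SemiReg R L) :
    hs.diag.range ≤ Ly G ⊓ C[R] :=
  hs.range_diag_le.trans (inf_le_inf_right _ (IsComponentOf.orbitSup_le_Ly hL h.norm))

/-- step (3), components moved by `R`. -/
theorem Act.moved (h : Act r G R) {L J : Subgroup X} (hL : IsComponentOf L G) (hn : ¬ R ≤ N[L])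
    (hJG : J ≤ G) (hRJ : R ≤ N[J]) (hC : ⁅J, Ly G ⊓ C[R]⁆ = ⊥) : J ≤ C[L] := by
  have hs := h.semiReg hL hn
  have hD := h.diag_le hL hs
  have h1 : ⁅J, hs.diag.range⁆ = ⊥ := commutator_eq_bot_mono hC le_rfl hD
  have h2 : J ≤ N[L] := le_of_prime_degree h.card (coprime_card_of_le hJG h.cop) hRJ
    (h.inf_eq_bot hn) fun y hy => by
      obtain ⟨u, hu, e⟩ := hs.exists_cnj_eq_of_mem_normalizer hL h.norm
        (sup_le h.norm (hJG.trans le_normalizer) hy) (sup_le
          ((le_centralizer_iff.mp (hD.trans inf_le_right)).trans (centralizer_le_normalizer _))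
          (le_normalizer_of_commutator_eq_bot h1) hy)
      exact ⟨u, hu, cnj_eq_cnj_iff.mp e⟩
  refine commutator_eq_bot_iff_le_centralizer.mp (commutator_eq_bot_of_commutator_le_centralizer
    (IsComponentOf.commutator_self hL) ((commutator_mono le_rfl (le_diag_sup hs)).trans
      (commutator_sup_le_of_le_normalizer (norm_cent ((hD.trans inf_le_left).trans
        (IsComponentOf.Ly_le_normalizer hL))) le_normalizer (h1.le.trans bot_le)
        (le_normalizer_iff_commutator_le_right.mp (norm_cent h2)))))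

/-- step (3), components fixed by `R`. -/
theorem Act.fixed (h : Act r G R) {L J : Subgroup X} (hL : IsComponentOf L G) (hn : R ≤ N[L])
    (hJG : J ≤ G) (hC : ⁅J, L ⊓ C[R]⁆ = ⊥) : J ≤ N[L] := fun y hy => by
  rcases IsComponentOf.mem_normalizer_or hL (le_normalizer (hJG hy)) with h1 | h1
  · exact h1
  · refine absurd (eq_bot_of_fix_le h.rp h.card (coprime_card_of_le hL.1 h.cop) hn
      (IsComponentOf.commutator_self hL) fun c hc => ?_) (IsComponentOf.ne_bot hL)
    refine commutator_eq_bot_iff_le_centralizer'.mp h1 ?_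
    have e : y * c * y⁻¹ = c := by
      rw [commutator_eq_bot_iff_forall.mp hC y hy c hc, mul_inv_cancel_right]
    exact e ▸ conj_mem_cnj hc.1

theorem le_commutator_of_ne_bot {K H : Subgroup X} (hK : IsComponentOf K H) (hRH : R ≤ N[H])
    (hne : ⁅K, R⁆ ≠ ⊥) : K ≤ ⁅K, R⁆ := by
  rcases IsComponent.le_or_commutator_eq_bot' hK.1 hK.2 ((commutator_mono hK.1 le_rfl).trans
    (H4.commutator_le_left_of_le_normalizer hRH)) (normalizer_commutator_ge_left K R) with h | h
  · exact h
  · refine absurd (commutator_eq_bot_symm (commutator_eq_bot_of_perfect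
      (IsComponentOf.commutator_self hK) ?_)) hne
    rw [Subgroup.commutator_comm R K]
    exact commutator_eq_bot_symm h

theorem cnj_not_le {K E : Subgroup X} (h : ¬ K ≤ E) {g : X} (hg : g ∈ N[E]) : ¬ cnj g K ≤ E :=
  fun h1 => h fun k hk => (mem_normalizer_iff.mp hg k).mpr (h1 (conj_mem_cnj hk))

theorem Ly_le_Ly (hhs : H53.Flav.HHSStmt.{u}) (G : Subgroup X) : Act r G R → ∀ H ≤ G, R ≤ N[H] →
    G ⊓ C[R] ≤ N[H] → ⁅H, R⁆ = H → Ly H ≤ Ly G := by
  induction G using (wellFounded_lt (α := Subgroup X)).induction with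
  | _ G ih =>
  intro h H hHG hRH hCH hHR
  rw [Ly_le_iff']
  by_contra hcon
  push Not at hcon
  obtain ⟨K0, hK0, hK0E⟩ := hcon
  have hE : N[G] ≤ N[Ly G] := normalizer_le_normalizer_Ly G
  obtain ⟨K, hK, hKE, hKR⟩ : ∃ K, IsComponentOf K H ∧ ¬ K ≤ Ly G ∧ ⁅K, R⁆ ≠ ⊥ := by
    by_contra h1
    push Not at h1
    have h2 : H ≤ N[sSup {K | IsComponentOf K H ∧ ¬ K ≤ Ly G}] :=
      le_normalizer_sSup_of_conj_mem fun g hg A hA =>
        ⟨IsComponentOf.cnj_of_mem hA.1 (le_normalizer hg),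
          cnj_not_le hA.2 (hE (le_normalizer (hHG hg)))⟩
    have h3 : R ≤ C[sSup {K | IsComponentOf K H ∧ ¬ K ≤ Ly G}] :=
      commutator_eq_bot_iff_le_centralizer'.mp
        (commutator_sSup_left_eq_bot fun A hA => h1 A hA.1 hA.2)
    exact IsQuasisimple.not_le_centralizer (IsComponentOf.isQuasisimple hK0) (hK0.1.trans
      (hHR.ge.trans ((commutator_mono le_rfl h3).trans ((le_normalizer_iff_commutator_le_right.mp
        (norm_cent h2)).trans (centralizer_anti (le_sSup ⟨hK0, hK0E⟩))))))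
  have key : ∀ M, IsComponentOf M H → ¬ M ≤ Ly G → ⁅M, Ly G ⊓ C[R]⁆ = ⊥ := fun M hM hME => by
    have h1 : M ≤ N[Ly G] := hM.1.trans (hHG.trans (le_normalizer_Ly G))
    rcases IsComponent.le_or_commutator_eq_bot' hM.1 hM.2 (inf_le_left : H ⊓ Ly G ≤ H)
      (le_normalizer_inf (hM.1.trans le_normalizer) h1) with h2 | h2
    · exact absurd (h2.trans inf_le_right) hME
    · refine commutator_eq_bot_symm (commutator_eq_bot_of_perfect
        (IsComponentOf.commutator_self hM) (commutator_eq_bot_mono (commutator_eq_bot_symm h2)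
          (le_inf ((commutator_mono (inf_le_inf_right _ (Ly_le G)) hM.1).trans
            (le_normalizer_iff_commutator_le_right.mp hCH)) ((commutator_mono inf_le_left
              le_rfl).trans (le_normalizer_iff_commutator_le_left.mp h1))) le_rfl))
  set J := orbitSup R K
  have hKJ : K ≤ J := le_orbitSup R K
  have hJH : J ≤ H := (IsComponentOf.orbitSup_le_Ly hK hRH).trans (Ly_le H)
  have hRJ : R ≤ N[J] := le_normalizer_orbitSup R K
  have hC : ⁅J, Ly G ⊓ C[R]⁆ = ⊥ := commutator_sSup_left_eq_bot (by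
    rintro _ ⟨u, hu, rfl⟩
    exact key _ (IsComponentOf.cnj_of_mem hK (hRH hu)) (cnj_not_le hKE (hE (h.norm hu))))
  obtain ⟨L, hL, hKL⟩ : ∃ L, IsComponentOf L G ∧ ¬ K ≤ L ⊔ C[L] := by
    by_contra h1
    push Not at h1
    exact hKE (le_Ly_of_forall_inner (hK.1.trans hHG) (IsComponentOf.commutator_self hK)
      (commutator_eq_bot_mono (Ly_Ft hhs h hHG hRH hCH hHR) (IsComponentOf.le_Ly hK) le_rfl) h1)
  apply hKL
  by_cases hn : R ≤ N[L]
  · have hC' : ⁅J, L ⊓ C[R]⁆ = ⊥ :=
      commutator_eq_bot_mono hC le_rfl (inf_le_inf_right _ (IsComponentOf.le_Ly hL))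
    refine hKJ.trans (core hhs h (fun N hN hRN => ih N hN (h.sub hN.le hRN))
      (IsComponentOf.isQuasisimple hL) hL.1 (hJH.trans hHG) hn hRJ
      (h.fixed hL hn (hJH.trans hHG) hC') ?_ ?_ hC')
    · refine le_antisymm (H4.commutator_le_left_of_le_normalizer hRJ)
        (orbitSup_le_iff.mpr fun u hu => ?_)
      rw [← cnj_eq_iff_mem_normalizer.mpr (normalizer_commutator_ge_right J R hu)]
      exact cnj_mono u ((le_commutator_of_ne_bot hK hRH hKR).trans (commutator_mono hKJ le_rfl))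
    · exact orbitSup_le_iff.mpr fun u hu => IsComponentOf.le_Ly (IsComponentOf.of_le
        (IsComponentOf.cnj_of_mem hK (hRH hu)) (cnj_le_orbitSup hu) hJH)
  · exact hKJ.trans ((h.moved hL hn (hJH.trans hHG) hRJ hC).trans le_sup_right)

theorem s1933 (hhs : H53.Flav.HHSStmt.{u}) {X : Type u} [Group X] [Finite X] (G R : Subgroup X) (r : ℕ) [Fact r.Prime] (hR : Nat.card ↥R = r) (hcop : (Nat.card ↥G).Coprime r) (hnorm : R ≤ Subgroup.normalizer (G : Set X)) (H : Subgroup X) (hHG : H ≤ G) (hHinv : R ⊔ (G ⊓ Subgroup.centralizer (R : Set X)) ≤ Subgroup.normalizer (H : Set X)) (hHR : ⁅H, R⁆ = H) : (Cfsg.layer ↥H).map H.subtype ≤ (Cfsg.layer ↥G).map G.subtype :=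
  Ly_le_Ly hhs G ⟨Fact.out, hR, hcop, hnorm⟩ H hHG (le_sup_left.trans hHinv)
    (le_sup_right.trans hHinv) hHR

end Cfsg.Agent.H54.FlavC
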