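import Cfsg.Agent.H54.FlavC2

/-! Flavell: a quasisimple subgroup commuting with its distinct conjugates under `R C_G(R)`. -/

set_option autoImplicit false
set_option linter.unusedSectionVars false

namespace Cfsg.Agent.H54.FlavC

open Cfsg Cfsg.Agent.H52 Subgroup
open scoped commutatorElement Cfsg.Agent.H63

universe u

variable {X : Type u} [Group X] [Finite X] {G R K L : Subgroup X} {r : ℕ}

theorem Ly_le_sup_cent (hL : IsComponentOf L G) : Ly G ≤ L ⊔ C[L] :=
  Ly_le_iff'.mpr fun M hM => by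
    by_cases h : M = L
    · exact h.le.trans le_sup_left
    · exact (commutator_eq_bot_iff_le_centralizer.mp
        (IsComponentOf.commutator_eq_bot_of_ne hM hL h)).trans le_sup_right

theorem le_of_unique (hK : ⁅K, K⁆ = K) (hKE : K ≤ Ly G) (hL : IsComponentOf L G)
    (h : ∀ M, IsComponentOf M G → M ≠ L → ⁅M, K⁆ = ⊥) : K ≤ L := by
  have hE := IsComponentOf.Ly_le_normalizer hL
  have h1 : Ly G ≤ L ⊔ (C[K] ⊓ N[L]) := Ly_le_iff'.mpr fun M hM => by
    by_cases e : M = L
    · exact e.le.trans le_sup_left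
    · exact (le_inf (commutator_eq_bot_iff_le_centralizer.mp (h M hM e))
        ((IsComponentOf.le_Ly hM).trans hE)).trans le_sup_right
  exact hK.ge.trans ((commutator_mono le_rfl (hKE.trans h1)).trans
    (commutator_sup_le_of_le_normalizer le_normalizer inf_le_right
      (le_normalizer_iff_commutator_le_right.mp (hKE.trans hE))
      ((commutator_eq_bot_iff_le_centralizer'.mpr inf_le_left).le.trans bot_le)))

theorem proj_comm (hL : IsQuasisimple L) {A B : Subgroup X} (hA : A ≤ N[L]) (hB : B ≤ N[L])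
    (h1 : L ≤ A ⊔ C[L]) (h2 : L ≤ B ⊔ C[L]) : ⁅A, B⁆ ≠ ⊥ := fun h => by
  have := (commutator_mono h1 h2).trans (comm_sup_sup_le (norm_cent hA) (norm_cent hB))
  rw [h, bot_sup_eq, IsQuasisimple.commutator_self hL] at this
  exact IsQuasisimple.not_le_centralizer hL this

theorem cnj_le_of_mem {A B : Subgroup X} (h : A ≤ B) {g : X} (hg : g ∈ N[B]) : cnj g A ≤ B :=
  (cnj_mono g h).trans (cnj_eq_iff_mem_normalizer.mpr hg).le

/-- the hypotheses of the second half of the proof. -/
structure Loc (r : ℕ) (G R K : Subgroup X) : Prop extends Act r G R where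
  qs : IsQuasisimple K
  le : K ≤ Ly G
  comm : ∀ g ∈ R ⊔ (G ⊓ C[R]), cnj g K ≠ K → ⁅K, cnj g K⁆ = ⊥

theorem Loc.perf (h : Loc r G R K) : ⁅K, K⁆ = K := IsQuasisimple.commutator_self h.qs

theorem Loc.normL (h : Loc r G R K) (hL : IsComponentOf L G) : K ≤ N[L] :=
  h.le.trans (IsComponentOf.Ly_le_normalizer hL)

theorem Loc.fixed (h : Loc r G R K) (hL : IsComponentOf L G) (hn : R ≤ N[L])
    (hne : ⁅L, K⁆ ≠ ⊥) : K ≤ L := by
  refine le_of_unique h.perf h.le hL fun M hM hML => by_contra fun hMK => hne ?_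
  have h0 := IsComponentOf.commutator_eq_bot_of_ne hM hL hML
  have hKM := norm_cent (h.normL hM)
  have h1 : L ⊓ C[R] ≤ N[K] := fun c hc => by
    rw [← cnj_eq_iff_mem_normalizer]
    by_contra e
    have h2 := h.comm c (mem_sup_right ⟨hL.1 hc.1, hc.2⟩) e
    have hcM : c ∈ C[M] := commutator_eq_bot_iff_le_centralizer'.mp h0 hc.1
    have h3 : K ≤ cnj c K ⊔ C[M] := fun k hk => by
      have e1 : k = c * k * c⁻¹ * (c * (k⁻¹ * c⁻¹ * k⁻¹⁻¹)) := by group
      rw [e1]
      exact mul_mem (mem_sup_left (conj_mem_cnj hk)) (mem_sup_right (mul_mem hcM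
        ((mem_normalizer_iff.mp (inv_mem (hKM hk)) _).mp (inv_mem hcM))))
    refine hMK (commutator_eq_bot_iff_le_centralizer'.mpr (h.perf.ge.trans
      ((commutator_mono le_rfl h3).trans (commutator_sup_le_of_le_normalizer
        (norm_cent ((cnj_le_of_mem h.le (le_normalizer_Ly G (hL.1 hc.1))).trans
          (IsComponentOf.Ly_le_normalizer hM))) le_normalizer (h2.le.trans bot_le)
        (le_normalizer_iff_commutator_le_right.mp hKM)))))
  rcases IsQuasisimple.le_or_commutator_inf_eq_bot h.qs (h.normL hL) with h2 | h2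
  · exact absurd (commutator_eq_bot_mono h0 le_rfl h2) hMK
  have h3 : ⁅L ⊓ C[R], K⁆ = ⊥ := commutator_eq_bot_of_perfect h.perf (commutator_eq_bot_mono h2
    (le_inf (le_normalizer_iff_commutator_le_right.mp h1) ((commutator_mono inf_le_left
      le_rfl).trans (le_normalizer_iff_commutator_le_left.mp (h.normL hL)))) le_rfl)
  have h4 : orbitSup R K ≤ C[L] := le_of_proj h.rp h.card (coprime_card_of_le hL.1 h.cop) hn
    (norm_cent hn) (le_normalizer_orbitSup R K) (commutator_eq_bot_iff_le_centralizer'.mpr le_rfl)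
    (commutator_orbitSup_self h.perf) ((orbitSup_le_iff.mpr fun u hu => cnj_le_of_mem h.le
      (normalizer_le_normalizer_Ly G (h.norm hu))).trans (Ly_le_sup_cent hL))
    (commutator_eq_bot_iff_le_centralizer.mpr (orbitSup_le_iff.mpr fun u hu => cnj_le_of_mem
      (commutator_eq_bot_iff_le_centralizer'.mp h3)
      (norm_cent (le_normalizer_inf hn (norm_cent le_normalizer)) hu)))
  exact commutator_eq_bot_iff_le_centralizer'.mpr ((le_orbitSup R K).trans h4)

theorem Loc.onto (h : Loc r G R K) (hL : IsComponentOf L G) (hn : ¬ R ≤ N[L])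
    (hne : ⁅L, K⁆ ≠ ⊥) : L ≤ K ⊔ C[L] := by
  have hs := h.semiReg hL hn
  have hD := h.diag_le hL hs
  have hq := IsComponentOf.isQuasisimple hL
  have hE := IsComponentOf.Ly_le_normalizer hL
  set K1 := L ⊓ (K ⊔ C[L]) with hK1
  have h0 : ⁅K1, L⁆ ≠ ⊥ := fun e => hne (commutator_eq_bot_iff_le_centralizer'.mpr fun k hk => by
    obtain ⟨a, ha, c, hc, rfl⟩ := (mem_sup_of_le_normalizer (norm_cent le_normalizer)).mp
      (Ly_le_sup_cent hL (h.le hk))
    refine mul_mem (commutator_eq_bot_iff_le_centralizer.mp e (mem_inf.mpr ⟨ha, ?_⟩)) hc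
    have e1 : a = a * c * c⁻¹ := by group
    rw [e1]
    exact mul_mem (mem_sup_left hk) (mem_sup_right (inv_mem hc)))
  have h1 : orbitSup L K1 ≤ N[K1] := orbitSup_le_iff.mpr fun l hl => by
    set d := hs.diag ⟨l, hl⟩
    have hd : d ∈ Ly G ⊓ C[R] := hD ⟨_, rfl⟩
    have e1 : cnj l K1 = cnj d K1 := (cnj_eq_cnj_iff.mpr (centralizer_le_normalizer _
      (centralizer_anti (inf_le_left : K1 ≤ L)
        (hs.restSup_le_centralizer (hs.inv_mul_diag_mem ⟨l, hl⟩))))).symm
    have e2 : cnj d K1 = L ⊓ (cnj d K ⊔ C[L]) := by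
      rw [hK1, cnj_inf, cnj_sup, cnj_eq_iff_mem_normalizer.mpr (hE hd.1),
        cnj_eq_iff_mem_normalizer.mpr (norm_cent hE hd.1)]
    rw [e1, e2]
    by_cases e : cnj d K = K
    · rw [e]; exact le_normalizer
    · have h2 := h.comm d (mem_sup_right ⟨Ly_le G hd.1, hd.2⟩) e
      refine le_normalizer_iff_commutator_le_right.mpr (le_inf ((commutator_mono inf_le_left
        inf_le_left).trans (commutator_le_self L)) ((commutator_mono inf_le_right
          inf_le_right).trans ((comm_sup_sup_le (norm_cent ((cnj_le_of_mem h.le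
            (le_normalizer hd.1)).trans hE)) (norm_cent (h.normL hL))).trans ?_)))
      rw [commutator_eq_bot_symm h2, bot_sup_eq]
      exact le_sup_right
  rcases IsQuasisimple.eq_or_commutator_eq_bot hq (orbitSup_le_iff.mpr fun l hl =>
    cnj_le_of_mem (inf_le_left : K1 ≤ L) (le_normalizer hl)) (le_normalizer_orbitSup L K1)
    with h2 | h2
  · rcases IsQuasisimple.eq_or_commutator_eq_bot hq (inf_le_left : K1 ≤ L) (h2.ge.trans h1)
      with h3 | h3
    · exact h3.ge.trans inf_le_right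
    · exact absurd h3 h0
  · exact absurd (commutator_eq_bot_mono h2 (le_orbitSup L K1) le_rfl) h0

theorem cnj_onto {g : X} (h : L ≤ K ⊔ C[L]) : cnj g L ≤ cnj g K ⊔ C[cnj g L] := by
  have := cnj_mono g h
  rwa [cnj_sup, cnj_centralizer] at this

theorem Loc.moved (h : Loc r G R K) (hKR : ⁅K, R⁆ ≠ ⊥) (hL : IsComponentOf L G) (hn : ¬ R ≤ N[L])
    (hne : ⁅L, K⁆ ≠ ⊥) : K = L := by
  have hs := h.semiReg hL hn
  have hD := h.diag_le hL hs
  have hq := IsComponentOf.isQuasisimple hL
  have hE := IsComponentOf.Ly_le_normalizer hL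
  have ho := h.onto hL hn hne
  have hDL : hs.diag.range ≤ N[L] := (hD.trans inf_le_left).trans hE
  have h1 : hs.diag.range ≤ N[K] := fun d hd => by
    rw [← cnj_eq_iff_mem_normalizer]
    by_contra e
    have h2 := cnj_onto (g := d) ho
    rw [cnj_eq_iff_mem_normalizer.mpr (hDL hd)] at h2
    exact proj_comm hq (h.normL hL) ((cnj_le_of_mem h.le (le_normalizer (hD hd).1)).trans hE) ho h2
      (h.comm d (mem_sup_right ⟨Ly_le G (hD hd).1, (hD hd).2⟩) e)
  have h2 : K ≤ orbitSup R L := by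
    rcases IsQuasisimple.commutator_eq_or_eq_bot h.qs h1 with e | e
    · exact e.ge.trans ((commutator_mono le_rfl (hs.range_diag_le.trans inf_le_left)).trans
        (le_normalizer_iff_commutator_le_right.mp
          (h.le.trans (IsComponentOf.Ly_le_normalizer_orbitSup hL h.norm))))
    · exact absurd e (proj_comm hq (h.normL hL) hDL ho (le_diag_sup hs))
  by_cases hRK : R ≤ N[K]
  · exfalso
    rcases IsQuasisimple.le_or_commutator_inf_eq_bot h.qs (norm_cent (h.normL hL)) with h3 | h3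
    · exact hne (commutator_eq_bot_iff_le_centralizer'.mpr h3)
    have h4 : K ≤ hs.diag.range ⊔ C[K] := fun k hk => by
      obtain ⟨d, hd, c, hc, e⟩ := (mem_sup_of_le_normalizer (norm_cent hDL)).mp
        (sup_le (le_diag_sup hs) le_sup_right (Ly_le_sup_cent hL (h.le hk)))
      have hcK : c ∈ N[K] := by
        rw [eq_inv_mul_iff_mul_eq.mpr e]
        exact mul_mem (inv_mem (h1 hd)) (le_normalizer hk)
      rw [← e]
      refine mul_mem (mem_sup_left hd) (mem_sup_right
        (mem_centralizer_of_forall_commutator_mem h.perf hcK fun k' hk' => ?_))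
      exact commutator_eq_bot_iff_le_centralizer.mp h3 (mem_inf.mpr
        ⟨le_normalizer_iff_commutator_le_right.mp le_rfl (commutator_mem_commutator hcK hk'),
        le_normalizer_iff_commutator_le_left.mp (norm_cent (h.normL hL))
          (commutator_mem_commutator hc hk')⟩)
    rcases IsQuasisimple.commutator_eq_or_eq_bot h.qs hRK with e | e
    · have h5 := (commutator_mono h4 (le_sup_left : R ≤ R ⊔ C[K])).trans
        (comm_sup_sup_le (norm_cent h1) (norm_cent hRK))
      rw [e, commutator_eq_bot_iff_le_centralizer.mpr (hD.trans inf_le_right), bot_sup_eq] at h5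
      exact IsQuasisimple.not_le_centralizer h.qs h5
    · exact hKR e
  have h3 : K ≤ L := le_of_unique h.perf h.le hL fun M hM hML => by_contra fun hMK => by
    obtain ⟨u, hu, rfl⟩ : ∃ u ∈ R, M = cnj u L := by
      by_contra h4
      push Not at h4
      refine hMK (commutator_eq_bot_mono (commutator_sSup_right_eq_bot ?_) le_rfl h2)
      rintro _ ⟨u, hu, rfl⟩
      exact IsComponentOf.commutator_eq_bot_of_ne hM (IsComponentOf.cnj_of_mem hL (h.norm hu))
        (h4 u hu)
    have h4 : cnj u K ≠ K := fun e => by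
      have h5 := mem_inf.mpr ⟨cnj_eq_iff_mem_normalizer.mp e, hu⟩
      rw [h.inf_eq_bot hRK, mem_bot] at h5
      exact hML (by rw [h5, cnj_one])
    refine proj_comm (IsComponentOf.isQuasisimple hM) (h.normL hM) ((cnj_le_of_mem h.le
      (normalizer_le_normalizer_Ly G (h.norm hu))).trans (IsComponentOf.Ly_le_normalizer hM))
      (h.onto hM (fun h5 => hML ?_) hMK) (cnj_onto ho) (h.comm u (mem_sup_left hu) h4)
    have h6 := cnj_eq_iff_mem_normalizer.mpr (h5 (inv_mem hu))
    rw [cnj_cnj, inv_mul_cancel, cnj_one] at h6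
    exact h6.symm
  rcases IsQuasisimple.eq_or_commutator_eq_bot hq h3 (ho.trans (sup_le le_normalizer
    ((centralizer_anti h3).trans (centralizer_le_normalizer _)))) with e | e
  · exact e
  · exact absurd (commutator_eq_bot_symm e) hne

theorem s1929 (hhs : H53.Flav.HHSStmt.{u}) {X : Type u} [Group X] [Finite X] (G R : Subgroup X) (r : ℕ) [Fact r.Prime] (hR : Nat.card ↥R = r) (hcop : (Nat.card ↥G).Coprime r) (hnorm : R ≤ Subgroup.normalizer (G : Set X)) (K : Subgroup X) (hKG : K ≤ G) (hKq : Cfsg.IsQuasisimple ↥K) (hcomm : ∀ g ∈ R ⊔ (G ⊓ Subgroup.centralizer (R : Set X)), K.map (MulAut.conj g).toMonoidHom ≠ K → ⁅K, K.map (MulAut.conj g).toMonoidHom⁆ = ⊥) : (K ≤ G ⊓ Subgroup.centralizer (R : Set X) ∧ Cfsg.IsComponent (K.subgroupOf (G ⊓ Subgroup.centralizer (R : Set X)))) ∨ Cfsg.IsComponent (K.subgroupOf G) ∨ ∃ L : Subgroup X, L ≤ G ∧ Cfsg.IsComponent (L.subgroupOf G) ∧ (∀ a ∈ R, L.map (MulAut.conj a).toMonoidHom = L) ∧ K ≤ L := by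
  have h : Act r G R := ⟨Fact.out, hR, hcop, hnorm⟩
  set H := orbitSup (R ⊔ (G ⊓ C[R])) K
  have hY : R ⊔ (G ⊓ C[R]) ≤ N[H] := le_normalizer_orbitSup _ K
  have hK : IsComponentOf K H := isComponentOf_iff.mpr ⟨SN.of_le_normalizer (le_orbitSup _ K)
    (orbitSup_le_iff.mpr fun g hg => by
      by_cases e : cnj g K = K
      · rw [e]; exact le_normalizer
      · exact le_normalizer_of_commutator_eq_bot (commutator_eq_bot_symm (hcomm g hg e))), hKq⟩
  by_cases hKR : ⁅K, R⁆ = ⊥
  · exact Or.inl (IsComponentOf.trans hK (SN.of_le_normalizer (orbitSup_le_iff.mpr fun g hg =>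
      cnj_le_of_mem (le_inf hKG (commutator_eq_bot_iff_le_centralizer.mp hKR)) (h.norm_C hg))
      (le_sup_right.trans hY)))
  right
  have hHG : H ≤ G := orbitSup_le_iff.mpr fun g hg =>
    cnj_le_of_mem hKG (sup_le hnorm (inf_le_left.trans le_normalizer) hg)
  have hRH : R ≤ N[H] := le_sup_left.trans hY
  have h1 := H4.commutator_le_left_of_le_normalizer hRH
  have hl : Loc r G R K := ⟨h, hKq, (IsComponentOf.le_Ly (IsComponentOf.of_le hK
    ((le_commutator_of_ne_bot hK hRH hKR).trans (commutator_mono hK.1 le_rfl)) h1)).trans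
    (Ly_le_Ly hhs G h _ (h1.trans hHG) (normalizer_commutator_ge_right H R)
      (le_normalizer_commutator (le_sup_right.trans hY)
        (inf_le_right.trans (centralizer_le_normalizer _)))
      (H4.commutator_commutator_eq hRH (h.cop' hHG) (Or.inl h.solv))), hcomm⟩
  obtain ⟨L, hL, hne⟩ := exists_component_commutator_ne_bot hl.le hl.perf (IsQuasisimple.ne_bot hKq)
  by_cases hn : R ≤ N[L]
  · exact Or.inr ⟨L, hL.1, hL.2, fun a ha => cnj_eq_iff_mem_normalizer.mpr (hn ha),
      hl.fixed hL hn hne⟩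
  · exact Or.inl (hl.moved hKR hL hn hne ▸ hL.2)

end Cfsg.Agent.H54.FlavC
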