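import Cfsg.Agent.H78.G40B

/-! Project L40G, piece F1D. -/

set_option autoImplicit false

namespace Cfsg.Agent.H54.G40F1d

open Subgroup Matrix Cfsg.Agent.H46.L40 Cfsg.Agent.H78.G40

abbrev M2 := Matrix (Fin 2) (Fin 2) (ZMod 3)
abbrev M4 := Matrix (Fin 4) (Fin 4) (ZMod 3)

def bd (A D : M2) : M4 :=
  !![A 0 0, A 0 1, 0, 0; A 1 0, A 1 1, 0, 0; 0, 0, D 0 0, D 0 1; 0, 0, D 1 0, D 1 1]

def ad (B C : M2) : M4 :=
  !![0, 0, B 0 0, B 0 1; 0, 0, B 1 0, B 1 1; C 0 0, C 0 1, 0, 0; C 1 0, C 1 1, 0, 0]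

theorem bd_bd (A D A' D' : M2) : bd A D * bd A' D' = bd (A * A') (D * D') := by
  ext i j
  fin_cases i <;> fin_cases j <;> simp [bd, mul_apply, Fin.sum_univ_four, Fin.sum_univ_two]

theorem ad_bd (B C A D : M2) : ad B C * bd A D = ad (B * D) (C * A) := by
  ext i j
  fin_cases i <;> fin_cases j <;> simp [bd, ad, mul_apply, Fin.sum_univ_four, Fin.sum_univ_two]

theorem bd_ad (A D B C : M2) : bd A D * ad B C = ad (A * B) (D * C) := by
  ext i j
  fin_cases i <;> fin_cases j <;> simp [bd, ad, mul_apply, Fin.sum_univ_four, Fin.sum_univ_two]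

theorem det_bd (A D : M2) : (bd A D).det = A.det * D.det := by
  simp [bd, det_succ_row_zero, Fin.sum_univ_succ, Fin.succAbove]
  ring

theorem det_ad (B C : M2) : (ad B C).det = B.det * C.det := by
  simp [ad, det_succ_row_zero, Fin.sum_univ_succ, Fin.succAbove]
  ring

def W : M2 := !![0, 1; 2, 0]
def Q : M2 := !![1, 1; 1, 2]
def L : List M2 := [W, W * W * W, Q, Q * Q * Q, W * Q, Q * W]

set_option synthInstance.maxSize 1000 in
set_option synthInstance.maxHeartbeats 200000 in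
theorem key0 : ∀ a b c d : ZMod 3, a * d - b * c ≠ 0 → ∀ h ∈ [W, Q], ∃ r ∈ L,
    (!![a, b; c, d] : M2) * h = r * (!![a, b; c, d] : M2) := by decide +kernel

theorem key (A : M2) (hA : A.det ≠ 0) : ∀ h ∈ [W, Q], ∃ r ∈ L, A * h = r * A := by
  rw [det_fin_two] at hA
  have := key0 _ _ _ _ hA
  rwa [← Matrix.eta_fin_two A] at this

/-- the preimage of `Qq` -/
noncomputable def QQ : Subgroup SL4 := (Qq e1 σ1 dd1).comap mk1

def In (m : M4) : Prop := ∃ x ∈ QQ, x.1 = m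

theorem In.mul {m n : M4} (h : In m) (k : In n) : In (m * n) := by
  obtain ⟨x, hx, rfl⟩ := h
  obtain ⟨y, hy, rfl⟩ := k
  exact ⟨x * y, mul_mem hx hy, rfl⟩

theorem gens : ∀ y ∈ ({e1 w0, e1 q0, σ1, dd1.q2} : Set X1), ∃ x : SL4, mk1 x = y ∧
    ∃ h ∈ [W, Q], x.1 = bd h 1 ∨ x.1 = bd 1 h := by
  rintro y (rfl | rfl | rfl | rfl)
  · exact ⟨_, rfl, W, by simp, Or.inl (by decide +kernel)⟩
  · exact ⟨_, rfl, Q, by simp, Or.inl (by decide +kernel)⟩
  · exact ⟨_, rfl, W, by simp, Or.inr (by decide +kernel)⟩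
  · exact ⟨_, rfl, Q, by simp, Or.inr (by decide +kernel)⟩

theorem inL : ∀ r ∈ L, In (bd r 1) ∧ In (bd 1 r) := by
  have w1 : In (bd W 1) := ⟨E1 w0, subset_closure (Or.inl rfl), by decide +kernel⟩
  have q1 : In (bd Q 1) := ⟨E1 q0, subset_closure (Or.inr (Or.inl rfl)), by decide +kernel⟩
  have w2 : In (bd 1 W) := ⟨_, subset_closure (Or.inr (Or.inr (Or.inl rfl))), by decide +kernel⟩
  have q2 : In (bd 1 Q) := ⟨_, subset_closure (Or.inr (Or.inr (Or.inr rfl))), by decide +kernel⟩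
  have m : ∀ {a b : M2}, In (bd a 1) ∧ In (bd 1 a) → In (bd b 1) ∧ In (bd 1 b) →
      In (bd (a * b) 1) ∧ In (bd 1 (a * b)) := fun h k =>
    ⟨by simpa [bd_bd] using h.1.mul k.1, by simpa [bd_bd] using h.2.mul k.2⟩
  intro r hr
  simp only [L, List.mem_cons, List.not_mem_nil, or_false] at hr
  rcases hr with rfl | rfl | rfl | rfl | rfl | rfl
  exacts [⟨w1, w2⟩, m (m ⟨w1, w2⟩ ⟨w1, w2⟩) ⟨w1, w2⟩, ⟨q1, q2⟩, m (m ⟨q1, q2⟩ ⟨q1, q2⟩) ⟨q1, q2⟩,
    m ⟨w1, w2⟩ ⟨q1, q2⟩, m ⟨q1, q2⟩ ⟨w1, w2⟩]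

theorem shape (g : M4) (h : g * (E1 z0).1 = (E1 z0).1 * g ∨ g * (E1 z0).1 = -((E1 z0).1 * g)) :
    (∃ A D, g = bd A D) ∨ ∃ B C, g = ad B C := by
  have e : (E1 z0).1 = diagonal ![2, 2, 1, 1] := by decide +kernel
  have k1 : ∀ x : ZMod 3, x * 1 = 2 * x → x = 0 := by decide
  have k2 : ∀ x : ZMod 3, x * 2 = 1 * x → x = 0 := by decide
  have k3 : ∀ x : ZMod 3, x * 2 = -(2 * x) → x = 0 := by decide
  have k4 : ∀ x : ZMod 3, x * 1 = -(1 * x) → x = 0 := by decide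
  rw [e] at h
  rcases h with h | h
  · have h' := fun i j => congrFun (congrFun h i) j
    simp only [mul_diagonal, diagonal_mul] at h'
    refine Or.inl ⟨!![g 0 0, g 0 1; g 1 0, g 1 1], !![g 2 2, g 2 3; g 3 2, g 3 3], ?_⟩
    ext i j
    fin_cases i <;> fin_cases j <;>
      first | rfl | exact k1 _ (h' _ _) | exact k2 _ (h' _ _)
  · have h' := fun i j => congrFun (congrFun h i) j
    simp only [Matrix.neg_apply, mul_diagonal, diagonal_mul] at h'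
    refine Or.inr ⟨!![g 0 2, g 0 3; g 1 2, g 1 3], !![g 2 0, g 2 1; g 3 0, g 3 1], ?_⟩
    ext i j
    fin_cases i <;> fin_cases j <;>
      first | rfl | exact k3 _ (h' _ _) | exact k4 _ (h' _ _)

theorem f1d : F1dS := by
  intro y hy
  obtain ⟨g, rfl⟩ := QuotientGroup.mk'_surjective _ y
  have hz : mk1 (g * E1 z0) = mk1 (E1 z0 * g) := by
    rw [map_mul, map_mul]; exact mem_centralizer_singleton_iff.1 hy
  have hs := shape g.1 ((mk1_eq _ _).1 hz)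
  have hd := g.2
  have main : ∀ x : SL4, (∃ h ∈ [W, Q], x.1 = bd h 1 ∨ x.1 = bd 1 h) →
      ∃ m, In m ∧ g.1 * x.1 = m * g.1 := by
    rintro x ⟨h, hh, hx⟩
    rcases hs with ⟨A, D, e⟩ | ⟨A, D, e⟩
    · rw [e, det_bd] at hd
      obtain ⟨r, hr, er⟩ := key A (left_ne_zero_of_mul_eq_one hd) h hh
      obtain ⟨s, hs, es⟩ := key D (right_ne_zero_of_mul_eq_one hd) h hh
      rcases hx with hx | hx
      · exact ⟨_, (inL r hr).1, by rw [e, hx, bd_bd, bd_bd, er, mul_one, one_mul]⟩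
      · exact ⟨_, (inL s hs).2, by rw [e, hx, bd_bd, bd_bd, es, mul_one, one_mul]⟩
    · rw [e, det_ad] at hd
      obtain ⟨r, hr, er⟩ := key A (left_ne_zero_of_mul_eq_one hd) h hh
      obtain ⟨s, hs, es⟩ := key D (right_ne_zero_of_mul_eq_one hd) h hh
      rcases hx with hx | hx
      · exact ⟨_, (inL s hs).2, by rw [e, hx, ad_bd, bd_ad, es, mul_one, one_mul]⟩
      · exact ⟨_, (inL r hr).1, by rw [e, hx, ad_bd, bd_ad, er, mul_one, one_mul]⟩
  have hle : Qq e1 σ1 dd1 ≤ (Qq e1 σ1 dd1).comap (MulAut.conj (mk1 g)).toMonoidHom := by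
    refine (closure_le _).2 fun y hy => ?_
    obtain ⟨x, rfl, hx⟩ := gens y hy
    obtain ⟨_, ⟨m, hm, rfl⟩, e⟩ := main x hx
    have : g * x = m * g := Subtype.ext e
    show mk1 g * mk1 x * (mk1 g)⁻¹ ∈ Qq e1 σ1 dd1
    rw [← map_mul, this, map_mul, mul_inv_cancel_right]
    exact hm
  exact mem_normalizer_fintype fun n hn => hle hn

end Cfsg.Agent.H54.G40F1d
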