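import Cfsg.Agent.H54.FFPair
import Cfsg.Agent.H6.JStable
import Cfsg.Agent.H56.Thompson

/-!
Glauberman's theorems on `Z(S)` and `J(S)`: generation in groups of characteristic `p`, weakly
closed elements.
-/

set_option autoImplicit false

open scoped commutatorElement Pointwise
open Subgroup Cfsg.Agent.H85

namespace Cfsg.Agent.H54

variable {G : Type*} [Group G]

/-- the subgroup `H` has characteristic `p` -/
def CharIn (p : ℕ) (H : Subgroup G) : Prop :=
  H ⊓ centralizer ((pCoreOf p H : Subgroup G) : Set G) ≤ pCoreOf p H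

theorem charIn_top_iff {p : ℕ} :
    CharIn p (⊤ : Subgroup G) ↔ centralizer (pCore p G : Set G) ≤ pCore p G := by
  rw [CharIn, pCoreOf_top, top_inf_eq]

theorem pCoreOf_le_of_le {p : ℕ} {H K : Subgroup G} (hK : K ≤ H) (hQ : pCoreOf p H ≤ K) :
    pCoreOf p H ≤ pCoreOf p K :=
  (le_inf hQ le_rfl).trans (inf_pCoreOf_le hK)

theorem CharIn.of_le {p : ℕ} {H K : Subgroup G} (h : CharIn p H) (hK : K ≤ H)
    (hQ : pCoreOf p H ≤ K) : CharIn p K :=
  ((inf_le_inf hK (centralizer_le (pCoreOf_le_of_le hK hQ))).trans h).trans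
    (pCoreOf_le_of_le hK hQ)

theorem CharIn.center_le {p : ℕ} {H S : Subgroup G} (h : CharIn p H) (hS : IsSyl p S H) :
    S ⊓ centralizer (S : Set G) ≤
      pCoreOf p H ⊓ centralizer ((pCoreOf p H : Subgroup G) : Set G) :=
  le_inf ((inf_le_inf hS.le (centralizer_le hS.pCoreOf_le)).trans h)
    (inf_le_right.trans (centralizer_le hS.pCoreOf_le))

/-- the module `Ω_e(Z(O_p(H)))` -/
abbrev zMod (p e : ℕ) (H : Subgroup G) : Subgroup G :=
  omegaOne e (pCoreOf p H ⊓ centralizer ((pCoreOf p H : Subgroup G) : Set G))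

theorem zMod_le (p e : ℕ) (H : Subgroup G) :
    zMod p e H ≤ pCoreOf p H ⊓ centralizer ((pCoreOf p H : Subgroup G) : Set G) :=
  H51.omegaOne_le _ _

theorem zMod_le_self (p e : ℕ) (H : Subgroup G) : zMod p e H ≤ H :=
  (zMod_le p e H).trans (inf_le_left.trans (pCoreOf_le p H))

theorem center_comm (Q : Subgroup G) : IsMulCommutative ↥(Q ⊓ centralizer (Q : Set G)) :=
  H51.isMulCommutative_iff_le_centralizer.2 (inf_le_right.trans (centralizer_le inf_le_left))

theorem zMod_ea (p e : ℕ) (H : Subgroup G) : IsElementaryAbelian e (zMod p e H) :=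
  H51.isEA_omegaOne (center_comm _)

theorem le_normalizer_zMod (p e : ℕ) (H : Subgroup G) :
    H ≤ normalizer ((zMod p e H : Subgroup G) : Set G) :=
  (le_normalizer_center (le_normalizer_pCoreOf p H)).trans
    (H51.normalizer_le_normalizer_omegaOne e _)

/-- if `C_H(Ω_e(Z(O_p(H))))` supplements `S`, then `O^p(H)` centralizes `Z(O_p(H))` -/
theorem resOf_le_centralizer [Finite G] {p e : ℕ} [Fact p.Prime] (he : p ∣ e) {H S : Subgroup G}
    (hS : IsPGroup p S) (hSH : S ≤ H)
    (h : H ⊓ centralizer ((zMod p e H : Subgroup G) : Set G) ⊔ S = H) :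
    resOf p H ≤ centralizer ((pCoreOf p H ⊓
      centralizer ((pCoreOf p H : Subgroup G) : Set G) : Subgroup G) : Set G) := by
  have h1 : PQuot p (H ⊓ centralizer ((zMod p e H : Subgroup G) : Set G)) H := by
    conv_rhs => rw [← h]
    exact pquot_sup hS (hSH.trans (H85.le_normalizer_inf le_normalizer
      (le_normalizer_centralizer (le_normalizer_zMod p e H))))
  refine resOf_le_iff.2 fun x hx hc => H6.mem_centralizer_of_omegaOne
    (pCoreOf_isPGroup p H).to_inf_left (center_comm _) hc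
    (le_normalizer_center (le_normalizer_pCoreOf p H) hx) (centralizer_le ?_ (h1.mem hx hc).2)
  refine H51.omegaOne_le_iff.2 fun y hy hyp => H51.mem_omegaOne hy ?_
  obtain ⟨c, rfl⟩ := he
  rw [pow_mul, hyp, one_pow]

theorem UHyp.centralizer_zMod_le [Finite G] {p e : ℕ} [Fact p.Prime] (he : p ∣ e)
    {H S M : Subgroup G} (u : UHyp p e H S M) (hch : CharIn p H)
    (hZ : H ⊓ centralizer ((S ⊓ centralizer (S : Set G) : Subgroup G) : Set G) ≤ M) :
    H ⊓ centralizer ((zMod p e H : Subgroup G) : Set G) ≤ M := by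
  refine (u.le_or_sup inf_le_left).resolve_right fun h => u.not_le ?_
  conv_lhs => rw [← u.syl.resOf_sup]
  refine sup_le (le_trans (le_inf (resOf_le p H) ?_) hZ) u.S_le_M
  exact (resOf_le_centralizer he u.syl.isPGroup u.syl.le h).trans
    (centralizer_le (hch.center_le u.syl))

/-- The local theorem: a group of characteristic `p` without failure of factorization
configurations is generated by `C(Z(S))` and `N(J(S))`. -/
theorem le_of_noFF [Finite G] {p e : ℕ} [Fact p.Prime] (he : p ∣ e) {M : Subgroup G}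
    (H : Subgroup G) : ∀ S, IsSyl p S H → CharIn p H →
      H ⊓ normalizer ((thompsonSubgroupOf e S : Subgroup G) : Set G) ≤ M →
      H ⊓ centralizer ((S ⊓ centralizer (S : Set G) : Subgroup G) : Set G) ≤ M →
      (∀ K T A : Subgroup G, K ≤ H → T ≤ S → UHyp p e K T (K ⊓ M) → CharIn p K →
        ¬ FFOut p e K T (zMod p e K) (K ⊓ M) A) → H ≤ M := by
  induction H using WellFoundedLT.induction with
  | ind H ih =>
  intro S hS hch hJ hZ hno
  by_contra hHM
  have u : UHyp p e H S (H ⊓ M) := by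
    refine ⟨hS, inf_le_left, fun h => hHM (h.trans inf_le_right), le_inf inf_le_left hJ,
      fun K T hK hTS hQT hT _ hKJ => le_inf hK.le (ih K hK T hT
        (hch.of_le hK.le (hQT.trans hT.le)) (hKJ.trans inf_le_right) (le_trans ?_ hZ)
        fun K' T' A' h1 h2 => hno K' T' A' (h1.trans hK.le) (h2.trans hTS))⟩
    refine inf_le_inf hK.le (centralizer_le ?_)
    exact le_inf (((hch.center_le hS).trans inf_le_left).trans hQT)
      (inf_le_right.trans (centralizer_le hTS))
  obtain ⟨A, o⟩ := u.exists_ffOut (zMod_le p e H) (le_normalizer_zMod p e H) (zMod_ea p e H)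
    (u.centralizer_zMod_le he hch (le_inf inf_le_left hZ))
  exact hno H S A le_rfl le_rfl u hch o

theorem FFOut.perm_four [Finite G] {e : ℕ} {K T M A : Subgroup G} (u : UHyp 2 e K T M)
    (o : FFOut 2 e K T (zMod 2 e K) M A) : Involves (Equiv.Perm (Fin 4)) K :=
  o.involves_perm_four u.syl.le (zMod_le_self _ _ _) (zMod_ea _ _ _).1 (le_normalizer_zMod _ _ _)
    u.not_le

theorem FFOut.qd [Finite G] {p e : ℕ} [Fact p.Prime] (hp : p ≠ 2) {K T M A : Subgroup G}
    (u : UHyp p e K T M) (o : FFOut p e K T (zMod p e K) M A) : Involves (qd p) K :=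
  o.involves_qd hp u.syl.le (zMod_le_self _ _ _) (zMod_ea _ _ _).1 (le_normalizer_zMod _ _ _)
    u.not_le

/-- `S₄`-free groups of characteristic `2`: `H = ⟨C_H(Z(S)), N_H(J(S))⟩` (`e = 0`: abelian `J`,
`e = 2`: elementary abelian `J`). -/
theorem le_of_perm_four_free [Finite G] {e : ℕ} (he : 2 ∣ e) {H S M : Subgroup G}
    (hS : IsSyl 2 S H) (hch : CharIn 2 H) (h4 : ¬ Involves (Equiv.Perm (Fin 4)) H)
    (hJ : H ⊓ normalizer ((thompsonSubgroupOf e S : Subgroup G) : Set G) ≤ M)
    (hZ : H ⊓ centralizer ((S ⊓ centralizer (S : Set G) : Subgroup G) : Set G) ≤ M) : H ≤ M :=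
  le_of_noFF he H S hS hch hJ hZ fun _ _ _ hK _ u _ o =>
    h4 (H82.involves_of_involves_le hK (o.perm_four u))

theorem le_of_qd_free [Finite G] {p e : ℕ} [Fact p.Prime] (hp : p ≠ 2) (he : p ∣ e)
    {H S M : Subgroup G} (hS : IsSyl p S H) (hch : CharIn p H) (h4 : ¬ Involves (qd p) H)
    (hJ : H ⊓ normalizer ((thompsonSubgroupOf e S : Subgroup G) : Set G) ≤ M)
    (hZ : H ⊓ centralizer ((S ⊓ centralizer (S : Set G) : Subgroup G) : Set G) ≤ M) : H ≤ M :=
  le_of_noFF he H S hS hch hJ hZ fun _ _ _ hK _ u _ o =>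
    h4 (H82.involves_of_involves_le hK (o.qd hp u))

/-- **GF**: an `S₄`-free group of characteristic `2` is generated by `C(Z(S))` and `N(J(S))`. -/
theorem centralizer_sup_normalizer_eq_top [Finite G] {e : ℕ} (he : 2 ∣ e)
    (hch : centralizer (pCore 2 G : Set G) ≤ pCore 2 G) (S : Sylow 2 G)
    (h4 : ¬ Involves (Equiv.Perm (Fin 4)) G) :
    centralizer (((S : Subgroup G) ⊓ centralizer ((S : Subgroup G) : Set G) : Subgroup G) : Set G) ⊔
      normalizer ((thompsonSubgroupOf e (S : Subgroup G) : Subgroup G) : Set G) = ⊤ :=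
  top_le_iff.1 (le_of_perm_four_free he (isSyl_top S) (charIn_top_iff.2 hch)
    (fun h => h4 (H82.involves_of_involves_subgroup h)) (inf_le_right.trans le_sup_right)
    (inf_le_right.trans le_sup_left))

theorem centralizer_sup_normalizer_eq_top_A [Finite G]
    (hch : centralizer (pCore 2 G : Set G) ≤ pCore 2 G) (S : Sylow 2 G)
    (h4 : ¬ Involves (Equiv.Perm (Fin 4)) G) :
    centralizer (((S : Subgroup G) ⊓ centralizer ((S : Subgroup G) : Set G) : Subgroup G) : Set G) ⊔
      normalizer ((thompsonSubgroupAOf (S : Subgroup G) : Subgroup G) : Set G) = ⊤ := by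
  rw [H51.thompsonSubgroupAOf_eq]
  exact centralizer_sup_normalizer_eq_top (dvd_zero 2) hch S h4

/-- for odd `p`: if `M ∩ H` acts as a `p`-group on `Z(O_p(H))`-like sections -/
theorem le_of_odd [Finite G] {p e : ℕ} [Fact p.Prime] (hp : p ≠ 2) (he : p ∣ e)
    {H S M : Subgroup G} (hS : IsSyl p S H) (hch : CharIn p H) (hM : IsPGroup p M)
    (hJ : H ⊓ normalizer ((thompsonSubgroupOf e S : Subgroup G) : Set G) ≤ M)
    (hZ : H ⊓ centralizer ((S ⊓ centralizer (S : Set G) : Subgroup G) : Set G) ≤ M) : H ≤ M := by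
  refine le_of_noFF he H S hS hch hJ hZ fun K T A _ _ u _ o => o.ne fun x hx => ?_
  obtain ⟨n, hn⟩ := hM.exists_card_eq
  refine o.mem_centralizer_of_odd hp u.syl.le (zMod_le_self _ _ _) (zMod_ea _ _ _).1
    (le_normalizer_zMod _ _ _) u.not_le hx (n := n) fun t _ ht => ?_
  have : t ^ p ^ n = 1 := by
    rw [← hn]
    exact congrArg Subtype.val (pow_card_eq_one' (x := (⟨t, ht.2⟩ : M)))
  rw [this, one_mul, mul_one]

theorem isConjugacyFunctor_thompson [Finite G] {p e : ℕ} [Fact p.Prime] (he : p ∣ e) :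
    IsConjugacyFunctor p (fun P : Subgroup G => thompsonSubgroupOf e P) := by
  refine fun P hP => ⟨H51.thompsonSubgroupOf_le e P, fun h0 h => ?_,
    fun g => (H51.map_thompsonSubgroupOf e P (MulAut.conj g).injective).symm⟩
  obtain ⟨A, hA⟩ := H51.maxEA_nonempty e P
  exact H51.sInf_maxEA_ne_bot hP h0 he
    (le_bot_iff.1 (((H51.sInf_maxEA_le hA).trans (H51.le_thompsonSubgroupOf hA)).trans h.le))

theorem center_le_thompson_zero [Finite G] (P : Subgroup G) :
    P ⊓ centralizer (P : Set G) ≤ thompsonSubgroupOf 0 P :=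
  (H51.center_le_centerThompsonAOf P).trans
    (inf_le_left.trans (H51.thompsonSubgroupAOf_eq P).le)

/-- Glauberman's theorem on weakly closed elements. -/
theorem weaklyClosed_main [Finite G] {p : ℕ} [Fact p.Prime] {x z : G} (hxz : x ∈ zpowers z)
    (H : Subgroup G) : ∀ S, IsSyl p S H → z ∈ S ⊓ centralizer (S : Set G) →
      (p ≠ 2 ∨ z ^ p = x ∨ ¬ Involves (Equiv.Perm (Fin 4)) H) →
      H ⊓ normalizer ((thompsonSubgroupOf 0 S : Subgroup G) : Set G) ≤
        centralizer ((zpowers x : Subgroup G) : Set G) →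
      ∀ g ∈ H, cj g (zpowers x) ≤ S → g ∈ centralizer ((zpowers x : Subgroup G) : Set G) := by
  induction H using WellFoundedLT.induction with
  | ind H ih =>
  intro S hS hz hyp hN g hg hgA
  set A := zpowers x with hA
  set M := centralizer (A : Set G) with hM
  have hyp' : ∀ K ≤ H, p ≠ 2 ∨ z ^ p = x ∨ ¬ Involves (Equiv.Perm (Fin 4)) K := fun K hK =>
    hyp.imp_right (Or.imp_right fun h h' => h (H82.involves_of_involves_le hK h'))
  by_contra hgM
  have hAZ : A ≤ S ⊓ centralizer (S : Set G) := zpowers_le.2 (zpowers_le.2 hz hxz)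
  obtain ⟨T, hT, hAT, h1, h2⟩ := H56.exists_wp_of_not_weaklyClosed hS
    (isConjugacyFunctor_thompson (dvd_zero p)) (fun P _ => center_le_thompson_zero P) hAZ
    (centralizer_le_normalizer _) hN hg hgM hgA
  have hHT : H ≤ normalizer (T : Set G) := by
    by_contra hHT
    have hlt : H ⊓ normalizer (T : Set G) < H := inf_lt_left.mpr hHT
    refine h2 fun y hy => ih _ hlt _ hT.extremal ⟨⟨hz.1, centralizer_le_normalizer _
      (centralizer_le hT.le hz.2)⟩, centralizer_le inf_le_left hz.2⟩ (hyp' _ hlt.le)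
      ((inf_le_inf_right _ inf_le_left).trans h1) y hy ?_
    exact (cj_le_of_mem_normalizer hAT hy.2).trans (le_inf hT.le le_normalizer)
  set P := pCoreOf p H with hP
  have hHP : H ≤ normalizer (P : Set G) := le_normalizer_pCoreOf p H
  have hPS : P ≤ S := hS.pCoreOf_le
  have hAP : A ≤ P := hAT.trans (le_pCoreOf (hT.le.trans hS.le) (hS.isPGroup.to_le hT.le) hHT)
  have hHM : ¬ H ≤ M := fun h => hgM (h hg)
  have hprop : ∀ K, S ≤ K → K < H → K ≤ M := fun K hSK hK y hy =>
    ih K hK S (hS.of_le hSK hK.le) hz (hyp' K hK.le) ((inf_le_inf_right _ hK.le).trans hN) y hy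
      ((cj_le_of_mem_normalizer hAP (hHP (hK.le hy))).trans hPS)
  have hzP : z ∈ P := by
    have hHK : H ≤ normalizer ((H ⊓ centralizer (P : Set G) : Subgroup G) : Set G) :=
      H85.le_normalizer_inf le_normalizer (le_normalizer_centralizer hHP)
    have h3 := hS.inf_of_le_normalizer inf_le_left hHK
    have h4 := h3.frattini inf_le_left hHK
    refine le_pCoreOf (inf_le_left.trans hS.le) h3.isPGroup ?_
      ⟨hz.1, hS.le hz.1, centralizer_le hPS hz.2⟩
    by_contra h5
    refine hHM (h4.ge.trans (sup_le (inf_le_right.trans (centralizer_le hAP))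
      (hprop _ (le_inf hS.le (H85.le_normalizer_inf le_normalizer (hS.le.trans hHK)))
        (inf_lt_left.mpr h5))))
  have u : UHyp p 0 H S (H ⊓ M) := by
    refine ⟨hS, inf_le_left, fun h => hHM (h.trans inf_le_right), le_inf inf_le_left hN,
      fun K T' hK hTS hQT hT' _ hKJ => le_inf hK.le fun y hy => ih K hK T' hT'
        ⟨hQT hzP, centralizer_le hTS hz.2⟩ (hyp' K hK.le) (hKJ.trans inf_le_right) y hy ?_⟩
    exact (cj_le_of_mem_normalizer hAP (hHP (hK.le hy))).trans hQT
  have hV : zMod p 0 H = P ⊓ centralizer (P : Set G) := H51.omegaOne_zero _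
  have hzV : z ∈ zMod p 0 H := hV ▸ ⟨hzP, centralizer_le hPS hz.2⟩
  have hAV : A ≤ zMod p 0 H := zpowers_le.2 (zpowers_le.2 hzV hxz)
  obtain ⟨B, o⟩ := u.exists_ffOut (zMod_le p 0 H) (le_normalizer_zMod p 0 H) (zMod_ea p 0 H)
    (inf_le_inf_left H (centralizer_le hAV))
  have hxC : x ∉ centralizer (H : Set G) := fun h => hHM (le_centralizer_iff.1 (zpowers_le.2 h))
  rcases hyp with hp | hp | hp
  · refine hxC (o.mem_centralizer_of_odd hp hS.le (zMod_le_self _ _ _) (zMod_ea _ _ _).1
      (le_normalizer_zMod _ _ _) u.not_le ⟨hAV (mem_zpowers x),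
        centralizer_le o.mem.1 (hAZ (mem_zpowers x)).2⟩ (n := 0) fun t _ ht => ?_)
    rw [pow_zero, pow_one]
    exact (ht.2 x (mem_zpowers x)).symm
  · exact hxC (hp ▸ o.pow z hzV)
  · by_cases hp2 : p = 2
    · subst hp2
      exact hp (o.perm_four u)
    · refine hxC (o.mem_centralizer_of_odd hp2 hS.le (zMod_le_self _ _ _) (zMod_ea _ _ _).1
        (le_normalizer_zMod _ _ _) u.not_le ⟨hAV (mem_zpowers x),
          centralizer_le o.mem.1 (hAZ (mem_zpowers x)).2⟩ (n := 0) fun t _ ht => ?_)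
      rw [pow_zero, pow_one]
      exact (ht.2 x (mem_zpowers x)).symm

/-- `J_e(S)` is normal in an `S₄`-free group of characteristic `2` with Sylow subgroup of class at
most two. -/
theorem le_normalizer_thompson_of_class_two [Finite G] {e : ℕ} (he : 2 ∣ e)
    (H : Subgroup G) : ∀ S, IsSyl 2 S H → CharIn 2 H → ¬ Involves (Equiv.Perm (Fin 4)) H →
      ⁅⁅S, S⁆, S⁆ = ⊥ → H ≤ normalizer ((thompsonSubgroupOf e S : Subgroup G) : Set G) := by
  induction H using WellFoundedLT.induction with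
  | ind H ih =>
  intro S hS hch h4 hcl
  by_contra hHM
  have u : UHyp 2 e H S (H ⊓ normalizer ((thompsonSubgroupOf e S : Subgroup G) : Set G)) :=
    ⟨hS, inf_le_left, fun h => hHM (h.trans inf_le_right), le_rfl,
      fun K T hK hTS hQT hT _ hKJ => (le_inf le_rfl (ih K hK T hT
        (hch.of_le hK.le (hQT.trans hT.le)) (fun h => h4 (H82.involves_of_involves_le hK.le h))
        (H51.commutator_eq_bot_of_le hcl (commutator_mono hTS hTS) hTS))).trans hKJ⟩
  rcases u.le_or_sup (N := H ⊓ centralizer ((zMod 2 e H : Subgroup G) : Set G)) inf_le_left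
    with hC | hC
  · obtain ⟨A, o⟩ := u.exists_ffOut (zMod_le 2 e H) (le_normalizer_zMod 2 e H) (zMod_ea 2 e H) hC
    exact h4 (o.perm_four u)
  · have h1 := resOf_le_centralizer he hS.isPGroup hS.le hC
    set Q := pCoreOf 2 H with hQ
    set Z := Q ⊓ centralizer (Q : Set G) with hZ
    have hHQ : H ≤ normalizer (Q : Set G) := le_normalizer_pCoreOf 2 H
    have hHZ : H ≤ normalizer (Z : Set G) := le_normalizer_center hHQ
    have hQS : Q ≤ S := hS.pCoreOf_le
    -- the stabilizer of `Q / Z(Q)`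
    let N : Subgroup G := H ⊓ relCent Z (Q : Set G)
    have hSN : S ≤ N := le_inf hS.le (le_relCent_iff.2 ⟨hS.le.trans hHZ, le_trans ?_
      (hch.center_le hS)⟩)
    swap
    · exact (commutator_mono le_rfl hQS).trans (le_inf (commutator_le_self S)
        (commutator_eq_bot_iff_le_centralizer.1 hcl))
    have hHN : H ≤ normalizer (N : Set G) := by
      intro g hg
      refine H51.mem_normalizer_of_forall_conj_mem fun y hy => ⟨H.mul_mem (H.mul_mem hg hy.1)
        (H.inv_mem hg), hHZ (H.mul_mem (H.mul_mem hg hy.1) (H.inv_mem hg)), fun q hq => ?_⟩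
      have h2 := hy.2.2 _ (H51.conj_mem_of_mem_normalizer' (hHQ hg) hq)
      have h3 := H51.conj_mem_of_mem_normalizer (hHZ hg) h2
      rw [conjugate_commutatorElement] at h3
      simpa [mul_assoc] using h3
    have hNp : IsPGroup 2 N := by
      refine H56.isPGroup_of_forall_coprime fun y hy hc => ?_
      have h2 : y ∈ centralizer (Z : Set G) := h1 (mem_resOf hy.1 hc)
      refine H8.eq_one_of_mem_of_coprime (pCoreOf_isPGroup 2 H) (hch ⟨hy.1, fun q hq => ?_⟩) hc
      have h3 : ⁅y, q⁆ ∈ Z := hy.2.2 q hq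
      obtain ⟨k, hk⟩ := pCoreOf_isPGroup 2 H ⟨_, h3.1⟩
      have hk' : ⁅y, q⁆ ^ 2 ^ k = 1 := congrArg Subtype.val hk
      have h5 := H53.conj_pow_of_comm (h2 _ h3).symm (2 ^ k)
      rw [hk', one_mul] at h5
      have h6 : y ^ 2 ^ k ∈ centralizer ({q} : Set G) :=
        mem_centralizer_singleton_iff.2 (mul_inv_eq_iff_eq_mul.1 h5)
      exact (mem_centralizer_singleton_iff.1
        (mem_of_pow_mem_of_coprime (hc.pow_right k) h6)).symm
    have : N = S := hS.eq_of_le hNp hSN inf_le_left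
    exact hHM ((this ▸ hHN).trans (H51.normalizer_le_normalizer_thompsonSubgroupOf e S))

end Cfsg.Agent.H54
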