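import Cfsg.Agent.H54.VKit0

/-!
# The Heisenberg group of a unitary group: lemmas on the natural module
-/

set_option autoImplicit false
set_option linter.unusedSectionVars false
set_option linter.style.haveILetI false

namespace Cfsg.Agent.H54V.H22.UH

open Cfsg.Agent.H22

open Cfsg Cfsg.Agent.H63 Cfsg.Agent.H63.SL Cfsg.Agent.H34 Cfsg.Agent.H34.TW Cfsg.Agent.H34.UM
  Cfsg.Agent.H31 Subgroup Module
open Cfsg.Agent.H27.End (mem_C comm_of_C eq_one_of_is2 is2_of_sq mem_N_of_conj conj_mem is2_of_mem)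
open Cfsg.Agent.H8 (IsSylowIn)
open scoped commutatorElement

universe u v

/-- A `2`-group acting on a set of even order with a fixed point has a second one. -/
theorem fix2 {P A : Type*} [Group P] [Finite A] (hP : IsPGroup 2 P) (hA : 2 ∣ Nat.card A) (ρ : P → A → A)
    (h1 : ∀ a, ρ 1 a = a) (h2 : ∀ g h a, ρ (g * h) a = ρ g (ρ h a)) {a : A} (h0 : ∀ g, ρ g a = a) :
    ∃ b, b ≠ a ∧ ∀ g, ρ g b = b := by
  letI : MulAction P A := { smul := ρ, one_smul := h1, mul_smul := h2 }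
  haveI : Fact (Nat.Prime 2) := ⟨Nat.prime_two⟩
  obtain ⟨b, hb, e⟩ := hP.exists_fixed_point_of_prime_dvd_card_of_fixed_point A hA (a := a) h0
  exact ⟨b, e.symm, hb⟩

theorem YZ_le' {G : Type u} [Group G] {L Z : Subgroup G} : YZ L Z ≤ L ⊓ C[Z] :=
  (closure_le _).2 fun _ h => ⟨h.1, h.2.1⟩

theorem mem_YZ' {G : Type u} [Group G] {L Z : Subgroup G} {g : G} (h1 : g ∈ L) (h2 : g ∈ C[Z])
    (h3 : Is2 g) : g ∈ YZ L Z := subset_closure ⟨h1, h2, h3⟩

section Field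

variable {F E : Type v} [Field F] [Field E] {i : F →+* E} {σ : E ≃+* E} (q : QF i σ)
include q

theorem theta_cases {θ : E ≃+* E} (h : ∀ a, θ (i a) = i a) : (∀ x, θ x = x) ∨ ∀ x, θ x = σ x := by
  obtain ⟨ω, hω⟩ := q.tr
  obtain ⟨n, hn⟩ := q.exists_norm ω
  have h1 : (θ ω + ω) * (θ ω + ω + 1) = 0 := by
    have h2 := h n
    rw [hn, hω, map_mul, map_add, map_one] at h2
    linear_combination h2 + (ω * θ ω + ω ^ 2 + ω) * q.two
  rcases mul_eq_zero.1 h1 with e | e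
  · refine .inl fun x => ?_
    obtain ⟨a, b, rfl⟩ := q.exists_coord hω x
    rw [map_add, map_mul, h, h, show θ ω = ω by linear_combination e - ω * q.two]
  · refine .inr fun x => ?_
    obtain ⟨a, b, rfl⟩ := q.exists_coord hω x
    rw [map_add, map_mul, h, h, map_add, map_mul, q.σ_i, q.σ_i, hω,
      show θ ω = ω + 1 by linear_combination e - (ω + 1) * q.two]

theorem theta_sq [Finite E] {θ : E ≃+* E} (h : θ * θ = 1) (a : F) : θ (i a) = i a := by
  by_contra h1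
  haveI := Fintype.ofFinite E
  have h2 : IsInvol (θ : E →+* E) := ⟨fun x => DFunLike.congr_fun h x, _, h1⟩
  obtain ⟨n, h3, h4⟩ := h2.exists_q
  rw [← Nat.card_eq_fintype_card, q.card] at h3
  have h5 := h4 (i a)
  rw [← Nat.pow_left_injective two_ne_zero h3, ← q.σ_pow, q.σ_i] at h5
  exact h1 h5

end Field

variable {F E V : Type v} [Field F] [Field E] [AddCommGroup V] [Module E V] {i : F →+* E}
  {σ : E ≃+* E} {B : V →ₛₗ[(σ : E →+* E)] V →ₗ[E] E} {G : Type u} [Group G] {φ : sisom B →* G}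
  {L : Subgroup G} [FiniteDimensional E V] [Finite E]

theorem semi_s (s : sisom B) : Semi B s.1.toAddEquiv 1 := ⟨fun d x => map_smul s.1 d x, iso_map s⟩

theorem act_s (s : sisom B) : Act φ (φ s) s.1.toAddEquiv := fun s' =>
  ⟨s * s' * s⁻¹, fun x => by
    rw [mul_app, mul_app]; exact congrArg _ (congrArg _ (inv_app s x)),
    by rw [map_mul, map_mul, map_inv]⟩

variable (c : UCtx i φ L)
include c

theorem TT_line {x y : V} (hx : Pt B x) (hy : B y y = 0) {a b : F} (ha : a ≠ 0)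
    (e : TT i φ x a = TT i φ y b) : ∃ l : E, x = l • y := by
  obtain ⟨s, h, e1⟩ := c.tt hx.1 a
  obtain ⟨s', h', e2⟩ := c.tt hy b
  have h1 : s = s' :=
    c.inj2 (is2_of_sq (c.tt_sq hx.1 h)) (is2_of_sq (c.tt_sq hy h')) (by rw [e1, e2, e])
  obtain ⟨z, hz⟩ := c.herm.exists_eq_one hx.2
  have h2 := h z
  rw [h1, h', hz, mul_one, add_right_inj] at h2
  have a0 : i a ≠ 0 := by simpa using ha
  exact ⟨(i a)⁻¹ * (i b * B y z), by
    rw [← smul_smul, h2, smul_smul, inv_mul_cancel₀ a0, one_smul]⟩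

theorem TT_cancel {v : V} (hv : Pt B v) {a b : F} (e : TT i φ v a = TT i φ v b) : a = b := by
  have h := c.TT_eq_one hv (a := a + b) (by rw [c.TT_add hv.1, e, c.TT_sq hv.1])
  linear_combination h - b * c.qf.twoF

section Act

variable {g : G} {f : V ≃+ V} {θ : E ≃+* E} (hs : Semi B f θ) (ha : Act φ g f) {v : V}
  (hv : Pt B v)
include hs ha hv

theorem line_of {z : G} (hz : z ∈ ZV i φ v) (z1 : z ≠ 1) (h : g * z * g⁻¹ ∈ ZV i φ v) :
    ∃ l : E, l ≠ 0 ∧ f v = l • v := by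
  obtain ⟨a, rfl⟩ := (c.mem_ZV hv.1).1 hz
  obtain ⟨b, hb⟩ := c.θ_i hs a
  rw [c.TT_act hs ha hv.1 hb] at h
  obtain ⟨b', e⟩ := (c.mem_ZV hv.1).1 h
  have b0 : b ≠ 0 := by
    rintro rfl
    have : a = 0 := by simpa using hb.symm
    exact z1 (by rw [this, UCtx.TT_zero])
  obtain ⟨l, hl⟩ := TT_line c (hs.pt hv) hv.1 b0 e
  exact ⟨l, fun k => (hs.pt hv).2 (by rw [hl, k, zero_smul]), hl⟩

theorem line_of_N (h : g ∈ N[ZV i φ v]) : ∃ l : E, l ≠ 0 ∧ f v = l • v :=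
  line_of c hs ha hv (TT_mem_ZV v 1) (fun e => one_ne_zero (c.TT_eq_one hv e))
    (conj_mem h (TT_mem_ZV v 1))

variable {l : E} (hl : f v = l • v)
include hl

theorem N_of_line [Finite G] (l0 : l ≠ 0) : g ∈ N[ZV i φ v] := mem_N_of_conj fun x hx => by
  have h : g * x * g⁻¹ ∈ cj g (ZV i φ v) := ⟨x, hx, rfl⟩
  rwa [c.ZV_act hs ha hv.1, hl, c.ZV_smul hv.1 l0] at h

theorem TT_act' {a b : F} (e : i b = l * σ l * θ (i a)) : g * TT i φ v a * g⁻¹ = TT i φ v b := by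
  obtain ⟨a', h1⟩ := c.θ_i hs a
  obtain ⟨n, hn⟩ := c.qf.exists_norm l
  rw [c.TT_act hs ha hv.1 h1, hl, UCtx.TT_smul v hn]
  congr 1
  exact i.injective (by rw [map_mul, hn, h1, e])

theorem cent_of (h : g ∈ C[ZV i φ v]) : l * σ l = 1 ∧ ∀ a, θ (i a) = i a := by
  have k : ∀ a, l * σ l * θ (i a) = i a := fun a => by
    obtain ⟨a', h1⟩ := c.θ_i hs a
    obtain ⟨n, hn⟩ := c.qf.exists_norm l
    have h2 := TT_act' c hs ha hv hl (a := a) (b := n * a') (by rw [map_mul, hn, h1])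
    rw [(comm_of_C h (TT_mem_ZV v a)).eq, mul_inv_cancel_right] at h2
    rw [← hn, ← h1, ← map_mul, ← TT_cancel c hv h2]
  have h1 : l * σ l = 1 := by simpa using k 1
  exact ⟨h1, fun a => by simpa [h1] using k a⟩

theorem act0 {w : V} {d : E} (h2 : B v w = 0) (h3 : d + σ d = B w w) :
    B v (σ l • f w) = 0 ∧
      θ d * (l * σ l) + σ (θ d * (l * σ l)) = B (σ l • f w) (σ l • f w) ∧
      g * EE φ v w d * g⁻¹ = EE φ v (σ l • f w) (θ d * (l * σ l)) := by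
  refine ⟨?_, ?_, by rw [c.EE_act hs ha hv.1 h2 h3, hl, c.EE_smul]⟩
  · have h := hs.form v w
    rw [hl, h2, map_zero, sm_left] at h
    rw [sm_right, h]
  · rw [sm_left, sm_right, hs.form, ← h3, map_add, c.θ_σ hs, map_mul, map_mul, c.qf.sq]
    ring

end Act

theorem nQ [Finite G] {v : V} (hv : Pt B v) : N[L] ⊓ N[ZV i φ v] ≤ N[QV φ v] := fun g hg => by
  obtain ⟨f, θ, hs, ha⟩ := c.mod.ext g hg.1
  obtain ⟨l, l0, hl⟩ := line_of_N c hs ha hv hg.2
  refine mem_N_of_conj fun y hy => ?_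
  obtain ⟨w, d, h2, h3, rfl⟩ := (c.mem_QV hv).1 hy
  obtain ⟨k1, k2, k3⟩ := act0 c hs ha hv hl h2 h3
  exact (c.mem_QV hv).2 ⟨_, _, k1, k2, k3⟩

theorem EE_sq {v w : V} {d : E} (h1 : B v v = 0) (h2 : B v w = 0) (h3 : d + σ d = B w w) {a : F}
    (ha : i a = B w w) : EE φ v w d * EE φ v w d = TT i φ v a := by
  rw [c.EE_mul h1 h2 h3 h2 h3, c.add_self, c.qf.add_self, zero_add, ← ha, UCtx.EE_zero]

theorem EE_T {v w : V} {d : E} (h1 : B v v = 0) (h2 : B v w = 0) (h3 : d + σ d = B w w) (a : F) :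
    EE φ v w d * TT i φ v a = EE φ v w (d + i a) ∧ TT i φ v a * EE φ v w d = EE φ v w (d + i a) := by
  have h4 : i a + σ (i a) = B (0 : V) 0 := by simp [c.qf.σ_i, c.qf.add_self]
  rw [← UCtx.EE_zero, c.EE_mul h1 h2 h3 (map_zero _) h4, c.EE_mul h1 (map_zero _) h4 h2 h3]
  simp [add_comm]

theorem EE_com {v w w' : V} {d d' : E} (h1 : B v v = 0) (h2 : B v w = 0) (h3 : d + σ d = B w w)
    (h2' : B v w' = 0) (h3' : d' + σ d' = B w' w') {a : F} (ha : i a = B w w' + σ (B w w')) :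
    ⁅EE φ v w d, EE φ v w' d'⁆ = TT i φ v a := by
  have h4 : B v (w' + w) = 0 := by rw [map_add, h2, h2', add_zero]
  have h5 : d' + d + B w' w + σ (d' + d + B w' w) = B (w' + w) (w' + w) := by
    simp only [map_add, LinearMap.add_apply, c.symm]
    linear_combination h3 + h3'
  rw [commutatorElement_def, mul_inv_eq_iff_eq_mul, mul_inv_eq_iff_eq_mul, mul_assoc,
    c.EE_mul h1 h2 h3 h2' h3', c.EE_mul h1 h2' h3' h2 h3, (EE_T c h1 h4 h5 a).2, add_comm w, ha,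
    c.symm]
  congr 1
  linear_combination (-B w' w) * c.qf.two

theorem is2_EE {v w : V} {d : E} (h1 : B v v = 0) (h2 : B v w = 0) (h3 : d + σ d = B w w) :
    Is2 (EE φ v w d) := by
  obtain ⟨a, ha⟩ := (c.qf.fix _).1 (c.symm w w)
  refine ⟨2, ?_⟩
  rw [show 2 ^ 2 = 2 * 2 from rfl, pow_mul, pow_two, pow_two, EE_sq c h1 h2 h3 ha.symm, c.TT_sq h1]

theorem pQ {v : V} (hv : Pt B v) : IsPGroup 2 (QV φ v) := fun y => by
  obtain ⟨w, d, h2, h3, e⟩ := (c.mem_QV hv).1 y.2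
  obtain ⟨k, hk⟩ := is2_EE c hv.1 h2 h3
  exact ⟨k, Subtype.ext (by rw [SubgroupClass.coe_pow, e, hk]; rfl)⟩

/-- An element fixing `v` centralizes `Z_v`. -/
theorem C_of_fix {v : V} (hv : B v v = 0) {s : sisom B} (h : s.1 v = v) : φ s ∈ C[ZV i φ v] :=
  mem_C fun z hz => by
    obtain ⟨a, rfl⟩ := (c.mem_ZV hv).1 hz
    have := c.TT_conj s hv a
    rw [h] at this
    exact mul_inv_eq_iff_eq_mul.1 this

theorem TT_YZ {v x : V} (hv : B v v = 0) (hx : B x x = 0) (h : B v x = 0) (a : F) :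
    TT i φ x a ∈ YZ L (ZV i φ v) := by
  refine mem_YZ' (c.TT_mem hx a) ?_ (is2_of_sq (c.TT_sq hx a))
  obtain ⟨s, h1, e⟩ := c.tt hx a
  exact e ▸ C_of_fix c hv (by rw [h1, c.flip h, mul_zero, zero_smul, add_zero])

theorem EE_YZ {v x w : V} {d : E} (hv : B v v = 0) (h1 : B x x = 0) (h2 : B x w = 0)
    (h3 : d + σ d = B w w) (k1 : B x v = 0) (k2 : B w v = 0) : EE φ x w d ∈ YZ L (ZV i φ v) := by
  refine mem_YZ' (c.EE_mem h1 h2 h3) ?_ (is2_EE c h1 h2 h3)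
  obtain ⟨s, h, e⟩ := c.ee h1 h2 h3
  exact e ▸ C_of_fix c hv (by simp [h, k1, k2])

theorem eq_of_fix {s s' : sisom B} (e : φ s = φ s') {v : V} (hv : v ≠ 0) (h : s.1 v = s'.1 v) :
    s = s' := by
  obtain ⟨d, -, hd⟩ := c.scal (s := s⁻¹ * s') (by
    rw [map_mul, map_inv, e, inv_mul_cancel]; exact one_mem _)
  have h1 := hd v
  rw [mul_app, ← h, inv_app] at h1
  have h2 : d = 1 := by
    by_contra k
    exact hv ((smul_eq_zero.1 (show (d - 1) • v = 0 by rw [sub_smul, ← h1, one_smul, sub_self])).resolve_left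
      (sub_ne_zero.2 k))
  exact inv_mul_eq_one.1 (s_ext fun x => by rw [hd, h2, one_smul]; rfl)

theorem fix_of_is2 {s : sisom B} (h : Is2 s) {v : V} (hv : v ≠ 0) {l : E} (hl : s.1 v = l • v) :
    s.1 v = v := by
  obtain ⟨k, hk⟩ := h
  have h1 : ∀ n : ℕ, (s ^ n).1 v = l ^ n • v := fun n => by
    induction n with
    | zero => simp
    | succ n ih => rw [pow_succ, mul_app, hl, map_smul, ih, smul_smul, pow_succ']
  have h2 := h1 (2 ^ k)
  rw [hk] at h2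
  have h3 : l ^ 2 ^ k = 1 := by
    by_contra k1
    exact hv ((smul_eq_zero.1 (show (l ^ 2 ^ k - 1) • v = 0 by
      rw [sub_smul, ← h2, one_smul]; exact sub_self _)).resolve_left (sub_ne_zero.2 k1))
  rw [hl, c.qf.eq_one_of_pow h3, one_smul]

theorem even_sub {U : Submodule E V} (h : U ≠ ⊥) : 2 ∣ Nat.card U := by
  obtain ⟨x, hx, x0⟩ := U.exists_mem_ne_zero_of_ne_bot h
  have : addOrderOf (⟨x, hx⟩ : U) = 2 := by
    haveI : Fact (Nat.Prime 2) := ⟨Nat.prime_two⟩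
    exact addOrderOf_eq_prime (Subtype.ext (by simpa [two_nsmul] using c.add_self x))
      (fun e => x0 (congrArg Subtype.val e))
  exact this ▸ addOrderOf_dvd_natCard _

/-- A `2`-subgroup of `L` lifts. -/
theorem lift_sub [Finite G] [Finite V] {P : Subgroup G} (hL : P ≤ L) (hP : IsPGroup 2 P) :
    ∃ P' : Subgroup (sisom B), IsPGroup 2 P' ∧ P'.map φ = P := by
  haveI : Fact (Nat.Prime 2) := ⟨Nat.prime_two⟩
  haveI : Finite (V ≃ₗ[E] V) := Finite.of_injective _ DFunLike.coe_injective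
  obtain ⟨S, hS⟩ := H8.exists_isSylowIn 2 (P.comap φ)
  have h := hS.map φ
  rw [map_comap_eq_self (by rwa [c.mod.rng])] at h
  exact ⟨S, hS.isPGroup, (h.eq_of_le hP le_rfl h.le).symm⟩

theorem fix_sub [Finite V] {P : Subgroup (sisom B)} (hP : IsPGroup 2 P) {U : Submodule E V} (h : U ≠ ⊥)
    (hU : ∀ s ∈ P, ∀ x ∈ U, s.1 x ∈ U) : ∃ x ∈ U, x ≠ 0 ∧ ∀ s ∈ P, s.1 x = x := by
  obtain ⟨b, h1, h2⟩ := fix2 hP (even_sub c h) (fun s x => ⟨s.1.1 x.1, hU s.1 s.2 x.1 x.2⟩)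
    (fun _ => rfl) (fun _ _ _ => rfl) (a := 0) (fun s => Subtype.ext (map_zero s.1.1))
  exact ⟨b.1, b.2, fun e => h1 (Subtype.ext e), fun s hs => congrArg Subtype.val (h2 ⟨s, hs⟩)⟩

/-- A `2`-subgroup of `L` centralizes a transvection group. -/
theorem fix_pt [Finite G] [Finite V] {P : Subgroup G} (hL : P ≤ L) (hP : IsPGroup 2 P) :
    ∃ x, Pt B x ∧ P ≤ C[ZV i φ x] := by
  obtain ⟨P', h1, rfl⟩ := lift_sub c hL hP
  suffices h : ∃ x, Pt B x ∧ ∀ s ∈ P', s.1 x = x by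
    obtain ⟨x, h2, h3⟩ := h
    refine ⟨x, h2, ?_⟩
    rintro _ ⟨s, hs, rfl⟩
    exact C_of_fix c h2.1 (h3 s hs)
  have h4 := c.four
  have : Nontrivial V := Module.nontrivial_of_finrank_pos (R := E) (by omega)
  obtain ⟨u, -, u0, hu⟩ := fix_sub c h1 (U := ⊤) top_ne_bot.symm.symm fun _ _ _ _ => trivial
  by_cases h5 : B u u = 0
  · exact ⟨u, ⟨h5, u0⟩, hu⟩
  obtain ⟨u', k1, k2, k3⟩ := fix_sub c h1 (U := perp B (E ∙ u)) (fun e => by
    have := c.herm.finrank_add_finrank_perp (E ∙ u)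
    rw [e, finrank_bot, finrank_span_singleton u0] at this
    omega) fun s hs x hx => by
      rw [mem_perp_span_singleton] at hx ⊢
      rw [← hu s hs, iso_map, hx]
  rw [mem_perp_span_singleton] at k1
  obtain ⟨d, hd⟩ := c.herm.toIsHermSymm.exists_smul_norm_eq h5 (c.symm u' u')
  refine ⟨u' + d • u, ⟨?_, fun e => k2 ?_⟩, fun s hs => by rw [map_add, map_smul, k3 s hs, hu s hs]⟩
  · simp only [map_add, LinearMap.add_apply, hd]
    rw [sm_left, sm_right, k1, c.flip k1, mul_zero, mul_zero, add_zero, zero_add, c.qf.add_self]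
  · have k4 := congrArg (B u) e
    rw [map_add, k1, zero_add, sm_right, map_zero, mul_eq_zero] at k4
    rwa [k4.resolve_right h5, zero_smul, add_zero] at e

end Cfsg.Agent.H54V.H22.UH
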