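import Cfsg.Agent.H54.VHeisA

/-!
# The Heisenberg group of a unitary group: the structure `Heis`
-/

set_option autoImplicit false
set_option linter.unusedSectionVars false
set_option linter.style.haveILetI false

namespace Cfsg.Agent.H54V.H22.UH

open Cfsg.Agent.H22

open Cfsg Cfsg.Agent.H63 Cfsg.Agent.H63.SL Cfsg.Agent.H34 Cfsg.Agent.H34.TW Cfsg.Agent.H34.UM
  Cfsg.Agent.H31 Subgroup Module
open Cfsg.Agent.H27.End (mem_C comm_of_C eq_one_of_is2 is2_of_sq mem_N_of_conj conj_mem is2_of_mem)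
open Cfsg.Agent.H8 (IsSylowIn)
open scoped commutatorElement

universe u v

variable {F E V : Type v} [Field F] [Field E] [AddCommGroup V] [Module E V] {i : F →+* E}
  {σ : E ≃+* E} {B : V →ₛₗ[(σ : E →+* E)] V →ₗ[E] E} {G : Type u} [Group G] {φ : sisom B →* G}
  {L : Subgroup G} {W : Type v} [AddCommGroup W] [Module F W]

variable (i φ) in
/-- Coordinates on the Heisenberg group. -/
structure HD (v v' : V) (κ : W →+ V) (p : G → W) (B' : W →ₗ[F] W →ₗ[F] F) (Qf : W → F) : Prop where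
  pt : Pt B v
  iso : B v' v' = 0
  one : B v v' = 1
  inj : Function.Injective κ
  o1 : ∀ w, B v (κ w) = 0
  o2 : ∀ w, B v' (κ w) = 0
  rng : ∀ x, B v x = 0 → B v' x = 0 → ∃ w, κ w = x
  smul : ∀ a w, κ (a • w) = i a • κ w
  pE : ∀ w d, d + σ d = B (κ w) (κ w) → p (EE φ v (κ w) d) = w
  bf : ∀ w w', i (B' w w') = B (κ w) (κ w') + σ (B (κ w) (κ w'))
  qf : ∀ w, i (Qf w) = B (κ w) (κ w)
  card : Nat.card W = Nat.card E ^ (finrank E V - 2)

variable [FiniteDimensional E V] [Finite E] (c : UCtx i φ L)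
include c

theorem EE_inj {v v' w w' : V} {d d' : E} (hv : Pt B v) (h1 : B v v' = 1) (h2 : B v w = 0)
    (h3 : d + σ d = B w w) (h2' : B v w' = 0) (h3' : d' + σ d' = B w' w') (k : B v' w = 0)
    (k' : B v' w' = 0) (e : EE φ v w d = EE φ v w' d') : w = w' := by
  obtain ⟨s, h, e1⟩ := c.ee hv.1 h2 h3
  obtain ⟨s', h', e2⟩ := c.ee hv.1 h2' h3'
  have h4 : s = s' := eq_of_fix c (by rw [e1, e2, e]) hv.2 (by
    rw [h, h']; simp [hv.1, c.flip h2, c.flip h2'])
  have h5 := h v'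
  rw [h4, h', h1, c.flip k, c.flip k'] at h5
  simp only [one_smul, zero_smul, add_zero, mul_one] at h5
  have h6 := congrArg (B v') h5
  simp only [map_add, map_smul, k, k', c.flip1 h1, smul_eq_mul, mul_one, add_zero,
    add_right_inj] at h6
  rw [h6] at h5
  exact (add_left_cancel (add_right_cancel h5)).symm

theorem exists_hd {v : V} (hv : Pt B v) : ∃ (W : Type v) (_ : AddCommGroup W) (_ : Module F W)
    (v' : V) (κ : W →+ V) (p : G → W) (B' : W →ₗ[F] W →ₗ[F] F) (Qf : W → F),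
    HD i φ v v' κ p B' Qf := by
  classical
  obtain ⟨v', h1, h2⟩ := c.hyp hv
  let S := perp B (Submodule.span E {v, v'})
  letI : Module F S := Module.compHom S i
  have sm : ∀ (a : F) (w : S), ((a • w : S) : V) = i a • (w : V) := fun _ _ => rfl
  choose tr htr using c.qf.exists_trace
  choose nm hnm using fun w : V => (c.qf.fix _).1 (c.symm w w)
  refine ⟨S, inferInstance, inferInstance, v', S.subtype.toAddMonoidHom,
    fun g => if h : ∃ w : S, ∃ d, d + σ d = B w w ∧ g = EE φ v w d then h.choose else 0,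
    LinearMap.mk₂ F (fun w w' : S => tr (B w w')) (fun a b d => i.injective ?_)
      (fun a b d => i.injective ?_) (fun a b d => i.injective ?_) (fun a b d => i.injective ?_),
    fun w => nm w, hv, h1, h2, Subtype.val_injective, fun w => (UCtx.mem_perp_pair.1 w.2).1,
    fun w => (UCtx.mem_perp_pair.1 w.2).2, fun x k1 k2 => ⟨⟨x, UCtx.mem_perp_pair.2 ⟨k1, k2⟩⟩, rfl⟩,
    sm, fun w d hd => ?_, fun w w' => htr _, fun w => (hnm _).symm, ?_⟩
  · simp only [map_add, htr, Submodule.coe_add, LinearMap.add_apply]; ring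
  · rw [smul_eq_mul, map_mul, htr, htr, sm, sm_left, map_mul, c.qf.sq, c.qf.σ_i]; ring
  · simp only [map_add, htr, Submodule.coe_add]; ring
  · rw [smul_eq_mul, map_mul, htr, htr, sm, sm_right, map_mul, c.qf.σ_i]; ring
  · have h : ∃ w' : S, ∃ d', d' + σ d' = B w' w' ∧ EE φ v w d = EE φ v w' d' := ⟨w, d, hd, rfl⟩
    change (if h : ∃ w' : S, ∃ d', d' + σ d' = B w' w' ∧ EE φ v w d = EE φ v w' d' then h.choose
      else 0) = w
    rw [dif_pos h]
    obtain ⟨d', k1, k2⟩ := h.choose_spec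
    exact Subtype.ext (EE_inj c hv h2 (UCtx.mem_perp_pair.1 w.2).1 hd
      (UCtx.mem_perp_pair.1 h.choose.2).1 k1 (UCtx.mem_perp_pair.1 w.2).2
      (UCtx.mem_perp_pair.1 h.choose.2).2 k2).symm
  · rw [← (c.perp_pair hv.1 h2).2, Nat.add_sub_cancel]
    exact Module.natCard_eq_pow_finrank

variable {v v' : V} {κ : W →+ V} {p : G → W} {B' : W →ₗ[F] W →ₗ[F] F} {Qf : W → F}
  (h : HD i φ v v' κ p B' Qf)
include h

theorem proj {x : V} (hx : B v x = 0) : ∃ w, κ w = x + B v' x • v :=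
  h.rng _ (by rw [map_add, hx, sm_right, h.pt.1, mul_zero, add_zero])
    (by rw [map_add, sm_right, c.flip1 h.one, mul_one, c.qf.add_self])

/-- `EE v x d` in coordinates. -/
theorem coord {x : V} {d : E} (h2 : B v x = 0) (h3 : d + σ d = B x x) :
    κ (p (EE φ v x d)) = x + B v' x • v ∧
      EE φ v x d = EE φ v (κ (p (EE φ v x d))) (d + B v' x + σ (B v' x)) ∧
      d + B v' x + σ (B v' x) + σ (d + B v' x + σ (B v' x)) =
        B (κ (p (EE φ v x d))) (κ (p (EE φ v x d))) := by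
  obtain ⟨w, hw⟩ := proj c h h2
  have e : x = κ w + B v' x • v := by rw [hw, add_assoc, c.add_self, add_zero]
  have k1 : EE φ v x d = EE φ v (κ w) (d + B v' x + σ (B v' x)) := by
    rw [← UCtx.EE_shift, ← e]
  have k2 : d + B v' x + σ (B v' x) + σ (d + B v' x + σ (B v' x)) = B (κ w) (κ w) := by
    rw [hw]
    simp only [map_add, LinearMap.add_apply, sm_left, sm_right, h2, c.flip h2, h.pt.1, c.qf.sq,
      mul_zero, add_zero]
    linear_combination h3 + (B v' x + σ (B v' x)) * c.qf.two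
  have k3 : p (EE φ v x d) = w := by rw [k1, h.pE _ _ k2]
  rw [k3]
  exact ⟨hw, k1, k2⟩

theorem rep {y : G} (hy : y ∈ QV φ v) :
    ∃ d, d + σ d = B (κ (p y)) (κ (p y)) ∧ y = EE φ v (κ (p y)) d := by
  obtain ⟨w, d, h2, h3, rfl⟩ := (c.mem_QV h.pt).1 hy
  obtain ⟨-, k1, k2⟩ := coord c h h2 h3
  exact ⟨_, k2, k1⟩

theorem EE_Q {w : W} {d : E} (h3 : d + σ d = B (κ w) (κ w)) : EE φ v (κ w) d ∈ QV φ v :=
  (c.mem_QV h.pt).2 ⟨_, _, h.o1 w, h3, rfl⟩

theorem surj (w : W) : ∃ y ∈ QV φ v, p y = w := by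
  obtain ⟨d, hd⟩ := c.qf.exists_tr (Qf w)
  rw [h.qf] at hd
  exact ⟨_, EE_Q c h hd, h.pE _ _ hd⟩

theorem pmul {y y' : G} (hy : y ∈ QV φ v) (hy' : y' ∈ QV φ v) : p (y * y') = p y + p y' := by
  obtain ⟨d, h1, e⟩ := rep c h hy
  obtain ⟨d', h1', e'⟩ := rep c h hy'
  conv_lhs => rw [e, e', c.EE_mul h.pt.1 (h.o1 _) h1 (h.o1 _) h1', ← map_add]
  refine h.pE _ _ ?_
  simp only [map_add, LinearMap.add_apply, c.symm]
  linear_combination h1 + h1'

theorem T_eq (a : F) : TT i φ v a = EE φ v (κ 0) (i a) ∧ i a + σ (i a) = B (κ 0) (κ 0) := by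
  rw [map_zero, UCtx.EE_zero]
  exact ⟨rfl, by simp [c.qf.σ_i, c.qf.add_self]⟩

theorem ZQ : ZV i φ v ≤ QV φ v := fun z hz => by
  obtain ⟨a, rfl⟩ := (c.mem_ZV h.pt.1).1 hz
  rw [(T_eq c h a).1]
  exact EE_Q c h (T_eq c h a).2

theorem pker {y : G} (hy : y ∈ QV φ v) : p y = 0 ↔ y ∈ ZV i φ v := by
  constructor
  · intro e
    obtain ⟨d, h1, e1⟩ := rep c h hy
    rw [e, map_zero] at h1 e1
    obtain ⟨a, rfl⟩ := (c.qf.fix d).1 (by
      rw [map_zero] at h1
      linear_combination h1 - d * c.qf.two)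
    rw [e1, UCtx.EE_zero]
    exact TT_mem_ZV v a
  · intro hz
    obtain ⟨a, rfl⟩ := (c.mem_ZV h.pt.1).1 hz
    rw [(T_eq c h a).1, h.pE _ _ (T_eq c h a).2]

/-- Scalar multiplication by `E` on `W`. -/
theorem esmul (e : E) (w : W) : ∃ w', κ w' = e • κ w :=
  h.rng _ (by rw [sm_right, h.o1, mul_zero]) (by rw [sm_right, h.o2, mul_zero])

theorem nondegE {w : W} (hw : ∀ w', B (κ w) (κ w') = 0) : w = 0 :=
  h.inj (by
    rw [map_zero]
    refine (c.perp_pair h.pt.1 h.one).1 _ (UCtx.mem_perp_pair.2 ⟨h.o1 w, h.o2 w⟩) fun y hy => ?_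
    obtain ⟨w', rfl⟩ := h.rng y (UCtx.mem_perp_pair.1 hy).1 (UCtx.mem_perp_pair.1 hy).2
    exact hw w')

theorem form_surj {w : W} (hw : w ≠ 0) (e : E) : ∃ w', B (κ w) (κ w') = e := by
  obtain ⟨w1, h1⟩ : ∃ w1, B (κ w) (κ w1) ≠ 0 := by
    by_contra k
    push Not at k
    exact hw (nondegE c h k)
  obtain ⟨w2, h2⟩ := esmul c h (e / B (κ w) (κ w1)) w1
  exact ⟨w2, by rw [h2, sm_right, div_mul_cancel₀ _ h1]⟩

theorem bf_surj {w : W} (hw : w ≠ 0) (a : F) : ∃ w', B' w w' = a := by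
  obtain ⟨d, hd⟩ := c.qf.exists_tr a
  obtain ⟨w', h1⟩ := form_surj c h hw d
  exact ⟨w', i.injective (by rw [h.bf, h1, hd])⟩

theorem big [Finite F] : Nat.card F ^ 4 ≤ Nat.card W ∧ 64 ≤ Nat.card W := by
  rw [h.card, c.qf.card, ← pow_mul]
  have h4 := c.four
  refine ⟨Nat.pow_le_pow_right Nat.card_pos (by omega), ?_⟩
  obtain ⟨h1, h2⟩ := c.dim
  rw [h1, h2]
  norm_num

theorem exists_w [Finite F] : ∃ w : W, w ≠ 0 := by
  have h1 := (big c h).2
  haveI : Finite W := Nat.finite_of_card_ne_zero (by omega)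
  haveI : Nontrivial W := Finite.one_lt_card_iff_nontrivial.1 (by omega)
  exact exists_ne 0

section Act

variable {g : G} {f : V ≃+ V} {θ : E ≃+* E} (hs : Semi B f θ) (ha : Act φ g f) {l : E}
  (hl : f v = l • v)
include hs ha hl

/-- The action on `Q / Z`. -/
theorem act {y : G} (hy : y ∈ QV φ v) :
    κ (p (g * y * g⁻¹)) = σ l • f (κ (p y)) + B v' (σ l • f (κ (p y))) • v := by
  obtain ⟨d, h1, e⟩ := rep c h hy
  obtain ⟨k1, k2, k3⟩ := act0 c hs ha h.pt hl (h.o1 _) h1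
  rw [← e] at k3
  rw [k3]
  exact (coord c h k1 k2).1

theorem act_T {w : W} {d : E} (h3 : d + σ d = B (κ w) (κ w)) {s : F}
    (e : ⁅g, EE φ v (κ w) d⁆ = TT i φ v s) :
    i s = θ d * (l * σ l) + d + (B v' (σ l • f (κ w)) + σ (B v' (σ l • f (κ w)))) := by
  obtain ⟨k1, k2, k3⟩ := act0 c hs ha h.pt hl (h.o1 _) h3
  obtain ⟨-, k4, k5⟩ := coord c h k1 k2
  rw [commutatorElement_def, mul_inv_eq_iff_eq_mul, (EE_T c h.pt.1 (h.o1 _) h3 s).2, k3] at e
  have k6 : d + i s + σ (d + i s) = B (κ w) (κ w) := by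
    rw [map_add, c.qf.σ_i]; linear_combination h3 + i s * c.qf.two
  rw [e, h.pE _ _ k6] at k4 k5
  obtain ⟨a, ha⟩ := (c.qf.fix (θ d * (l * σ l) + B v' (σ l • f (κ w)) +
      σ (B v' (σ l • f (κ w))) + (d + i s))).1 (by
    rw [map_add]
    linear_combination k5 + k6 + (B (κ w) (κ w) - (θ d * (l * σ l) + B v' (σ l • f (κ w)) +
      σ (B v' (σ l • f (κ w))) + (d + i s))) * c.qf.two)
  have k7 := (EE_T c h.pt.1 (h.o1 _) k6 a).1
  rw [← ha, show d + i s + (θ d * (l * σ l) + B v' (σ l • f (κ w)) + σ (B v' (σ l • f (κ w))) +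
      (d + i s)) = θ d * (l * σ l) + B v' (σ l • f (κ w)) + σ (B v' (σ l • f (κ w))) by
    linear_combination (d + i s) * c.qf.two, ← k4, mul_eq_left] at k7
  rw [c.TT_eq_one h.pt k7, map_zero] at ha
  linear_combination ha - (θ d * (l * σ l) + d + (B v' (σ l • f (κ w)) +
    σ (B v' (σ l • f (κ w))))) * c.qf.two

end Act

theorem triv [Finite F] [Finite G] {g : G} (hg : g ∈ N[L] ⊓ C[ZV i φ v])
    (hy : ∀ y ∈ QV φ v, ⁅g, y⁆ ∈ ZV i φ v) : g ∈ QV φ v ⊔ C[L] := by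
  obtain ⟨f, θ, hs, ha⟩ := c.mod.ext g hg.1
  have gN := centralizer_le_normalizer _ hg.2
  obtain ⟨l, l0, hl⟩ := line_of_N c hs ha h.pt gN
  obtain ⟨n1, -⟩ := cent_of c hs ha h.pt hl hg.2
  have k1 : ∀ w, σ l • f (κ w) + B v' (σ l • f (κ w)) • v = κ w := fun w => by
    obtain ⟨y, h1, rfl⟩ := surj c h w
    have h2 := pmul c h (ZQ c h (hy y h1)) h1
    rw [(pker c h (ZQ c h (hy y h1))).2 (hy y h1), zero_add, commutatorElement_def,
      inv_mul_cancel_right] at h2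
    rw [← act c h hs ha hl h1, h2]
  have k2 : ∀ e, θ e = e := fun e => by
    obtain ⟨w, w0⟩ := exists_w c h
    obtain ⟨w', h1⟩ := esmul c h e w
    obtain ⟨u, hu⟩ := form_surj c h w0 1
    have h2 := congrArg (B (κ u)) (k1 w')
    have h3 := congrArg (B (κ u)) (k1 w)
    simp only [map_add, h1, hs.smul, sm_right, c.flip (h.o1 u), c.flip1 hu, mul_zero, add_zero,
      mul_one] at h2 h3
    linear_combination h2 - θ e * h3
  have fv : σ l • f v = v := by rw [hl, smul_smul, mul_comm, n1, one_smul]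
  have iso : ∀ x y, B (σ l • f x) (σ l • f y) = B x y := fun x y => by
    rw [sm_left, sm_right, hs.form, k2, c.qf.sq, ← mul_assoc, n1, one_mul]
  obtain ⟨u, hu⟩ : ∃ u, σ l • f v' = v' + u := ⟨σ l • f v' - v', by abel⟩
  have u1 : B v u = 0 := by
    have := iso v v'
    rwa [fv, hu, map_add, add_eq_left] at this
  have u2 : B u v' + σ (B u v') = B u u := by
    have := iso v' v'
    simp only [hu, map_add, LinearMap.add_apply, h.iso] at this
    rw [c.symm]
    linear_combination this - B u u * c.qf.two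
  obtain ⟨s, h1, e⟩ := c.ee h.pt.1 u1 u2
  have k3 : ∀ x, B v x = 0 → σ l • f x = x + B u x • v := fun x hx => by
    obtain ⟨w, hw⟩ := proj c h hx
    obtain ⟨a, h2⟩ : ∃ a : E, σ l • f x = x + a • v := by
      have h3 := k1 w
      rw [hw, map_add, hs.smul, k2, smul_add, smul_comm (σ l) _ (f v), fv] at h3
      exact ⟨-B v' (σ l • f x + B v' x • v), by linear_combination (norm := module) h3⟩
    have h3 := iso v' x
    simp only [hu, h2, map_add, LinearMap.add_apply, sm_right, c.flip1 h.one, c.flip u1] at h3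
    rw [h2, show a = B u x by linear_combination h3 - B u x * c.qf.two]
  have k4 : ∀ x, s.1 x = σ l • f x := fun x => by
    have h2 := k3 (x - B v x • v') (by simp [h.one])
    simp only [map_sub, hs.smul, k2, smul_sub, smul_comm (σ l) _ (f v'), hu, sm_right] at h2
    rw [h1]
    linear_combination (norm := module) -h2 + c.add_self ((B u v' * B v x) • v)
  have k5 : (φ s)⁻¹ * g ∈ C[L] := mem_C fun x hx => by
    obtain ⟨t, rfl⟩ := c.surj hx
    obtain ⟨t', h2, h3⟩ := ha t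
    have h4 : t' = s * t * s⁻¹ := eq_mul_inv_of_mul_eq (s_ext fun x => by
      rw [mul_app, mul_app, k4, k4, map_smul, h2])
    rw [h4, map_mul, map_mul, map_inv] at h3
    change _ * _ = _ * _
    calc (φ s)⁻¹ * g * φ t = (φ s)⁻¹ * (g * φ t * g⁻¹) * g := by group
      _ = _ := by rw [h3]; group
  rw [show g = φ s * ((φ s)⁻¹ * g) by group]
  exact mul_mem_sup (e ▸ (c.mem_QV h.pt).2 ⟨_, _, u1, u2, rfl⟩) k5

theorem heis0 [Finite F] [Finite G] (k : KitA i φ L) :
    Heis L (QV φ v) (ZV i φ v) (TT i φ v) p B' Qf where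
  two := c.qf.twoF
  QL := c.QV_le v
  ZQ := ZQ c h
  ζadd := c.TT_add h.pt.1
  ζinj _ := c.TT_eq_one h.pt
  ζmem _ := c.mem_ZV h.pt.1
  πmul _ hy _ hy' := pmul c h hy hy'
  πsurj := surj c h
  πker _ := pker c h
  com y hy y' hy' := by
    obtain ⟨d, h1, e⟩ := rep c h hy
    obtain ⟨d', h1', e'⟩ := rep c h hy'
    have := EE_com c h.pt.1 (h.o1 _) h1 (h.o1 _) h1' (h.bf _ _)
    rwa [← e, ← e'] at this
  sq y hy := by
    obtain ⟨d, h1, e⟩ := rep c h hy
    have := EE_sq c h.pt.1 (h.o1 _) h1 (h.qf _)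
    rwa [← e] at this
  smul a w := i.injective (by
    rw [h.qf, map_mul, h.qf, h.smul, sm_left, sm_right, c.qf.σ_i, map_pow]; ring)
  nondeg w hw := by
    by_contra k
    obtain ⟨w', e⟩ := bf_surj c h k 1
    exact one_ne_zero (e.symm.trans (hw w'))
  big := big c h
  nQ := nQ c h.pt
  ti g hg z hz z1 e := by
    obtain ⟨f, θ, hs, ha⟩ := c.mod.ext g hg
    obtain ⟨l, l0, hl⟩ := line_of c hs ha h.pt hz z1 e
    exact N_of_line c hs ha h.pt hl l0
  lin g hg a y hy y' hy' e := by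
    obtain ⟨f, θ, hs, ha⟩ := c.mod.ext g hg.1
    obtain ⟨l, l0, hl⟩ := line_of_N c hs ha h.pt (centralizer_le_normalizer _ hg.2)
    obtain ⟨-, n2⟩ := cent_of c hs ha h.pt hl hg.2
    refine h.inj ?_
    rw [h.smul, act c h hs ha hl hy, act c h hs ha hl hy', e, h.smul, hs.smul, n2]
    simp only [sm_right]
    module
  fld g hg g2 hC := by
    refine absurd (mem_C fun z hz => ?_) hC
    obtain ⟨f, θ, hs, ha⟩ := c.mod.ext g hg.1
    obtain ⟨l, l0, hl⟩ := line_of_N c hs ha h.pt hg.2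
    obtain ⟨ψ, h1, -⟩ := k.out
    have h2 : θ * θ = 1 := by
      rw [← h1 ⟨g, hg.1⟩ f θ hs ha, ← map_mul, show (⟨g, hg.1⟩ * ⟨g, hg.1⟩ : N[L]) = 1 from
        Subtype.ext g2, map_one]
    obtain ⟨n, hn⟩ := c.qf.exists_norm l
    have h3 : ∀ a, g * TT i φ v a * g⁻¹ = TT i φ v (n * a) := fun a =>
      TT_act' c hs ha h.pt hl (by rw [theta_sq c.qf h2, map_mul, hn])
    have h4 : n * (n * 1) = 1 := TT_cancel c h.pt (by
      rw [← h3, ← h3]
      calc _ = g * g * TT i φ v 1 * (g * g)⁻¹ := by group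
        _ = _ := by rw [g2]; group)
    have h5 : n = 1 := eq_of_sub_eq_zero (pow_eq_zero_iff two_ne_zero |>.1 (by
      linear_combination h4 + (1 - n) * c.qf.twoF))
    obtain ⟨a, rfl⟩ := (c.mem_ZV h.pt.1).1 hz
    have := h3 a
    rw [h5, one_mul] at this
    exact mul_inv_eq_iff_eq_mul.1 this
  triv _ hg hy := triv c h hg hy
  psi g hg := by
    obtain ⟨f, θ, hs, ha⟩ := c.mod.ext g hg.1
    obtain ⟨l, l0, hl⟩ := line_of_N c hs ha h.pt (centralizer_le_normalizer _ hg.2)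
    obtain ⟨n1, n2⟩ := cent_of c hs ha h.pt hl hg.2
    obtain ⟨u, hu⟩ := f.surjective (l • v')
    have u1 : B v (u + v') = 0 := by
      have h1 := hs.form v u
      rw [hl, hu, sm_left, sm_right, h.one, mul_one, mul_comm, n1, eq_comm, ← map_one θ] at h1
      rw [map_add, θ.injective h1, h.one, c.qf.add_self]
    obtain ⟨w0, hw⟩ := proj c h u1
    have k1 : ∀ w, B v' (σ l • f (κ w)) = θ (B (κ w0) (κ w)) := fun w => by
      have h1 := hs.form u (κ w)
      rw [hu, sm_left] at h1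
      rw [sm_right, h1, hw]
      simp [h.o1, h.o2]
    have k2 : ∀ y ∈ QV φ v, ∀ s, ⁅g, y⁆ = TT i φ v s → ∃ d, d + σ d = B (κ (p y)) (κ (p y)) ∧
        i (s + B' w0 (p y)) = θ d + d := fun y hy s e => by
      obtain ⟨d, h1, e1⟩ := rep c h hy
      have h2 := act_T c h hs ha hl h1 (s := s) (by rw [← e1, e])
      rw [k1, ← c.θ_σ hs, ← map_add, ← h.bf, n2, n1, mul_one] at h2
      exact ⟨d, h1, by rw [map_add, h2]; linear_combination i (B' w0 (p y)) * c.qf.two⟩
    refine ⟨w0, fun a s s' y hy y' hy' e e1 e2 => i.injective ?_⟩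
    obtain ⟨d, h1, h2⟩ := k2 y hy s e1
    obtain ⟨d', h1', h2'⟩ := k2 y' hy' s' e2
    rw [e, map_smul, smul_eq_mul] at h2'
    rw [e, h.smul, sm_left, sm_right, c.qf.σ_i] at h1'
    rw [h2', map_mul, h2, map_pow]
    rcases theta_cases c.qf n2 with t | t
    · rw [t, t, c.qf.add_self, c.qf.add_self, mul_zero]
    · rw [t, t]
      linear_combination h1' - i a ^ 2 * h1

end Cfsg.Agent.H54V.H22.UH
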