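import Cfsg.Agent.H54.VDefs

/-!
Project UM: lifting outer `2`-elements of the normalizer of a unitary group to involutions.
-/

set_option autoImplicit false

namespace Cfsg.Agent.H54V.H7.UmL

open Cfsg.Agent.H7

open Cfsg Cfsg.Agent.H63 Cfsg.Agent.H63.SL Cfsg.Agent.H34 Cfsg.Agent.H34.TW Cfsg.Agent.H31
  Cfsg.Agent.H34.UM Subgroup Module
open Cfsg.Agent.H8 (IsSylowIn)

universe u v

section Core

variable {G M S : Type*} [Group G] [Group M] [Group S] (ι : S →* M) (φ : S →* G)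

/-- `g` acts on the image of `φ` as `p` acts on the image of `ι` -/
def Rel (p : M) (g : G) : Prop := ∀ s, ∃ s', ι s' = p * ι s * p⁻¹ ∧ g * φ s * g⁻¹ = φ s'

variable {ι φ}

theorem Rel.mul {p q : M} {g h : G} (h1 : Rel ι φ p g) (h2 : Rel ι φ q h) :
    Rel ι φ (p * q) (g * h) := fun s => by
  obtain ⟨s1, e1, e2⟩ := h2 s
  obtain ⟨s2, e3, e4⟩ := h1 s1
  refine ⟨s2, by rw [e3, e1]; group, by rw [← e4, ← e2]; group⟩

theorem Rel.pow {p : M} {g : G} (h : Rel ι φ p g) (n : ℕ) : Rel ι φ (p ^ n) (g ^ n) := by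
  induction n with
  | zero => exact fun s => ⟨s, by simp, by simp⟩
  | succ n ih => rw [pow_succ, pow_succ]; exact ih.mul h

theorem rel_self (s : S) : Rel ι φ (ι s) (φ s) := fun t => ⟨s * t * s⁻¹, by simp, by simp⟩

theorem is2_pgroup {g : M} (h : Is2 g) : IsPGroup 2 (zpowers g) := by
  obtain ⟨k, hk⟩ := h
  obtain ⟨j, -, hj⟩ := (Nat.dvd_prime_pow Nat.prime_two).1 (orderOf_dvd_of_pow_eq_one hk)
  exact IsPGroup.of_card (by rw [Nat.card_zpowers, hj])

theorem core [Finite G] [Finite M] [Finite S] (hι : Function.Injective ι) {L U : Subgroup G}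
    (hL : φ.range = L) (hU : IsSylowIn 2 U L) {Γ K : Subgroup M} (hιΓ : ι.range ≤ Γ)
    (h2 : ∀ p ∈ K, Is2 p → p ∈ ι.range)
    (hidx : ∀ p ∈ Γ, ∀ q ∈ Γ, p ∉ K → q ∉ K → p * q ∈ K) {f0 : M} (h0 : f0 ∈ Γ) (h0K : f0 ∉ K)
    (h02 : f0 * f0 = 1) {a : G} {f : M} (ha : a ∈ N[U]) (hf : f ∈ Γ) (hf2 : Is2 f)
    (hr : Rel ι φ f a) : ∃ u ∈ U, u * a * (u * a) ∈ C[L] := by
  set V0 := (U.comap φ).map ι with hV0
  have hfn : f ∈ N[V0] := by
    apply mem_normalizer_fintype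
    rintro _ ⟨s, hs, rfl⟩
    obtain ⟨s', e1, e2⟩ := hr s
    exact ⟨s', by rw [SetLike.mem_coe, mem_comap, ← e2]; exact (mem_normalizer_iff.1 ha _).1 hs,
      e1⟩
  obtain ⟨T0, hT0, hfT⟩ := H8.exists_isSylowIn_ge (is2_pgroup hf2)
    (le_sup_right : zpowers f ≤ V0 ⊔ zpowers f)
  have h1 := hT0.inf_of_le_normalizer (N := V0) (sup_le le_normalizer (zpowers_le.2 hfn))
  rw [inf_eq_right.2 (le_sup_left : V0 ≤ V0 ⊔ zpowers f)] at h1
  have h3 : IsSylowIn 2 (T0.comap ι ⊓ U.comap φ) (U.comap φ) :=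
    ⟨inf_le_right, (hT0.isPGroup.comap_of_injective ι hι).to_le inf_le_left, by
      rw [inf_relIndex_right, relIndex_comap, ← inf_relIndex_right]
      exact h1.not_dvd⟩
  have h4 := h3.map φ
  rw [map_comap_eq_self (hL ▸ hU.le)] at h4
  have h5 := h4.eq_of_le hU.isPGroup le_rfl h4.le
  obtain ⟨P, hP, hTP⟩ := H8.exists_isSylowIn_ge hT0.isPGroup
    (hT0.le.trans (sup_le ((map_le_range ι _).trans hιΓ) (zpowers_le.2 hf)))
  have h6 : (P.comap ι).map φ = U :=
    hU.eq_of_le ((hP.isPGroup.comap_of_injective ι hι).map φ) (hL ▸ map_le_range φ _)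
      (h5.le.trans (map_mono (inf_le_left.trans (comap_mono hTP))))
  have hfP : f ∈ P := hTP (hfT (mem_zpowers f))
  obtain ⟨x, hxP, hx2, hxK⟩ : ∃ x ∈ P, x * x = 1 ∧ x * f⁻¹ ∈ K := by
    by_cases hfK : f ∈ K
    · exact ⟨1, one_mem _, one_mul _, by simpa using hfK⟩
    obtain ⟨g, hg, hle⟩ := hP.exists_conj_le (is2_pgroup ⟨1, by rw [pow_one, pow_two, h02]⟩)
      (zpowers_le.2 h0)
    refine ⟨g * f0 * g⁻¹, hle (H8.conj_mem_conj_smul.2 (mem_zpowers f0)), ?_,
      hidx _ (mul_mem (mul_mem hg h0) (inv_mem hg)) _ (inv_mem hf) (fun hm => ?_)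
        (by simpa using hfK)⟩
    · calc g * f0 * g⁻¹ * (g * f0 * g⁻¹) = g * (f0 * f0) * g⁻¹ := by group
        _ = 1 := by rw [h02]; group
    · by_cases hgK : g ∈ K
      · exact h0K ((mul_mem_cancel_left hgK).1 ((mul_mem_cancel_right (inv_mem hgK)).1 hm))
      · exact hgK (inv_mem_iff.1 ((mul_mem_cancel_left (hidx g hg f0 h0 hgK h0K)).1 hm))
  have hm : x * f⁻¹ ∈ P := mul_mem hxP (inv_mem hfP)
  obtain ⟨s, hs⟩ := h2 _ hxK (by
    obtain ⟨k, hk⟩ := hP.isPGroup ⟨_, hm⟩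
    exact ⟨k, by simpa using congrArg Subtype.val hk⟩)
  refine ⟨φ s, h6 ▸ mem_map_of_mem φ (by rw [mem_comap, hs]; exact hm), ?_⟩
  have h7 := (rel_self s).mul hr
  rw [hs, inv_mul_cancel_right] at h7
  have h8 := h7.mul h7
  rw [hx2, ← hL] at *
  rw [mem_centralizer_iff]
  rintro _ ⟨t, rfl⟩
  obtain ⟨t', e1, e2⟩ := h8 t
  have : t' = t := hι (by simpa using e1)
  rw [this, mul_inv_eq_iff_eq_mul] at e2
  exact e2.symm

end Core

section Model

variable {E V : Type v} [Field E] [AddCommGroup V] [Module E V]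
  {σ : E ≃+* E} (B : V →ₛₗ[(σ : E →+* E)] V →ₗ[E] E)

/-- a semilinear isometry as a permutation -/
def Sm (θ : E → E) (p : Equiv.Perm V) : Prop :=
  (∀ x y, p (x + y) = p x + p y) ∧ (∀ (c : E) x, p (c • x) = θ c • p x) ∧
    ∀ x y, B (p x) (p y) = θ (B x y)

variable {B}

theorem Sm.mul {θ θ' θ'' : E → E} {p q : Equiv.Perm V} (h1 : Sm B θ p) (h2 : Sm B θ' q)
    (h : ∀ c, θ (θ' c) = θ'' c) : Sm B θ'' (p * q) :=
  ⟨fun x y => by simp only [Equiv.Perm.mul_apply, h2.1, h1.1],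
    fun c x => by simp only [Equiv.Perm.mul_apply, h2.2.1, h1.2.1, h],
    fun x y => by simp only [Equiv.Perm.mul_apply, h2.2.2, h1.2.2, h]⟩

theorem Sm.inv {θ : E → E} {p : Equiv.Perm V} (h1 : Sm B θ p) (h : ∀ c, θ (θ c) = c) :
    Sm B θ p⁻¹ :=
  ⟨fun x y => p.injective (by simp [h1.1]), fun c x => p.injective (by simp [h1.2.1, h]),
    fun x y => by rw [← h (B (p⁻¹ x) (p⁻¹ y)), ← h1.2.2]; simp⟩

variable (B) in
/-- the linear isometries -/
def KK : Subgroup (Equiv.Perm V) where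
  carrier := {p | Sm B id p}
  one_mem' := ⟨fun _ _ => rfl, fun _ _ => rfl, fun _ _ => rfl⟩
  mul_mem' ha hb := ha.mul hb fun _ => rfl
  inv_mem' ha := ha.inv fun _ => rfl

variable (B) in
/-- the linear and the conjugate linear isometries -/
def GG (h : ∀ c, σ (σ c) = c) : Subgroup (Equiv.Perm V) where
  carrier := {p | Sm B id p ∨ Sm B σ p}
  one_mem' := Or.inl (KK B).one_mem
  mul_mem' := by
    rintro a b (ha | ha) (hb | hb)
    · exact Or.inl (ha.mul hb fun _ => rfl)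
    · exact Or.inr (ha.mul hb fun _ => rfl)
    · exact Or.inr (ha.mul hb fun _ => rfl)
    · exact Or.inl (ha.mul hb h)
  inv_mem' := by
    rintro a (ha | ha)
    · exact Or.inl (ha.inv fun _ => rfl)
    · exact Or.inr (ha.inv h)

theorem eq_one_of_pow (h2 : (2 : E) = 0) {d : E} {k : ℕ} (h : d ^ 2 ^ k = 1) : d = 1 := by
  induction k with
  | zero => simpa using h
  | succ k ih =>
    rw [pow_succ, pow_mul] at h
    refine ih (sub_eq_zero.1 (pow_eq_zero_iff two_ne_zero |>.1 ?_))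
    linear_combination h + (1 - d ^ 2 ^ k) * h2

theorem exists_f0 [Finite E] [FiniteDimensional E V] (h : IsHerm B) :
    ∃ f0 : Equiv.Perm V, Sm B σ f0 ∧ f0 * f0 = 1 := by
  obtain ⟨b, hb⟩ := h.exists_on_basis rfl
  have hs : ∀ c, σ (σ c) = c := h.inv.invol
  have hi : Function.Involutive fun x : V => b.equivFun.symm fun i => σ (b.equivFun x i) :=
    fun x => by simp only [LinearEquiv.apply_symm_apply, hs, LinearEquiv.symm_apply_apply]
  refine ⟨hi.toPerm _, ⟨fun x y => ?_, fun c x => ?_, fun x y => ?_⟩, Equiv.ext hi⟩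
  · simp only [Function.Involutive.coe_toPerm, ← map_add]
    congr 1
    ext i
    simp
  · simp only [Function.Involutive.coe_toPerm, ← map_smul]
    congr 1
    ext i
    simp
  · simp only [Function.Involutive.coe_toPerm, Basis.equivFun_symm_apply]
    conv_rhs => rw [← b.sum_equivFun x, ← b.sum_equivFun y]
    rw [form_sum_sum hb, form_sum_sum hb, map_sum]
    simp

end Model

theorem lift : LiftStmt.{u, v} := by
  intro F E V _ _ _ _ _ _ _ _ i σ B G _ _ φ L c kA _ U hU a ha h2a hsq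
  have hs := c.qf.sq
  obtain ⟨f, θ, hf, hact⟩ := c.mod.ext a ha.1
  obtain ⟨ψ, hψ, -⟩ := kA.out
  have hθ : ∀ x, θ (θ x) = x := by
    have h1 : L ⊔ C[L] ≤ ψ.ker.map N[L].subtype := by
      refine sup_le (fun l hl => ⟨⟨l, le_normalizer hl⟩, ?_, rfl⟩) fun k hk =>
        ⟨⟨k, centralizer_le_normalizer _ hk⟩, ?_, rfl⟩
      · obtain ⟨s, rfl⟩ := c.mod.rng ▸ hl
        exact hψ _ s.1.toAddEquiv 1 ⟨fun c x => s.1.map_smul c x, s.2.1⟩
          fun t => ⟨s * t * s⁻¹, fun x => by simp, by simp⟩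
      · refine hψ _ (AddEquiv.refl V) 1 ⟨fun _ _ => rfl, fun _ _ => rfl⟩
          fun t => ⟨t, fun _ => rfl, ?_⟩
        have : φ t ∈ L := c.mod.rng ▸ ⟨t, rfl⟩
        rw [mul_inv_eq_iff_eq_mul]
        exact (mem_centralizer_iff.1 hk _ this).symm
    obtain ⟨y, hy, e⟩ := h1 hsq
    have h3 : y = ⟨a, ha.1⟩ * ⟨a, ha.1⟩ := Subtype.ext e
    rw [h3, SetLike.mem_coe, MonoidHom.mem_ker, map_mul, hψ _ f θ hf hact] at hy
    exact fun x => DFunLike.congr_fun hy x
  have hθ' : (∀ x, θ x = x) ∨ ∀ x, θ x = σ x := by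
    by_cases h1 : ∃ x, θ x ≠ x
    · right
      letI := Fintype.ofFinite E
      obtain ⟨q, e1, e2⟩ := IsInvol.exists_q (σ := (θ : E →+* E)) ⟨hθ, h1⟩
      obtain ⟨q', e3, e4⟩ := c.mod.herm.inv.exists_q
      have : q = q' := Nat.pow_left_injective two_ne_zero (e1.symm.trans e3)
      exact fun x => (e2 x).trans (this ▸ (e4 x).symm)
    · exact Or.inl (by simpa using h1)
  set ι := MulAction.toPermHom (sisom B) V with hι
  have hιa : ∀ (s : sisom B) x, ι s x = s.1 x := fun _ _ => rfl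
  have hfG : f.toEquiv ∈ GG B hs := by
    rcases hθ' with e | e
    · exact Or.inl ⟨f.map_add, fun c x => (hf.smul c x).trans (by rw [e]; rfl),
        fun x y => by rw [id, ← e (B x y)]; exact hf.form x y⟩
    · exact Or.inr ⟨f.map_add, fun c x => by rw [← e c]; exact hf.smul c x,
        fun x y => by rw [← e (B x y)]; exact hf.form x y⟩
  have hr : Rel ι φ f.toEquiv a := fun s => by
    obtain ⟨s', e1, e2⟩ := hact s
    refine ⟨s', ?_, e2⟩
    rw [eq_mul_inv_iff_mul_eq]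
    exact Equiv.ext e1
  set p : Equiv.Perm V := f.toEquiv
  have h0 := (orderOf_pos p).ne'
  obtain ⟨m, hm⟩ : ∃ m, (a ^ ordCompl[2] (orderOf p)) ^ m = a := by
    obtain ⟨k, hk⟩ := h2a
    exact exists_pow_eq_self_of_coprime (Nat.Coprime.coprime_dvd_right
      (orderOf_dvd_of_pow_eq_one hk) ((Nat.coprime_ordCompl Nat.prime_two h0).symm.pow_right k))
  have hr' := (hr.pow (ordCompl[2] (orderOf p))).pow m
  rw [hm] at hr'
  obtain ⟨f0, hf0, h02⟩ := exists_f0 c.mod.herm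
  have hinj : Function.Injective ι := fun s t e => Subtype.ext (LinearEquiv.ext fun x => by
    rw [← hιa, ← hιa, e])
  haveI := Finite.of_injective _ hinj
  refine core (Γ := GG B hs) (K := KK B) hinj c.mod.rng hU ?_ ?_ ?_ (Or.inr hf0) (fun hK => ?_) h02 ha.2 (pow_mem (pow_mem hfG _) _)
    ⟨(orderOf p).factorization 2, ?_⟩ hr'
  · rintro _ ⟨s, rfl⟩
    exact Or.inl ⟨s.1.map_add, s.1.map_smul, s.2.1⟩
  · rintro q hq ⟨k, hk⟩
    let g : V ≃ₗ[E] V := { q with map_add' := hq.1, map_smul' := hq.2.1 }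
    have hg : g ^ 2 ^ k = 1 := LinearEquiv.ext fun x => by
      rw [LinearEquiv.pow_apply]
      exact (congrFun (Equiv.Perm.iterate_eq_pow q _) x).trans (by rw [hk]; rfl)
    refine ⟨⟨g, hq.2.2, Units.ext (eq_one_of_pow (k := k) c.qf.two ?_)⟩, rfl⟩
    rw [← Units.val_pow_eq_pow_val, ← map_pow, hg, map_one, Units.val_one]
  · rintro q (hq | hq) r (hr | hr) h1 h2
    · exact absurd hq h1
    · exact absurd hq h1
    · exact absurd hr h2
    · exact hq.mul hr hs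
  · haveI : Nontrivial V := Module.nontrivial_of_finrank_pos (R := E) (by
      have := c.dim.2; omega)
    obtain ⟨x, hx⟩ := exists_ne (f0 0)
    obtain ⟨ω, hω⟩ := c.qf.tr
    obtain ⟨y, rfl⟩ := f0.surjective x
    have e1 := hK.2.1 ω y
    have e2 := hf0.2.1 0 y
    rw [hf0.2.1, hω, add_smul, one_smul, id, add_eq_left] at e1
    rw [zero_smul, map_zero σ, zero_smul] at e2
    exact hx (e1.trans e2.symm)
  · rw [← pow_mul, ← pow_mul, mul_comm m, ← mul_assoc, mul_comm (ordCompl[2] _),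
      Nat.ordProj_mul_ordCompl_eq_self, pow_mul, pow_orderOf_eq_one, one_pow]

end Cfsg.Agent.H54V.H7.UmL
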