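import Cfsg.Agent.H54.VKit0

/-! Project UM: the doubled Heisenberg group has class two. -/

set_option autoImplicit false
set_option linter.unusedSectionVars false

namespace Cfsg.Agent.H54V.H87.UQh

open Cfsg.Agent.H87

open Cfsg Cfsg.Agent.H63 Cfsg.Agent.H63.SL Cfsg.Agent.H34 Cfsg.Agent.H34.TW Cfsg.Agent.H34.UM
  Cfsg.Agent.H31 Subgroup Module
open Cfsg.Agent.H27.End (mem_C comm_of_C eq_one_of_is2 is2_of_sq mem_C1)
open scoped commutatorElement

universe u v

section Grp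
variable {G : Type u} [Group G]

theorem mulL {p q r : G} (h : Commute p ⁅q, r⁆) : ⁅p * q, r⁆ = ⁅q, r⁆ * ⁅p, r⁆ := by
  calc ⁅p * q, r⁆ = p * ⁅q, r⁆ * p⁻¹ * ⁅p, r⁆ := by simp only [commutatorElement_def]; group
    _ = _ := by rw [h.eq, mul_inv_cancel_right]

theorem mulR {p q r : G} (h : Commute q ⁅p, r⁆) : ⁅p, q * r⁆ = ⁅p, q⁆ * ⁅p, r⁆ := by
  calc ⁅p, q * r⁆ = ⁅p, q⁆ * (q * ⁅p, r⁆ * q⁻¹) := by simp only [commutatorElement_def]; group
    _ = _ := by rw [h.eq, mul_inv_cancel_right]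

theorem conj_comm (g p q : G) : g * ⁅p, q⁆ * g⁻¹ = ⁅g * p * g⁻¹, g * q * g⁻¹⁆ := by
  simp only [commutatorElement_def]; group

theorem exists_odd_pow [Finite G] (k : G) : ∃ n : ℕ, Odd (orderOf (k ^ 2 ^ n)) := by
  have h0 : orderOf k ≠ 0 := (orderOf_pos k).ne'
  obtain ⟨n, m, hm, e⟩ := Nat.exists_eq_two_pow_mul_odd h0
  refine ⟨n, hm.of_dvd_nat (orderOf_dvd_of_pow_eq_one ?_)⟩
  rw [← pow_mul, ← e, pow_orderOf_eq_one]

end Grp

variable {F E V : Type v} [Field F] [Field E] [AddCommGroup V] [Module E V] {i : F →+* E}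
  {σ : E ≃+* E} {B : V →ₛₗ[(σ : E →+* E)] V →ₗ[E] E} {G : Type u} [Group G] {φ : sisom B →* G}
  {L : Subgroup G} {t : G} {A : Type v} [CommRing A] {j : F →+* A} {s : A ≃+* A} {y : V → A → G}
  {v u w u' : V} {a a' : A}

section Par
variable (c : UCtx i φ L) (P : UPar i φ L t j s y)
include P

theorem aself (a : A) : a + a = 0 := by rw [← two_mul, P.two, zero_mul]

theorem s_j (b : F) : s (j b) = j b := (P.fix _).2 ⟨b, rfl⟩

theorem exists_tr (a : A) : ∃ b, s a = a + j b := by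
  obtain ⟨b, hb⟩ := (P.fix (a + s a)).1 (by rw [map_add, P.sq, add_comm])
  exact ⟨b, by rw [← hb, ← add_assoc, aself P, zero_add]⟩

theorem coord {ω : A} (hω : s ω = ω + 1) (a : A) : ∃ x z, a = j x + j z * ω := by
  obtain ⟨z, hz⟩ := exists_tr P a
  obtain ⟨x, hx⟩ := (P.fix (a + j z * ω)).1 (by
    rw [map_add, map_mul, s_j P, hω, hz]
    linear_combination j z * P.two)
  exact ⟨x, z, by rw [← hx, add_assoc, aself P, add_zero]⟩

theorem y0 (hv : B v v = 0) : y v 0 = 1 := by simpa using P.add v hv 0 0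

theorem y2 (hv : B v v = 0) (a : A) : y v a * y v a = 1 := by rw [← P.add v hv, aself P, y0 P hv]

theorem yinv (hv : B v v = 0) (a : A) : (y v a)⁻¹ = y v a := inv_eq_of_mul_eq_one_right (y2 P hv a)

theorem yinj (hv : Pt B v) (e : y v a = y v a') : a = a' := by
  have := P.inj v hv (a + a') (by rw [P.add v hv.1, e, y2 P hv.1])
  linear_combination this - a' * P.two

theorem yy (hv : B v v = 0) (a a' : A) : Commute (y v a) (y v a') := P.com v v hv hv hv a a'

include c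

theorem b_y (hv : B v v = 0) (hu : B u u = 0) (h : B v u = 0) (a a' : A) :
    Commute (BB y u v a) (y v a') :=
  ((P.com _ _ (c.iso_add hu hv (c.flip h)) hv (by simp [hv, c.flip h]) _ _).mul_left
    (P.com _ _ hu hv (c.flip h) _ _)).mul_left (yy P hv _ _)

theorem b_symm (hv : B v v = 0) (hu : B u u = 0) (h : B v u = 0) (a : A) :
    BB y u v a = BB y v u a := by
  rw [BB, BB, add_comm, mul_assoc, mul_assoc, (P.com _ _ hv hu h a a).eq]

theorem b_add (hv : B v v = 0) (hu : B u u = 0) (h : B v u = 0) (a a' : A) :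
    BB y u v (a + a') = BB y u v a * BB y u v a' := by
  have h1 := c.iso_add hu hv (c.flip h)
  have k1 := (P.com _ _ h1 hu (by simp [hu, h]) a' a).eq
  have k2 := (P.com _ _ h1 hv (by simp [hv, c.flip h]) a' a).eq
  have k3 := (P.com _ _ hu hv (c.flip h) a' a).eq
  rw [BB, BB, BB, P.add _ h1, P.add _ hu, P.add _ hv]
  calc _ = y (u + v) a * (y (u + v) a' * y u a) * (y u a' * y v a) * y v a' := by group
    _ = y (u + v) a * y u a * (y (u + v) a' * y v a) * y u a' * y v a' := by rw [k1, k3]; group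
    _ = _ := by rw [k2]; group

theorem b_zero (hv : B v v = 0) (hu : B u u = 0) (h : B v u = 0) : BB y u v 0 = 1 := by
  simpa using b_add c P hv hu h 0 0

theorem b_sq (hv : B v v = 0) (hu : B u u = 0) (h : B v u = 0) (a : A) :
    BB y u v a * BB y u v a = 1 := by rw [← b_add c P hv hu h, aself P, b_zero c P hv hu h]

theorem b_inv (hv : B v v = 0) (hu : B u u = 0) (h : B v u = 0) (a : A) :
    (BB y u v a)⁻¹ = BB y u v a := inv_eq_of_mul_eq_one_right (b_sq c P hv hu h a)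

theorem b_t (hv : B v v = 0) (hu : B u u = 0) (h : B v u = 0) (a : A) :
    t * BB y u v a * t⁻¹ = BB y u v (s a) := by
  rw [BB, BB, ← P.conj _ (c.iso_add hu hv (c.flip h)), ← P.conj _ hu, ← P.conj _ hv]; group

theorem b_res (hv : B v v = 0) (hu : B u u = 0) (h : B v u = 0) (b : F) :
    BB y u v (j b) = BB (TT i φ) u v b := by
  rw [BB, BB, P.res _ (c.iso_add hu hv (c.flip h)), P.res _ hu, P.res _ hv]

theorem b_eqv (g : sisom B) (hv : B v v = 0) (hu : B u u = 0) (h : B v u = 0) (a : A) :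
    φ g * BB y u v a * (φ g)⁻¹ = BB y (g.1 u) (g.1 v) a := by
  rw [BB, BB, ← map_add, ← P.eqv g _ (c.iso_add hu hv (c.flip h)), ← P.eqv g _ hu, ← P.eqv g _ hv]
  group

theorem b_odd {k : G} (h1 : k ∈ C[L]) (h2 : Commute k t) (h3 : Odd (orderOf k)) (hv : B v v = 0)
    (hu : B u u = 0) (h : B v u = 0) (a : A) : Commute k (BB y u v a) :=
  ((P.odd k h1 h2 h3 _ (c.iso_add hu hv (c.flip h)) a).mul_right
    (P.odd k h1 h2 h3 _ hu a)).mul_right (P.odd k h1 h2 h3 _ hv a)

theorem b_com (hv : B v v = 0) (hu : B u u = 0) (h : B v u = 0) (hw : B w w = 0) (h' : B v w = 0)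
    (e : B u w = 0) (a a' : A) : Commute (BB y u v a) (BB y w v a') := by
  have k : ∀ z, B z z = 0 → B v z = 0 → B u z = 0 → Commute (BB y u v a) (y z a') :=
    fun z h1 h2 h3 => ((P.com _ _ (c.iso_add hu hv (c.flip h)) h1 (by simp [h2, h3]) _ _).mul_left
      (P.com _ _ hu h1 h3 _ _)).mul_left (P.com _ _ hv h1 h2 _ _)
  exact ((k _ (c.iso_add hw hv (c.flip h')) (by simp [h', hv]) (by simp [e, c.flip h])).mul_right
    (k _ hw h' e)).mul_right (k _ hv hv (c.flip h))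

variable (U : ULine i B j y)
include U

theorem b_addl (hv : B v v = 0) (hu : B u u = 0) (h : B v u = 0) (hu' : B u' u' = 0)
    (h' : B v u' = 0) (e : B u u' = 0) (a : A) :
    BB y (u + u') v a = BB y u v a * BB y u' v a := by
  rw [b_symm c P hv hu h, b_symm c P hv hu' h',
    b_symm c P hv (c.iso_add hu hu' e) (by simp [h, h']), U.badd v u u' hv hu hu' h h' e]

theorem b_shift (hv : B v v = 0) (hu : B u u = 0) (h : B v u = 0) {d : E} {n : F}
    (hn : i n = d + σ d) (a : A) : BB y (u + d • v) v a = BB y u v a * y v (j n * a) := by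
  have h1 : B v (d • v) = 0 := by rw [sm_right, hv, mul_zero]
  rw [b_addl c P U hv hu h (isotropic_smul hv d) h1 (by rw [sm_right, c.flip h, mul_zero]),
    b_symm c P hv (isotropic_smul hv d) h1, U.bsh v hv d n hn]

theorem b_sc (hv : B v v = 0) (hu : B u u = 0) (h : B v u = 0) (b : F) (a : A) :
    BB y (i b • u) v a = BB y u v (j b * a) := by
  rw [b_symm c P hv (isotropic_smul hu _) (by rw [sm_right, h, mul_zero]), U.bsc v u hv hu h,
    b_symm c P hv hu h]

theorem b_mov (hv : B v v = 0) (hu : B u u = 0) (h : B v u = 0) (d : E) (a : A) :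
    BB y u (d • v) a = BB y (σ d • u) v a := by
  rw [U.bmov u v hu hv (c.flip h), c.qf.sq]

variable [FiniteDimensional E V] [Finite E]

theorem EE_b (hv : B v v = 0) (hu : B u u = 0) (h : B v u = 0) {d : E} (h' : B v w = 0)
    (hd : d + σ d = B w w) {n : F} (hn : i n = B w u + σ (B w u)) (a : A) :
    EE φ v w d * BB y u v a * (EE φ v w d)⁻¹ = BB y u v a * y v (j n * a) := by
  obtain ⟨g, h1, e⟩ := c.ee hv h' hd
  rw [← e, b_eqv c P g hv hu h, h1, h1, ← b_shift c P U hv hu h hn]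
  simp [h, hv, c.flip h']

omit U in
theorem Q_y (hv : Pt B v) {g : G} (hg : g ∈ QV φ v) (a : A) : Commute g (y v a) := by
  obtain ⟨g, ⟨h1, -⟩, rfl⟩ := hg
  have := P.eqv g v hv.1 a
  rw [h1 v (Submodule.mem_span_singleton_self v)] at this
  exact mul_inv_eq_iff_eq_mul.1 this

theorem Q_b (hv : Pt B v) {g : G} (hg : g ∈ QV φ v) (hu : B u u = 0) (h : B v u = 0) (a : A) :
    ∃ x, g * BB y u v a * g⁻¹ = BB y u v a * y v x := by
  obtain ⟨w, d, h1, h2, rfl⟩ := (c.mem_QV hv).1 hg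
  obtain ⟨n, hn⟩ := c.qf.exists_trace (B w u)
  exact ⟨_, EE_b c P U hv.1 hu h h1 h2 hn a⟩

omit U in
theorem b_EE (hv : B v v = 0) (hu : B u u = 0) (h : B v u = 0) (b : F) :
    BB y u v (j b) = EE φ v (i b • u) 0 := by rw [b_res c P hv hu h, c.BB_TT hu hv h]

omit U in
theorem b_Q (hv : Pt B v) (hu : B u u = 0) (h : B v u = 0) (b : F) : BB y u v (j b) ∈ QV φ v := by
  rw [b_EE c P hv.1 hu h]
  exact (c.mem_QV hv).2 ⟨_, 0, by rw [sm_right, h, mul_zero], by
    rw [isotropic_smul hu, map_zero, add_zero], rfl⟩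

omit P U in
theorem T_Q (hv : Pt B v) (b : F) : TT i φ v b ∈ QV φ v :=
  (c.mem_QV hv).2 ⟨0, i b, map_zero _, by rw [c.qf.σ_i, c.qf.add_self, map_zero],
    (UCtx.EE_zero v b).symm⟩

theorem cL (hv : B v v = 0) (hu : B u u = 0) (h : B v u = 0) (hw : B w w = 0) (h' : B v w = 0)
    {n : F} (hn : i n = B u w + σ (B u w)) (b : F) (a : A) :
    ⁅BB y u v (j b), BB y w v a⁆ = y v (j n * j b * a) := by
  rw [commutatorElement_def, b_EE c P hv hu h, EE_b c P U hv hw h' (n := n * b)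
    (by rw [sm_right, h, mul_zero]) (by rw [isotropic_smul hu, map_zero, add_zero])
    (by rw [map_mul, hn, sm_left, map_mul, c.qf.sq, c.qf.σ_i]; ring),
    (b_y c P hv hw h' _ _).eq, mul_inv_cancel_right, map_mul]

theorem cR (hv : B v v = 0) (hu : B u u = 0) (h : B v u = 0) (hw : B w w = 0) (h' : B v w = 0)
    {n : F} (hn : i n = B u w + σ (B u w)) (a : A) (b : F) :
    ⁅BB y u v a, BB y w v (j b)⁆ = y v (j n * j b * a) := by
  rw [← commutatorElement_inv, cL c P U hv hw h' hu h (n := n) (by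
    rw [hn, c.symm, c.symm, add_comm]), yinv P hv]

omit U in
/-- `R`, first half. -/
theorem r0 (ka : KitA i φ L) (ht : Tc L t) (hv : Pt B v) {D : G} (h1 : D ∈ C[QV φ v]) {b : F}
    (h2 : D * t * D⁻¹ = t * TT i φ v b) : ∃ a, ∃ k ∈ C[L], Commute k t ∧ D = y v a * k := by
  obtain ⟨ω, hω⟩ := P.tr
  have t2 : t * t = 1 := by rw [← pow_two, ← ht.t2, pow_orderOf_eq_one]
  have ti : t⁻¹ = t := inv_eq_of_mul_eq_one_right t2
  have h3 : y v (j b * ω) * t * (y v (j b * ω))⁻¹ = t * TT i φ v b := by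
    have h4 := P.conj v hv.1 (j b * ω)
    rw [map_mul, s_j P, hω, mul_add, mul_one, P.add v hv.1, P.res v hv.1] at h4
    calc _ = t * (t⁻¹ * y v (j b * ω) * t⁻¹⁻¹) * (y v (j b * ω))⁻¹ := by group
      _ = t * (y v (j b * ω) * TT i φ v b * (y v (j b * ω))⁻¹) := by rw [ti, h4]; group
      _ = _ := by rw [← P.res v hv.1, (yy P hv.1 _ _).eq, mul_inv_cancel_right]
  have h4 : Commute ((y v (j b * ω))⁻¹ * D) t := by
    refine mul_inv_eq_iff_eq_mul.1 ?_
    calc _ = (y v (j b * ω))⁻¹ * (D * t * D⁻¹) * y v (j b * ω) := by group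
      _ = t := by rw [h2, ← h3]; group
  obtain ⟨x, k, hk, e⟩ := c.cQ ka hv (ht.cN (mem_C1.2 h4))
    (mul_mem (inv_mem (mem_C fun g hg => (Q_y c P hv hg _).symm)) h1)
  refine ⟨j b * ω + j x, k, hk, ?_, ?_⟩
  · have h5 : Commute (TT i φ v x) t := (comm_of_C ht.tc (c.TT_mem hv.1 x)).symm
    have := h5.inv_left.mul_left h4
    rwa [e, inv_mul_cancel_left] at this
  · rw [P.add v hv.1, P.res v hv.1, mul_assoc, ← e, mul_inv_cancel_left]

omit U in
/-- `R`, second half. -/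
theorem r1 (r2 : R2 L t) (hv : Pt B v) {k : G} (h1 : k ∈ C[L]) (h2 : Commute k t) (h3 : Is2 k)
    (h4 : ∀ a, Commute k (y v a)) : k = 1 := by
  refine (r2 k h1 h2 h3).resolve_right fun e => ?_
  obtain ⟨ω, hω⟩ := P.tr
  have h5 := P.conj v hv.1 ω
  rw [← e, (h4 ω).eq, mul_inv_cancel_right, hω] at h5
  have h6 : (1 : A) = 0 := by linear_combination -(yinj P hv h5)
  exact one_ne_zero (c.TT_eq_one hv (a := 1) (by rw [← P.res v hv.1, map_one, h6, y0 P hv.1]))

variable [Finite G]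

/-- The commutator of two generators lies in the doubled transvection group. -/
theorem comm_mem (ka : KitA i φ L) (ht : Tc L t) (r2 : R2 L t) (hv : Pt B v) (hu : B u u = 0)
    (h : B v u = 0) (hw : B w w = 0) (h' : B v w = 0) {n : F} (hn : i n = B u w + σ (B u w))
    (a a' : A) {b b' : F} (hb : s a = a + j b) (hb' : s a' = a' + j b') :
    ∃ γ, ⁅BB y u v a, BB y w v a'⁆ = y v γ ∧
      s γ = γ + (j n * j b * s a' + j n * j b' * a) := by
  have by1 := b_y c P hv.1 hu h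
  have by2 := b_y c P hv.1 hw h'
  have hX : ∀ x, Commute ⁅BB y u v a, BB y w v a'⁆ (y v x) := fun x =>
    (((by1 _ x).mul_left (by2 _ x)).mul_left (by1 _ x).inv_left).mul_left (by2 _ x).inv_left
  have hQ : ⁅BB y u v a, BB y w v a'⁆ ∈ C[QV φ v] := mem_C fun g hg => by
    obtain ⟨x, e⟩ := Q_b c P U hv hg hu h a
    obtain ⟨x', e'⟩ := Q_b c P U hv hg hw h' a'
    refine (mul_inv_eq_iff_eq_mul.1 ?_ : g * _ = _ * g).symm
    have k1 : ⁅y v x, BB y w v a' * y v x'⁆ = 1 :=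
      ((by2 _ x).symm.mul_right (yy P hv.1 _ _)).commutator_eq
    have k2 : ⁅BB y u v a, y v x'⁆ = 1 := (by1 _ _).commutator_eq
    rw [conj_comm, e, e', mulL (by rw [k1]; exact Commute.one_right _), k1, one_mul,
      mulR (by rw [k2]; exact Commute.one_right _), k2, mul_one]
  have hT : t * ⁅BB y u v a, BB y w v a'⁆ * t⁻¹ = ⁅BB y u v a, BB y w v a'⁆ *
      y v (j n * j b * s a' + j n * j b' * a) := by
    have k1 := cL c P U hv.1 hu h hw h' hn b (s a')
    have k2 := cR c P U hv.1 hu h hw h' hn a b'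
    rw [conj_comm, b_t c P hv.1 hu h, b_t c P hv.1 hw h', hb, b_add c P hv.1 hu h,
      mulL (by rw [k1]; exact by1 _ _), k1]
    conv_lhs => rw [hb', b_add c P hv.1 hw h', mulR (by rw [k2]; exact by2 _ _), k2, ← hb']
    rw [← mul_assoc, ← (hX _).eq, mul_assoc, ← P.add v hv.1]
  obtain ⟨z, hz⟩ := (P.fix (j n * j b * s a' + j n * j b' * a)).1 (by
    simp only [map_add, map_mul, s_j P, hb, hb']
    linear_combination (j n * j b * j b') * P.two)
  have hT' : ⁅BB y u v a, BB y w v a'⁆ * t * ⁅BB y u v a, BB y w v a'⁆⁻¹ = t * TT i φ v z := by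
    have k1 : Commute t (TT i φ v z) := comm_of_C ht.tc (c.TT_mem hv.1 z)
    have k2 := hX (j z)
    rw [hz, P.res v hv.1] at hT
    rw [P.res v hv.1] at k2
    generalize ⁅BB y u v a, BB y w v a'⁆ = D at hT k2 ⊢
    calc D * t * D⁻¹ = D * (TT i φ v z * TT i φ v z) * t * D⁻¹ := by rw [c.TT_sq hv.1, mul_one]
      _ = D * TT i φ v z * (TT i φ v z * t) * D⁻¹ := by group
      _ = t * D * t⁻¹ * (t * TT i φ v z) * D⁻¹ := by rw [hT, k1.eq]
      _ = t * (D * TT i φ v z * D⁻¹) := by group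
      _ = _ := by rw [k2.eq, mul_inv_cancel_right]
  obtain ⟨γ, k, k1, k2, e⟩ := r0 c P ka ht hv hQ hT'
  have k3 : ∀ x, Commute k (y v x) := fun x => by
    have := (yy P hv.1 γ x).inv_left.mul_left (hX x)
    rwa [e, inv_mul_cancel_left] at this
  have k4 : BB y u v a * k * (BB y u v a)⁻¹ = k⁻¹ := by
    have h1 : BB y u v a * ⁅BB y u v a, BB y w v a'⁆ * (BB y u v a)⁻¹ =
        ⁅BB y u v a, BB y w v a'⁆⁻¹ := by
      rw [conj_comm, mul_inv_cancel_right, commutatorElement_inv]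
      simp only [commutatorElement_def, mul_inv_rev, b_inv c P hv.1 hu h,
        b_inv c P hv.1 hw h']
      calc _ = (BB y u v a * BB y u v a) * BB y w v a' * (BB y u v a * BB y u v a) * BB y u v a *
            BB y w v a' * BB y u v a := by group
        _ = _ := by rw [b_sq c P hv.1 hu h]; group
    rw [e, ← mul_assoc, (by1 _ _).eq, mul_inv_rev, yinv P hv.1, ((k3 γ).inv_left).eq, mul_assoc,
      mul_assoc, mul_right_inj, ← mul_assoc] at h1
    exact h1
  obtain ⟨m, hm⟩ := exists_odd_pow k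
  have k5 : k ^ 2 ^ m * k ^ 2 ^ m = 1 := by
    have h1 := (b_odd c P (pow_mem k1 _) (k2.pow_left _) hm hv.1 hu h a).eq
    have h2 : BB y u v a * k ^ 2 ^ m * (BB y u v a)⁻¹ = (k ^ 2 ^ m)⁻¹ := by
      rw [← conj_pow, k4, inv_pow]
    rw [← h1, mul_inv_cancel_right] at h2
    exact mul_eq_one_iff_eq_inv.2 h2
  rw [r1 c P r2 hv k1 k2 ⟨m, eq_one_of_is2 (is2_of_sq k5) hm⟩ k3, mul_one] at e
  refine ⟨γ, e, yinj P hv ?_⟩
  rw [← P.conj v hv.1, P.add v hv.1, ← e, hT]

end Par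

end Cfsg.Agent.H54V.H87.UQh
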