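import Cfsg.Agent.H54.VKit0
import Cfsg.Agent.H34.TwSta

/-!
# Unitary standard subgroups over the field of two elements: the action on the Heisenberg group
-/

set_option autoImplicit false
set_option linter.unusedSectionVars false

namespace Cfsg.Agent.H54V.H85.UStc

open Cfsg.Agent.H85

open Cfsg Cfsg.Agent.H63 Cfsg.Agent.H63.SL Cfsg.Agent.H34 Cfsg.Agent.H34.TW Cfsg.Agent.H34.UM
  Cfsg.Agent.H31 Subgroup Module
open Cfsg.Agent.H27.End (mem_C comm_of_C conj_mem is2_of_sq mem_C1)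

universe u v

section Field

variable {F E : Type v} [Field F] [Field E] {i : F →+* E} {σ : E ≃+* E}

theorem f2 (h : Nat.card F = 2) (a : F) : a = 0 ∨ a = 1 := by
  obtain ⟨y, -, hy⟩ := (Nat.card_eq_two_iff' (0 : F)).1 h
  by_cases h0 : a = 0
  · exact .inl h0
  · exact .inr ((hy a h0).trans (hy 1 one_ne_zero).symm)

theorem fix01 (q : QF i σ) (h : Nat.card F = 2) {a : E} (ha : σ a = a) : a = 0 ∨ a = 1 := by
  obtain ⟨b, rfl⟩ := (q.fix a).1 ha
  rcases f2 h b with rfl | rfl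
  · exact .inl (map_zero i)
  · exact .inr (map_one i)

theorem e4 (q : QF i σ) (h : Nat.card F = 2) {ω : E} (hω : σ ω = ω + 1) (a : E) :
    a = 0 ∨ a = 1 ∨ a = ω ∨ a = ω + 1 := by
  obtain ⟨x, y, rfl⟩ := q.exists_coord hω a
  rcases f2 h x with rfl | rfl <;> rcases f2 h y with rfl | rfl <;> simp [add_comm]

theorem norm1 (q : QF i σ) (h : Nat.card F = 2) {a : E} (ha : a ≠ 0) : a * σ a = 1 := by
  refine (fix01 q h (by rw [map_mul, q.sq, mul_comm])).resolve_left (mul_ne_zero ha ?_)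
  simpa using ha

theorem om_ne {ω : E} (hω : σ ω = ω + 1) : ω ≠ 0 := by
  rintro rfl; simp at hω

theorem om_sq (q : QF i σ) (h : Nat.card F = 2) {ω : E} (hω : σ ω = ω + 1) : ω * ω = ω + 1 := by
  have := norm1 q h (om_ne hω)
  rw [hω] at this
  linear_combination this - ω * q.two

theorem om_of (q : QF i σ) (h : Nat.card F = 2) {a : E} (h0 : a ≠ 0) (h1 : a ≠ 1) :
    σ a = a + 1 := by
  obtain ⟨ω, hω⟩ := q.tr
  rcases e4 q h hω a with rfl | rfl | rfl | rfl
  · exact absurd rfl h0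
  · exact absurd rfl h1
  · exact hω
  · rw [map_add, hω, map_one]

end Field

variable {F E V : Type v} [Field F] [Field E] [AddCommGroup V] [Module E V] {i : F →+* E}
  {σ : E ≃+* E} {B : V →ₛₗ[(σ : E →+* E)] V →ₗ[E] E} {G : Type u} [Group G] {φ : sisom B →* G}
  {L : Subgroup G} {v : V}

theorem ee_zero (v : V) : EE φ v 0 0 = 1 := by
  have := UCtx.EE_zero (i := RingHom.id E) (φ := φ) v 0
  rw [UCtx.TT_zero] at this
  exact this

theorem ee_one (i : F →+* E) (v : V) : EE φ v 0 1 = TT i φ v 1 := by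
  rw [← UCtx.EE_zero, map_one]

variable (φ) in
/-- `n` carries the coset with parameter `w` to the coset with parameter `w'`. -/
def R (v : V) (n : G) (w w' : V) : Prop :=
  B v w = 0 ∧ B v w' = 0 ∧ ∃ a a', a + σ a = B w w ∧ a' + σ a' = B w' w' ∧
    n * EE φ v w a * n⁻¹ = EE φ v w' a'

theorem R.symm {n : G} {w w' : V} (h : R φ v n w w') : R φ v n⁻¹ w' w := by
  obtain ⟨h1, h2, a, a', h3, h4, e⟩ := h
  exact ⟨h2, h1, a', a, h4, h3, by rw [← e]; group⟩

variable [FiniteDimensional E V] [Finite E] (c : UCtx i φ L) (hv : Pt B v)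
include c hv

theorem fix_inj {s s' : sisom B} (hs : s.1 v = v) (hs' : s'.1 v = v) (e : φ s = φ s') :
    s = s' := by
  obtain ⟨d, -, hd⟩ := c.scal (s := s⁻¹ * s') (by rw [map_mul, map_inv, e, inv_mul_cancel]; exact one_mem _)
  have h1 : d = 1 := by
    have := hd v
    rw [mul_app, hs', show (s⁻¹).1 v = v by conv_lhs => rw [← hs]; exact inv_app s v] at this
    exact (smul_left_injective E hv.2 (this.symm.trans (one_smul E v).symm))
  refine s_ext fun x => ?_
  have := hd x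
  rw [mul_app, h1, one_smul] at this
  conv_lhs => rw [← this, app_inv]

theorem ee_inj {w w' : V} {a a' : E} (h1 : B v w = 0) (h2 : a + σ a = B w w) (h1' : B v w' = 0)
    (h2' : a' + σ a' = B w' w') (e : EE φ v w a = EE φ v w' a') :
    ∃ d : E, w' = w + d • v ∧ a' = a + d + σ d := by
  obtain ⟨s, hs, e1⟩ := c.ee hv.1 h1 h2
  obtain ⟨s', hs', e2⟩ := c.ee hv.1 h1' h2'
  have k : s = s' := fix_inj c hv (by simp [hs, hv.1, c.flip h1]) (by simp [hs', hv.1, c.flip h1'])
    (by rw [e1, e2, e])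
  obtain ⟨v', -, h4⟩ := c.hyp hv
  have k1 := (hs v').symm.trans (k ▸ hs' v')
  rw [h4] at k1
  have k2 : w' = w + (B w v' + a - B w' v' - a') • v := by
    linear_combination (norm := module) -k1
  refine ⟨_, k2, ?_⟩
  have k3 := congrArg (fun x => B x v') k2
  simp only [map_add, LinearMap.add_apply, sm_left, h4, mul_one] at k3
  linear_combination k3 + (a' - a) * c.qf.two

theorem exists_adm (w : V) : ∃ a : E, a + σ a = B w w := by
  obtain ⟨ω, hω⟩ := c.qf.tr
  refine ⟨ω * B w w, ?_⟩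
  rw [map_mul, hω, c.symm]
  linear_combination (ω * B w w) * c.qf.two

theorem ee_add {w : V} {a b : E} (h1 : B v w = 0) (h2 : a + σ a = B w w) (hb : σ b = b) :
    EE φ v w (a + b) = EE φ v w a * EE φ v 0 b := by
  rw [c.EE_mul hv.1 h1 h2 (map_zero _) (by rw [hb, map_zero, c.qf.add_self])]
  simp

theorem norm_shift {w : V} (h : B v w = 0) (d : E) : B (w + d • v) (w + d • v) = B w w := by
  simp [sm_left, hv.1, h, c.flip h]

theorem perp_shift {w : V} (h : B v w = 0) (d : E) : B v (w + d • v) = 0 := by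
  simp [hv.1, h]

theorem R.add {n : G} {w w' u u' : V} (h : R φ v n w w') (h' : R φ v n u u') :
    R φ v n (w + u) (w' + u') := by
  obtain ⟨h1, h2, a, a', h3, h4, e⟩ := h
  obtain ⟨k1, k2, b, b', k3, k4, e'⟩ := h'
  refine ⟨by simp [h1, k1], by simp [h2, k2], a + b + B w u, a' + b' + B w' u', ?_, ?_, ?_⟩
  · simp only [map_add, LinearMap.add_apply, c.symm]
    linear_combination h3 + k3
  · simp only [map_add, LinearMap.add_apply, c.symm]
    linear_combination h4 + k4
  · rw [← c.EE_mul hv.1 h1 h3 k1 k3, ← c.EE_mul hv.1 h2 h4 k2 k4, ← e, ← e']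
    group

theorem R.shift {n : G} {w w' : V} (h : R φ v n w w') (d : E) : R φ v n w (w' + d • v) := by
  obtain ⟨h1, h2, a, a', h3, h4, e⟩ := h
  refine ⟨h1, perp_shift c hv h2 d, a, a' + d + σ d, h3, ?_, ?_⟩
  · rw [norm_shift c hv h2, map_add, map_add, c.qf.sq]
    linear_combination h4 + (d + σ d) * c.qf.two
  · rw [e, UCtx.EE_shift]
    congr 1
    linear_combination -(d + σ d) * c.qf.two

theorem R.shift' {n : G} {w w' : V} (h : R φ v n w w') (d : E) : R φ v n (w + d • v) w' := by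
  simpa using (h.symm.shift c hv d).symm

theorem R.zero (n : G) : R φ v n 0 0 :=
  ⟨map_zero _, map_zero _, 0, 0, by simp, by simp, by simp [ee_zero]⟩

theorem R.total {n : G} (hQ : n ∈ N[QV φ v]) {w : V} (h : B v w = 0) : ∃ w', R φ v n w w' := by
  obtain ⟨a, ha⟩ := exists_adm c hv w
  obtain ⟨w', a', h1, h2, e⟩ := (c.mem_QV hv).1 (conj_mem hQ ((c.mem_QV hv).2 ⟨w, a, h, ha, rfl⟩))
  exact ⟨w', h, h1, a, a', ha, h2, e⟩

theorem R.conj {n : G} {w w' : V} (h : R φ v n w w') {s s' : sisom B} (hs : s.1 v = v)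
    (hs' : s'.1 v = v) (e : n * φ s * n⁻¹ = φ s') : R φ v n (s.1 w) (s'.1 w') := by
  obtain ⟨h1, h2, a, a', h3, h4, e'⟩ := h
  refine ⟨by rw [← hs, iso_map, h1], by rw [← hs', iso_map, h2], a, a', by rw [iso_map, h3],
    by rw [iso_map, h4], ?_⟩
  have k := c.EE_conj s hv.1 h1 h3
  have k' := c.EE_conj s' hv.1 h2 h4
  rw [hs] at k
  rw [hs'] at k'
  rw [← k, ← k', ← e, ← e']
  group

variable (h2 : Nat.card F = 2)
include h2

theorem conj_fix {n : G} (hz : Commute n (TT i φ v 1)) {b : E} (hb : σ b = b) :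
    n * EE φ v 0 b * n⁻¹ = EE φ v 0 b := by
  rcases fix01 c.qf h2 hb with rfl | rfl
  · simp [ee_zero]
  · rw [ee_one i, hz.eq, mul_inv_cancel_right]

theorem R.all {n : G} (hz : Commute n (TT i φ v 1)) {w w' : V} (h : R φ v n w w') {b : E}
    (hb : b + σ b = B w w) : ∃ b', b' + σ b' = B w' w' ∧ n * EE φ v w b * n⁻¹ = EE φ v w' b' := by
  obtain ⟨h1, h3, a, a', h4, h5, e⟩ := h
  have k : σ (a + b) = a + b := by
    rw [map_add]; linear_combination h4 + hb + (B w w - a - b) * c.qf.two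
  refine ⟨a' + (a + b), ?_, ?_⟩
  · rw [map_add, k]; linear_combination h5 + (a + b) * c.qf.two
  · have k2 : b = a + (a + b) := by linear_combination -a * c.qf.two
    rw [ee_add c hv h3 h5 k, ← e, ← conj_fix c hv h2 hz k]
    conv_lhs => rw [k2, ee_add c hv h1 h4 k]
    group

theorem R.uniq {n : G} (hz : Commute n (TT i φ v 1)) {w w1 w2 : V} (h : R φ v n w w1)
    (h' : R φ v n w w2) : ∃ d : E, w2 = w1 + d • v := by
  obtain ⟨-, k2, a, a', k3, k4, e⟩ := id h
  obtain ⟨b', k5, e'⟩ := h'.all c hv h2 hz k3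
  exact (ee_inj c hv k2 k4 h'.2.1 k5 (e.symm.trans e')).imp fun _ h => h.1

theorem R.uniq' {n : G} (hz : Commute n (TT i φ v 1)) {w w1 w2 : V} (h : R φ v n w1 w)
    (h' : R φ v n w2 w) : ∃ d : E, w2 = w1 + d • v :=
  h.symm.uniq c hv h2 hz.inv_left h'.symm

theorem R.norm {n : G} (hz : Commute n (TT i φ v 1)) {w w' : V} (h : R φ v n w w') :
    B w' w' = B w w := by
  obtain ⟨h1, h3, a, a', h4, h5, e⟩ := h
  have k1 := c.EE_mul hv.1 h1 h4 h1 h4
  have k2 := c.EE_mul hv.1 h3 h5 h3 h5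
  rw [c.add_self, c.qf.add_self, zero_add] at k1 k2
  have k3 : EE φ v 0 (B w w) = EE φ v 0 (B w' w') := by
    rw [← conj_fix c hv h2 hz (c.symm w w), ← k1, ← k2, ← e]
    group
  obtain ⟨d, k4, k5⟩ := ee_inj c hv (map_zero _) (by simp [c.symm, c.qf.add_self]) (map_zero _)
    (by simp [c.symm, c.qf.add_self]) k3
  have : d = 0 := by simpa [hv.2] using k4.symm
  simpa [this] using k5

theorem R.tr {n : G} (hz : Commute n (TT i φ v 1)) {w w' u u' : V} (h : R φ v n w w')
    (h' : R φ v n u u') : B w' u' + σ (B w' u') = B w u + σ (B w u) := by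
  have k1 := h.norm c hv h2 hz
  have k2 := h'.norm c hv h2 hz
  have k3 := (h.add c hv h').norm c hv h2 hz
  simp only [map_add, LinearMap.add_apply] at k3
  rw [c.symm, c.symm]
  linear_combination k3 - k1 - k2

end Cfsg.Agent.H54V.H85.UStc
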